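import Cfsg.Agent.GenA.GN.Transport

/-!
Reading the lattice, the residual class and the kernels of a Sylow group inside an abstract copy of it.
-/

set_option autoImplicit false
set_option linter.unusedSectionVars false

namespace Cfsg.Agent.GenA.GN

open Subgroup Cfsg.Agent.CharP
open scoped commutatorElement

variable {S G : Type*} [Group S] [Group G] [Finite S] [Finite G] {p f : ℕ} {P : Subgroup G}

/-- The embedding given by an isomorphism onto a subgroup. -/
abbrev emb (e : S ≃* ↥P) : S →* G := P.subtype.comp e.toMonoidHom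

variable (e : S ≃* ↥P)

theorem emb_inj : Function.Injective (emb e) := P.subtype_injective.comp e.injective

theorem emb_mem (x : S) : emb e x ∈ P := (e x).2

theorem emb_surj {y : G} (hy : y ∈ P) : ∃ x, emb e x = y := ⟨e.symm ⟨y, hy⟩, by simp [emb]⟩

theorem map_emb_le (X : Subgroup S) : X.map (emb e) ≤ P := by
  rintro _ ⟨x, -, rfl⟩
  exact emb_mem e x

theorem map_emb_top : (⊤ : Subgroup S).map (emb e) = P :=
  le_antisymm (map_emb_le e _) fun y hy => by
    obtain ⟨x, rfl⟩ := emb_surj e hy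
    exact mem_map_of_mem _ (mem_top x)

theorem map_comap_emb {R : Subgroup G} (hR : R ≤ P) : (R.comap (emb e)).map (emb e) = R :=
  le_antisymm (map_comap_le _ _) fun y hy => by
    obtain ⟨x, rfl⟩ := emb_surj e (hR hy)
    exact ⟨x, hy, rfl⟩

theorem map_mapE (X : Subgroup S) : (mapE e X).map P.subtype = X.map (emb e) := Subgroup.map_map _ _ _

theorem cS_top (X : Subgroup S) : cS ⊤ X = centralizer (X : Set S) := top_inf_eq _

theorem cS_emb (X : Subgroup S) : cS P (X.map (emb e)) = (cS ⊤ X).map (emb e) := by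
  ext y
  constructor
  · intro hy
    obtain ⟨x, rfl⟩ := emb_surj e (cS_le hy)
    refine ⟨x, mem_cS.2 ⟨mem_top x, fun r hr => emb_inj e ?_⟩, rfl⟩
    rw [map_mul, map_mul]
    exact comm_cS hy (mem_map_of_mem _ hr)
  · rintro ⟨x, hx, rfl⟩
    refine mem_cS.2 ⟨emb_mem e x, ?_⟩
    rintro _ ⟨r, hr, rfl⟩
    rw [← map_mul, ← map_mul, comm_cS hx hr]

theorem map_centralizer_emb (X : Subgroup S) :
    (centralizer (X : Set S)).map (emb e) = P ⊓ centralizer (X.map (emb e) : Set G) := by
  rw [← cS_top, ← cS_emb]; rfl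

theorem map_center_emb : (center S).map (emb e) = P ⊓ centralizer (P : Set G) := by
  rw [← centralizer_univ, ← coe_top, map_centralizer_emb, map_emb_top]

theorem mem_emb_iff {X : Subgroup S} : Mem P f (X.map (emb e)) ↔ Mem ⊤ f X := by
  rw [Mem, Mem, cS_emb, card_map_of_injective (emb_inj e), card_map_of_injective (emb_inj e)]
  exact and_congr (iff_of_true (map_emb_le e X) le_top) Iff.rfl

theorem map_emb_le_iff {X Y : Subgroup S} : X.map (emb e) ≤ Y.map (emb e) ↔ X ≤ Y :=
  map_le_map_iff_of_injective (emb_inj e)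

theorem cover_emb_iff {K L : Subgroup S} :
    Cover P f (K.map (emb e)) (L.map (emb e)) ↔ Cover ⊤ f K L := by
  refine and_congr (mem_emb_iff e) (and_congr (mem_emb_iff e) (and_congr ?_ ?_))
  · rw [lt_iff_le_not_ge, lt_iff_le_not_ge, map_emb_le_iff, map_emb_le_iff]
  · constructor
    · intro h X hX h1 h2
      rcases h _ ((mem_emb_iff e).2 hX) ((map_emb_le_iff e).2 h1) ((map_emb_le_iff e).2 h2) with r | r
      · exact Or.inl (map_injective (emb_inj e) r)
      · exact Or.inr (map_injective (emb_inj e) r)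
    · intro h X hX h1 h2
      have hXe := map_comap_emb e hX.1
      rw [← hXe] at hX h1 h2 ⊢
      rcases h _ ((mem_emb_iff e).1 hX) ((map_emb_le_iff e).1 h1) ((map_emb_le_iff e).1 h2) with r | r
      · exact Or.inl (congrArg _ r)
      · exact Or.inr (congrArg _ r)

theorem map_fam_iff {A : Subgroup S} : Fam P f (A.map (emb e)) ↔ Fam ⊤ f A := by
  refine and_congr (iff_of_true (map_emb_le e A) le_top) (and_congr ?_ ?_)
  · constructor
    · intro h a ha b hb
      refine emb_inj e ?_
      rw [map_mul, map_mul]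
      exact h _ (mem_map_of_mem _ ha) _ (mem_map_of_mem _ hb)
    · rintro h _ ⟨a, ha, rfl⟩ _ ⟨b, hb, rfl⟩
      rw [← map_mul, ← map_mul, h a ha b hb]
  · rw [card_map_of_injective (emb_inj e)]

theorem opt_emb_iff [Fact p.Prime] {A : Subgroup S} : Opt p P f (A.map (emb e)) ↔ Opt p ⊤ f A := by
  refine and_congr (map_fam_iff e) ⟨fun h B hB => ?_, fun h B hB => ?_⟩
  · have := h _ ((map_fam_iff e).2 hB)
    rwa [om_map _ (emb_inj e), om_map _ (emb_inj e)] at this
  · have hBe := map_comap_emb e hB.1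
    rw [← hBe, om_map _ (emb_inj e), om_map _ (emb_inj e)]
    exact h _ ((map_fam_iff e).1 (hBe.symm ▸ hB))

include e in
theorem Res.emb (h : Res p (⊤ : Subgroup S) f) : Res p P f := by
  refine ⟨fun R hR => ?_, ?_, fun z hz => ?_, fun H hH => ?_⟩
  · rw [← map_comap_emb e hR, cS_emb, card_map_of_injective (emb_inj e), card_map_of_injective (emb_inj e)]
    exact h.bound _ le_top
  · have := (mem_emb_iff e).2 h.top
    rwa [map_emb_top] at this
  · rw [← map_emb_top e, map_emb_top e, ← map_emb_top e] at hz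
    have hz' : z ∈ (cS (⊤ : Subgroup S) ⊤).map (GN.emb e) := by
      rw [← cS_emb]
      simpa only [map_emb_top] using hz
    obtain ⟨z0, hz0, rfl⟩ := hz'
    rw [← map_pow, h.center z0 hz0, map_one]
  · have h1 : (⊤ : Subgroup S) ≤ H.comap (GN.emb e) := h.gen _ fun A hA =>
      map_le_iff_le_comap.1 (hH _ ((map_fam_iff e).2 hA))
    exact (map_emb_top e).ge.trans (map_le_iff_le_comap.2 h1)

theorem Ker.emb {T Qs Vs : Subgroup S} (h : Ker p (⊤ : Subgroup S) f T Qs Vs) :
    Ker p P f (T.map (emb e)) (Qs.map (emb e)) (Vs.map (emb e)) := by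
  refine ⟨fun s hs => ?_, ?_, (mem_emb_iff e).2 h.qmem, fun X hX hle => ?_, by rw [cS_emb, h.dual],
    fun K L hc => ?_⟩
  · obtain ⟨s0, rfl⟩ := emb_surj e hs
    refine mem_normalizer_fintype ?_
    rintro _ ⟨t, ht, rfl⟩
    exact ⟨_, (mem_normalizer_iff.1 (h.norm (mem_top s0)) t).1 ht, by simp⟩
  · rintro _ ⟨v, hv, rfl⟩
    rw [← map_pow, h.vexp v hv, map_one]
  · have hXe := map_comap_emb e hX.1
    rw [← hXe] at hX hle ⊢
    rcases h.two _ ((mem_emb_iff e).1 hX) ((map_emb_le_iff e).1 hle) with r | r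
    · exact Or.inl (congrArg _ r)
    · exact Or.inr (by rw [r, map_emb_top])
  · have hK := map_comap_emb e hc.1.1
    have hL := map_comap_emb e hc.2.1.1
    rw [← hK, ← hL] at hc ⊢
    rcases h.alt _ _ ((cover_emb_iff e).1 hc) with r | r | r
    · left; rw [← map_inf _ _ _ (emb_inj e)]; exact (map_emb_le_iff e).2 r
    · right; left; rw [← Subgroup.map_sup]; exact (map_emb_le_iff e).2 r
    · right; right
      rw [cS_emb]
      rintro _ ⟨x, hx, rfl⟩ _ ⟨y, hy, rfl⟩
      rw [← map_commutatorElement]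
      exact mem_map_of_mem _ (r x hx y hy)

theorem Ker.comap {T Qs Vs : Subgroup G} (h : Ker p P f T Qs Vs) :
    Ker p (⊤ : Subgroup S) f (T.comap (GN.emb e)) (Qs.comap (GN.emb e)) (Vs.comap (GN.emb e)) := by
  have hQ := map_comap_emb e h.qmem.1
  have hV := map_comap_emb e (h.dual ▸ cS_le : Vs ≤ P)
  refine ⟨fun s _ => ?_, fun v hv => emb_inj e (by rw [map_pow, h.vexp _ hv, map_one]),
    (mem_emb_iff e).1 (hQ.symm ▸ h.qmem), fun X hX hle => ?_, ?_, fun K L hc => ?_⟩
  · refine mem_normalizer_fintype fun t ht => ?_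
    show GN.emb e (s * t * s⁻¹) ∈ T
    rw [map_mul, map_mul, map_inv]
    exact (mem_normalizer_iff.1 (h.norm (emb_mem e s)) _).1 ht
  · rcases h.two _ ((mem_emb_iff e).2 hX) (hQ ▸ (map_emb_le_iff e).2 hle) with r | r
    · exact Or.inl (map_injective (emb_inj e) (r.trans hQ.symm))
    · exact Or.inr (map_injective (emb_inj e) (r.trans (map_emb_top e).symm))
  · refine map_injective (emb_inj e) ?_
    rw [← cS_emb, hQ, hV, h.dual]
  · rcases h.alt _ _ ((cover_emb_iff e).2 hc) with r | r | r
    · left; rw [← map_emb_le_iff e, map_inf _ _ _ (emb_inj e), hQ]; exact r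
    · right; left; rw [← map_emb_le_iff e, Subgroup.map_sup, hV]; exact r
    · right; right
      intro x hx y hy
      show GN.emb e ⁅x, y⁆ ∈ T
      rw [map_commutatorElement]
      exact r _ (mem_map_of_mem _ hx) _ (cS_emb e K ▸ mem_map_of_mem _ hy)

end Cfsg.Agent.GenA.GN
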