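import Cfsg.Agent.GenA.GN.Dat
import Cfsg.Agent.Lib.CharP.PushingUpMCL

/-!
A `p`-group in which the abelian subgroups of largest order generate and `|S| |Z(S)|` is the square of their
order, as a Sylow group in a pushing-up situation: first consequences.
-/

set_option autoImplicit false
set_option linter.unusedSectionVars false
set_option linter.style.haveILetI false

namespace Cfsg.Agent.GenA.GN

open Subgroup Cfsg.Agent.Classical.GL2 Cfsg.Agent.CharP Cfsg.Agent.CharP.PushOne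
open scoped MatrixGroups commutatorElement Pointwise

variable {G : Type*} [Group G] [Finite G] {p : ℕ} [hp : Fact p.Prime]

/-- An abelian subgroup of `S` of order squaring to `f`. -/
def Fam (S : Subgroup G) (f : ℕ) (A : Subgroup G) : Prop :=
  A ≤ S ∧ (∀ a ∈ A, ∀ b ∈ A, a * b = b * a) ∧ Nat.card A * Nat.card A = f

/-- The number of solutions of `x ^ p = 1` in `A`. -/
noncomputable def om (p : ℕ) (A : Subgroup G) : ℕ := Nat.card {x : G // x ∈ A ∧ x ^ p = 1}

/-- A member with as many solutions of `x ^ p = 1` as possible. -/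
def Opt (p : ℕ) (S : Subgroup G) (f : ℕ) (A : Subgroup G) : Prop :=
  Fam S f A ∧ ∀ A', Fam S f A' → om p A' ≤ om p A

/-- The residual class of `p`-groups. -/
structure Res (p : ℕ) (S : Subgroup G) (f : ℕ) : Prop where
  bound : Bound S f
  top : Mem S f S
  center : ∀ z ∈ cS S S, z ^ p = 1
  gen : ∀ H : Subgroup G, (∀ A, Fam S f A → A ≤ H) → S ≤ H

section Fam

variable {S A : Subgroup G} {f : ℕ}

theorem Fam.le_cS (hA : Fam S f A) : A ≤ cS S A :=
  fun x hx => mem_cS.2 ⟨hA.1 hx, fun r hr => hA.2.1 r hr x hx⟩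

theorem Fam.mem (hb : Bound S f) (hA : Fam S f A) : Mem S f A ∧ cS S A = A := by
  have h1 := hb A hA.1
  have e : cS S A = A := (Subgroup.eq_of_le_of_card_ge hA.le_cS
    (Nat.le_of_mul_le_mul_left (hA.2.2 ▸ h1) Nat.card_pos)).symm
  exact ⟨⟨hA.1, by rw [e, hA.2.2]⟩, e⟩

theorem Fam.of_mem (hX : Mem S f A) (e : cS S A = A) : Fam S f A :=
  ⟨hX.1, fun _ ha b hb => comm_cS (e.ge hb : b ∈ cS S A) ha, by
    have := hX.2; rwa [e] at this⟩

/-- The solutions of `x ^ p = 1` in an abelian subgroup. -/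
def omSub (p : ℕ) (A : Subgroup G) (h : ∀ a ∈ A, ∀ b ∈ A, a * b = b * a) : Subgroup G where
  carrier := {x | x ∈ A ∧ x ^ p = 1}
  one_mem' := ⟨one_mem _, one_pow _⟩
  mul_mem' := fun {a b} ha hb => ⟨mul_mem ha.1 hb.1, by
    rw [(show Commute a b from h a ha.1 b hb.1).mul_pow, ha.2, hb.2, one_mul]⟩
  inv_mem' := fun {a} ha => ⟨inv_mem ha.1, by rw [inv_pow, ha.2, inv_one]⟩

end Fam

/-- The data of the proof before a conjugate is chosen. -/
structure Base (p : ℕ) (F : Type) [Field F] [Fintype F] (S : Subgroup G) (φ : G →* PSL(2, F))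
    (f : ℕ) : Prop where
  dat : Dat p F S φ
  res : Res p S f
  noncentral : ¬ ∀ z ∈ S ⊓ centralizer (S : Set G), ∀ g : G, g * z = z * g

/-- `Ω₁Z(O_p(G))`. -/
abbrev vG (p : ℕ) (G : Type*) [Group G] : Subgroup G := PushingUpCL.omegaCore p G

/-- The centralised part of `Ω₁Z(O_p(G))`. -/
abbrev v0 (p : ℕ) (G : Type*) [Group G] : Subgroup G := vG p G ⊓ centralizer ((⊤ : Subgroup G) : Set G)

theorem mem_v0 {v : G} : v ∈ v0 p G ↔ v ∈ vG p G ∧ ∀ x : G, x * v = v * x := by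
  simp [v0, mem_centralizer_iff]

instance v0_normal : (v0 p G).Normal :=
  ⟨fun x hx g => by rw [(mem_v0.1 hx).2 g, mul_inv_cancel_right]; exact hx⟩

variable {F : Type} [Field F] [Fintype F] {S : Subgroup G} {φ : G →* PSL(2, F)} {f : ℕ}

namespace Base

variable (h : Base p F S φ f)
include h

theorem hQS : Cfsg.pCore p G ≤ S := h.dat.core_le

theorem hVS : vG p G ≤ S := fun _ hv => h.hQS hv.1

theorem hCS : centralizer (vG p G : Set G) ⊔ S ≠ ⊤ :=
  fun e => h.noncentral (PushingUpCL.central_of_sup h.dat.situation e)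

theorem center_le_V : cS S S ≤ vG p G := fun _ hz =>
  ⟨(PushingUpCL.center_le_pCore h.dat.situation).1 hz,
    centralizer_le (SetLike.coe_subset_coe.2 h.hQS) hz.2, h.res.center _ hz⟩

theorem center_le {X : Subgroup G} (hX : Mem S f X) : cS S S ≤ X :=
  (cS_anti (cS_le (S := S) (R := X))).trans (hX.cS h.res.bound).2.le

theorem core_spec : Mem S f (Cfsg.pCore p G) ∧ cS S (Cfsg.pCore p G) = vG p G := by
  obtain h0 | ⟨-, hoff⟩ := PushingUpCL.dichotomy h.dat.situation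
  · exact absurd h0 h.noncentral
  have h1 := hoff S le_rfl
  have e1 : vG p G ⊓ centralizer (S : Set G) = cS S S :=
    le_antisymm (inf_le_inf_right _ h.hVS) (le_inf h.center_le_V inf_le_right)
  rw [e1, inf_eq_right.2 h.hQS] at h1
  have hle : vG p G ≤ cS S (Cfsg.pCore p G) := fun v hv => ⟨h.hVS hv, hv.2.1⟩
  have h2 := h.res.bound _ h.hQS
  have h3 : Nat.card ↥(cS S (Cfsg.pCore p G)) ≤ Nat.card ↥(vG p G) :=
    Nat.le_of_mul_le_mul_left (h2.trans (h.res.top.2 ▸ h1)) Nat.card_pos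
  have e := (Subgroup.eq_of_le_of_card_ge hle h3).symm
  refine ⟨⟨h.hQS, le_antisymm h2 ?_⟩, e⟩
  rw [e, ← h.res.top.2]
  exact h1

theorem Q_mem : Mem S f (Cfsg.pCore p G) := h.core_spec.1

theorem cS_Q : cS S (Cfsg.pCore p G) = vG p G := h.core_spec.2

theorem V_spec : Mem S f (vG p G) ∧ cS S (vG p G) = Cfsg.pCore p G := by
  have := h.Q_mem.cS h.res.bound
  rwa [h.cS_Q] at this

theorem Z_mem : Mem S f (cS S S) := (h.res.top.cS h.res.bound).1

theorem commV {v w : G} (hv : v ∈ vG p G) (hw : w ∈ Cfsg.pCore p G) : w * v = v * w :=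
  mem_centralizer_iff.1 hv.2.1 w hw

theorem S_not_le : ¬ S ≤ Cfsg.pCore p G := fun hle => by
  have h1 := h.dat.card_S
  have h2 := card_le_of_le hle
  have h3 : 2 ≤ Nat.card F := Finite.one_lt_card
  have h4 : 0 < Nat.card ↥(Cfsg.pCore p G) := Nat.card_pos
  nlinarith

theorem exists_fam_out : ∃ A, Fam S f A ∧ ¬ A ≤ Cfsg.pCore p G := by
  by_contra hno
  push Not at hno
  exact h.S_not_le (h.res.gen _ hno)

/-- `|S : O_p(G)| = |V : Z|`, every fixed point space is `Z`, and `|V : V₀|` is at least the square. -/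
theorem fix_spec :
    (∀ b ∈ S, b ∉ Cfsg.pCore p G → ∀ v ∈ vG p G, b * v = v * b → v ∈ cS S S) ∧
      (cS S S).relIndex (vG p G) = (Cfsg.pCore p G).relIndex S ∧
      (Cfsg.pCore p G).relIndex S * (Cfsg.pCore p G).relIndex S ≤ (v0 p G).relIndex (vG p G) := by
  obtain ⟨q, hq, hb⟩ := PushingUpCL.sharp h.dat.situation h.hCS
  have e0 : (cS S S).relIndex (vG p G) = (Cfsg.pCore p G).relIndex S := by
    have e1 := PushingUpCL.card_mul_relIndex h.center_le_V
    have e2 := PushingUpCL.card_mul_relIndex h.hQS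
    have e3 := h.res.top.2
    have e4 := h.Q_mem.2
    rw [h.cS_Q] at e4
    refine Nat.eq_of_mul_eq_mul_left
      (Nat.mul_pos (Nat.card_pos (α := ↥(Cfsg.pCore p G))) (Nat.card_pos (α := ↥(cS S S)))) ?_
    calc Nat.card ↥(Cfsg.pCore p G) * Nat.card ↥(cS S S) * (cS S S).relIndex (vG p G)
        = Nat.card ↥(Cfsg.pCore p G) * Nat.card ↥(vG p G) := by rw [mul_assoc, e1]
      _ = Nat.card S * Nat.card ↥(cS S S) := by rw [e4, e3]
      _ = _ := by rw [← e2]; ring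
  have hkey : ∀ b ∈ S, b ∉ Cfsg.pCore p G → vG p G ⊓ centralizer ({b} : Set G) = cS S S := by
    intro b hbS hbQ
    have hle : cS S S ≤ vG p G ⊓ centralizer ({b} : Set G) :=
      le_inf h.center_le_V fun z hz => mem_centralizer_singleton_iff.2 (comm_cS hz hbS).symm
    have h1 := (hb b hbS hbQ).1
    have e1 := PushingUpCL.card_mul_relIndex h.center_le_V
    have e2 := PushingUpCL.card_mul_relIndex
      (inf_le_left : vG p G ⊓ centralizer ({b} : Set G) ≤ vG p G)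
    refine (Subgroup.eq_of_le_of_card_ge hle (Nat.le_of_mul_le_mul_right ?_
      (PushingUpCL.relIndex_pos' (cS S S) (vG p G)))).symm
    rw [e1, ← e2]
    exact Nat.mul_le_mul_left _ (e0.le.trans (hq.trans h1))
  refine ⟨fun b hbS hbQ v hv hc => ?_, e0, ?_⟩
  · rw [← hkey b hbS hbQ]
    exact ⟨hv, mem_centralizer_singleton_iff.2 hc.symm⟩
  · obtain ⟨b, hbS, hbQ⟩ := Set.not_subset.1 h.S_not_le
    exact (Nat.mul_le_mul hq hq).trans (hb b hbS hbQ).2

theorem fixV {b v : G} (hb : b ∈ S) (hbQ : b ∉ Cfsg.pCore p G) (hv : v ∈ vG p G) (hc : b * v = v * b) :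
    v ∈ cS S S := h.fix_spec.1 b hb hbQ v hv hc

theorem two_top {X : Subgroup G} (hX : Mem S f X) (hQX : Cfsg.pCore p G ≤ X) :
    X = Cfsg.pCore p G ∨ X = S := by
  by_cases hle : X ≤ Cfsg.pCore p G
  · exact Or.inl (le_antisymm hle hQX)
  refine Or.inr ?_
  obtain ⟨b, hbX, hbQ⟩ := Set.not_subset.1 hle
  have hc : cS S X ≤ cS S S := fun v hv => h.fixV (hX.1 hbX) hbQ
    (h.cS_Q ▸ cS_anti hQX hv) (comm_cS hv hbX)
  rw [← (hX.cS h.res.bound).2, le_antisymm hc (cS_anti hX.1), (h.res.top.cS h.res.bound).2]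

theorem two_bottom {X : Subgroup G} (hX : Mem S f X) (hXV : X ≤ vG p G) :
    X = cS S S ∨ X = vG p G := by
  have hX' := hX.cS h.res.bound
  rcases h.two_top hX'.1 (h.V_spec.2 ▸ cS_anti hXV) with e | e
  · right; rw [← hX'.2, e, h.cS_Q]
  · left; rw [← hX'.2, e]

theorem V_ne_Z : vG p G ≠ cS S S := fun e => by
  have h1 := h.V_spec.2
  rw [e, (h.res.top.cS h.res.bound).2] at h1
  exact h.S_not_le h1.le

theorem cover_V {A : Subgroup G} (hA : Fam S f A) (hAQ : ¬ A ≤ Cfsg.pCore p G) :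
    A ⊓ vG p G = cS S S ∧ Cover S f A (A ⊔ vG p G) := by
  have hb := h.res.bound
  have hAm := (hA.mem hb).1
  obtain ⟨b, hbA, hbQ⟩ := Set.not_subset.1 hAQ
  have e : A ⊓ vG p G = cS S S := le_antisymm
    (fun v hv => h.fixV (hA.1 hbA) hbQ hv.2 (hA.2.1 b hbA v hv.1))
    (le_inf (h.center_le hAm) h.center_le_V)
  refine ⟨e, hAm, hAm.sup hb h.V_spec.1, lt_of_le_of_ne le_sup_left fun e2 => ?_, fun X hX h1 h2 => ?_⟩
  · exact h.V_ne_Z (by rw [← e, inf_eq_right.2 (e2 ▸ le_sup_right)])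
  · have h3 : X = A ⊔ X ⊓ vG p G := by
      rw [← hAm.modular hb h.V_spec.1 h1, inf_eq_left.2 h2]
    rcases h.two_bottom (hX.inf hb h.V_spec.1) inf_le_right with e2 | e2
    · left; rw [h3, e2, sup_eq_left.2 (h.center_le hAm)]
    · right; rw [h3, e2]

theorem comm_V {v s : G} (hv : v ∈ vG p G) (hs : s ∈ S) : ⁅v, s⁆ ∈ cS S S := by
  obtain ⟨A, hA, hAQ⟩ := h.exists_fam_out
  obtain ⟨e, hcov⟩ := h.cover_V hA hAQ
  have hb := h.res.bound
  have hsup : A ⊔ Cfsg.pCore p G = S := by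
    rcases h.two_top ((hA.mem hb).1.sup hb h.Q_mem) le_sup_right with e2 | e2
    · exact absurd (e2 ▸ le_sup_left) hAQ
    · exact e2
  obtain ⟨a, ha, x, hx, rfl⟩ := (hA.mem hb).1.exists_mul hb h.Q_mem (hsup.ge hs : s ∈ A ⊔ Cfsg.pCore p G)
  have hn := hcov.normal hb (mem_sup_right hv : v ∈ A ⊔ vG p G)
  have h1 : ⁅v, a * x⁆ = ⁅v, a⁆ := by
    rw [commutatorElement_def, commutatorElement_def]
    have hc : x * v⁻¹ = v⁻¹ * x := (h.commV ((vG p G).inv_mem hv) hx)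
    calc v * (a * x) * v⁻¹ * (a * x)⁻¹ = v * a * (x * v⁻¹) * x⁻¹ * a⁻¹ := by group
      _ = v * a * (v⁻¹ * x) * x⁻¹ * a⁻¹ := by rw [hc]
      _ = _ := by group
  rw [h1, ← e]
  refine ⟨?_, ?_⟩
  · rw [commutatorElement_def]
    exact A.mul_mem ((mem_normalizer_iff.1 hn a).1 ha) (A.inv_mem ha)
  · rw [commutatorElement_def, show v * a * v⁻¹ * a⁻¹ = v * (a * v⁻¹ * a⁻¹) by group]
    exact (vG p G).mul_mem hv ((inferInstance : (vG p G).Normal).conj_mem _ ((vG p G).inv_mem hv) a)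

section member

variable {A : Subgroup G} (hA : Fam S f A) (hAQ : ¬ A ≤ Cfsg.pCore p G)
include hA hAQ

theorem sup_Q : A ⊔ Cfsg.pCore p G = S := by
  have hb := h.res.bound
  rcases h.two_top ((hA.mem hb).1.sup hb h.Q_mem) le_sup_right with e2 | e2
  · exact absurd (e2 ▸ le_sup_left) hAQ
  · exact e2

theorem exists_split {s : G} (hs : s ∈ S) : ∃ a ∈ A, ∃ x ∈ Cfsg.pCore p G, s = a * x :=
  (hA.mem h.res.bound).1.exists_mul h.res.bound h.Q_mem ((h.sup_Q hA hAQ).ge hs : s ∈ A ⊔ Cfsg.pCore p G)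

/-- The exchanged member. -/
theorem exchange : Fam S f ((A ⊓ Cfsg.pCore p G) ⊔ vG p G) := by
  have hb := h.res.bound
  have hAm := hA.mem hb
  refine Fam.of_mem ((hAm.1.inf hb h.Q_mem).sup hb h.V_spec.1) ?_
  rw [cS_sup, hAm.1.cS_inf hb h.Q_mem, hAm.2, h.cS_Q, h.V_spec.2, inf_comm,
    hAm.1.modular' hb h.V_spec.1 (fun v hv => hv.1), inf_comm]

theorem cS_U : cS S (A ⊓ Cfsg.pCore p G) = A ⊔ vG p G := by
  rw [(hA.mem h.res.bound).1.cS_inf h.res.bound h.Q_mem, (hA.mem h.res.bound).2, h.cS_Q]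

theorem U_inf_V : (A ⊓ Cfsg.pCore p G) ⊓ vG p G = cS S S := by
  rw [inf_assoc, inf_eq_right.2 (show vG p G ≤ Cfsg.pCore p G from fun v hv => hv.1), (h.cover_V hA hAQ).1]

end member

theorem opt_exists : ∃ A, Opt p S f A := by
  obtain ⟨A, hA, -⟩ := h.exists_fam_out
  obtain ⟨B, hB, hmax⟩ := Set.exists_max_image {A : Subgroup G | Fam S f A} (om p) (Set.toFinite _) ⟨A, hA⟩
  exact ⟨B, hB, hmax⟩

/-- A member with most solutions of `x ^ p = 1` is generated by them and its intersection with `O_p(G)`. -/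
theorem opt_spec {A : Subgroup G} (hA : Opt p S f A) (hAQ : ¬ A ≤ Cfsg.pCore p G) :
    Opt p S f ((A ⊓ Cfsg.pCore p G) ⊔ vG p G) ∧
      ∀ s ∈ S, ∃ a ∈ A, a ^ p = 1 ∧ a⁻¹ * s ∈ Cfsg.pCore p G := by
  set Q := Cfsg.pCore p G
  have hb := h.res.bound
  have hB := h.exchange hA.1 hAQ
  set W := omSub p A hA.1.2.1
  set W' := omSub p ((A ⊓ Q) ⊔ vG p G) hB.2.1
  have hW : Nat.card W = om p A := rfl
  have hW' : Nat.card W' = om p ((A ⊓ Q) ⊔ vG p G) := rfl
  have h1 : (W ⊓ Q) ⊔ vG p G ≤ W' := sup_le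
    (fun x hx => ⟨mem_sup_left ⟨hx.1.1, hx.2⟩, hx.1.2⟩) fun v hv => ⟨mem_sup_right hv, hv.2.2⟩
  have h2 : (W ⊓ Q) ⊓ vG p G ≤ cS S S := fun x hx =>
    (h.cover_V hA.1 hAQ).1.le ⟨hx.1.1.1, hx.2⟩
  have h3 := CharP.card_mul_le_card_sup_mul_card_inf (W ⊓ Q) (vG p G)
  have e1 := PushingUpCL.card_mul_relIndex (inf_le_left : W ⊓ Q ≤ W)
  rw [inf_relIndex_left] at e1
  have e2 := PushingUpCL.card_mul_relIndex h.center_le_V
  rw [h.fix_spec.2.1] at e2
  have hWS : W ≤ S := fun x hx => hA.1.1 hx.1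
  have hrel : Q.relIndex W ≤ Q.relIndex S :=
    relIndex_le_of_le_right hWS (PushingUpCL.relIndex_pos' _ _).ne'
  have h4 : Nat.card ↥(W ⊓ Q) * Q.relIndex S ≤ Nat.card W' := by
    refine Nat.le_of_mul_le_mul_right ?_ (Nat.card_pos (α := ↥(cS S S)))
    calc Nat.card ↥(W ⊓ Q) * Q.relIndex S * Nat.card ↥(cS S S)
        = Nat.card ↥(W ⊓ Q) * Nat.card ↥(vG p G) := by rw [← e2]; ring
      _ ≤ _ := h3.trans (Nat.mul_le_mul (Subgroup.card_le_of_le h1) (Subgroup.card_le_of_le h2))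
  have h5 : Nat.card W ≤ Nat.card W' := by
    rw [← e1]
    exact (Nat.mul_le_mul_left _ hrel).trans h4
  have h6 := hA.2 _ hB
  refine ⟨⟨hB, fun A' hA' => (hA.2 A' hA').trans (hW ▸ hW' ▸ h5)⟩, ?_⟩
  have h7 : Q.relIndex W = Q.relIndex S := by
    refine le_antisymm hrel (Nat.le_of_mul_le_mul_left ?_ (Nat.card_pos (α := ↥(W ⊓ Q))))
    rw [e1]
    exact h4.trans (hW' ▸ hW ▸ h6)
  have h8 : W ⊔ Q = S := by
    refine Subgroup.eq_of_le_of_card_ge (sup_le hWS h.hQS) ?_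
    have a1 := PushingUpCL.card_mul_relIndex h.hQS
    have a2 := PushingUpCL.card_mul_relIndex (le_sup_right : Q ≤ W ⊔ Q)
    rw [relIndex_sup_right, h7] at a2
    exact (a2.trans_le le_rfl).trans' a1.ge
  intro s hs
  have hs' : s ∈ W ⊔ Q := h8.ge hs
  rw [mem_sup_of_normal_right] at hs'
  obtain ⟨a, ha, x, hx, rfl⟩ := hs'
  exact ⟨a, ha.1, ha.2, by simpa using hx⟩

/-! ### An opposite conjugate -/

variable {g : G} (hg : S ⊔ cj g S = ⊤)
include hg

theorem conj_opp {b : G} (hb : b ∈ S) (hbQ : b ∉ Cfsg.pCore p G) : cj g S ⊔ cj (b * g) S = ⊤ := by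
  have h1 := h.dat.opp_shift (g := g) hg hb hbQ
  have h2 := congrArg (cj g) h1
  rw [show S ⊔ S.map (MulAut.conj (g⁻¹ * b * g)).toMonoidHom = S ⊔ cj (g⁻¹ * b * g) S from rfl,
    cj_sup, cj_cj, show cj g (⊤ : Subgroup G) = ⊤ from cj_normal g ⊤] at h2
  rw [← h2, show g * (g⁻¹ * b * g) = b * g by group]

theorem v0_eq : v0 p G = cS S S ⊓ cj g (cS S S) := by
  refine le_antisymm (fun v hv => ?_) fun v hv => mem_v0.2 ⟨h.center_le_V hv.1, fun x => ?_⟩
  · have hz : ∀ w : G, w ∈ v0 p G → w ∈ cS S S := fun w hw =>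
      mem_cS.2 ⟨h.hVS (mem_v0.1 hw).1, fun r _ => (mem_v0.1 hw).2 r⟩
    exact ⟨hz v hv, mem_cj.2 (hz _ (by simpa using v0_normal.conj_mem v hv g⁻¹))⟩
  · have : (S ⊔ cj g S) ≤ centralizer ({v} : Set G) := by
      refine sup_le (fun s hs => mem_centralizer_singleton_iff.2 (comm_cS hv.1 hs)) ?_
      rintro _ ⟨s, hs, rfl⟩
      obtain ⟨z, hz, rfl⟩ := hv.2
      refine mem_centralizer_singleton_iff.2 ?_
      show MulAut.conj g s * MulAut.conj g z = MulAut.conj g z * MulAut.conj g s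
      rw [← map_mul, ← map_mul, comm_cS hz hs]
    exact mem_centralizer_singleton_iff.1 (this (hg.ge (mem_top x)))

theorem cjZ_le_V : cj g (cS S S) ≤ vG p G := (cj_mono h.center_le_V).trans (cj_normal g (vG p G)).le

theorem zz_spec : cS S S ⊔ cj g (cS S S) = vG p G ∧
    (v0 p G).relIndex (cS S S) = (Cfsg.pCore p G).relIndex S ∧
    (v0 p G).relIndex (cj g (cS S S)) = (Cfsg.pCore p G).relIndex S := by
  set q := (Cfsg.pCore p G).relIndex S
  set Z := cS S S
  have e0 := h.v0_eq hg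
  have hq : 0 < q := PushingUpCL.relIndex_pos' _ _
  have hv0Z : v0 p G ≤ Z := e0.trans_le inf_le_left
  have hv0Z' : v0 p G ≤ cj g Z := e0.trans_le inf_le_right
  have e1 := PushingUpCL.card_mul_relIndex h.center_le_V
  rw [h.fix_spec.2.1] at e1
  have e2 := PushingUpCL.card_mul_relIndex hv0Z
  have e3 := PushingUpCL.card_mul_relIndex (hv0Z.trans h.center_le_V)
  have e4 := PushingUpCL.card_mul_relIndex hv0Z'
  rw [card_cj, ← e2] at e4
  have hr' := Nat.eq_of_mul_eq_mul_left Nat.card_pos e4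
  have h1 := CharP.card_mul_le_card_sup_mul_card_inf Z (cj g Z)
  rw [card_cj, ← e0] at h1
  have hsupV : Z ⊔ cj g Z ≤ vG p G := sup_le h.center_le_V (h.cjZ_le_V hg)
  have h2 := h1.trans (Nat.mul_le_mul_right _ (Subgroup.card_le_of_le hsupV))
  have hlo : q ≤ (v0 p G).relIndex Z := by
    have e5 : (v0 p G).relIndex (vG p G) = (v0 p G).relIndex Z * q := by
      refine Nat.eq_of_mul_eq_mul_left (Nat.card_pos (α := ↥(v0 p G))) ?_
      rw [e3, ← mul_assoc, e2, e1]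
    exact Nat.le_of_mul_le_mul_right (e5 ▸ h.fix_spec.2.2) hq
  have hhi : (v0 p G).relIndex Z ≤ q := by
    refine Nat.le_of_mul_le_mul_left ?_ (Nat.mul_pos (Nat.card_pos (α := ↥(v0 p G))) (Nat.card_pos (α := ↥Z)))
    calc Nat.card ↥(v0 p G) * Nat.card Z * (v0 p G).relIndex Z = Nat.card Z * Nat.card Z := by
          rw [mul_right_comm, e2]
      _ ≤ _ := h2
      _ = _ := by rw [← e1]; ring
  refine ⟨Subgroup.eq_of_le_of_card_ge hsupV (Nat.le_of_mul_le_mul_right ?_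
      (Nat.card_pos (α := ↥(v0 p G)))), le_antisymm hhi hlo, hr'.trans (le_antisymm hhi hlo)⟩
  calc Nat.card ↥(vG p G) * Nat.card ↥(v0 p G) = Nat.card Z * (q * Nat.card ↥(v0 p G)) := by
        rw [← e1]; ring
    _ ≤ Nat.card Z * Nat.card Z := Nat.mul_le_mul_left _ (by
        rw [← e2, mul_comm q]; exact Nat.mul_le_mul_left _ hlo)
    _ ≤ _ := h1

/-- Commutators with elements outside the core are central only from `Z(S)`. -/
theorem nat_comm {v b : G} (hv : v ∈ vG p G) (hb : b ∈ S) (hbQ : b ∉ Cfsg.pCore p G)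
    (hc : ⁅b, v⁆ ∈ v0 p G) : v ∈ cS S S := by
  have hv' : v ∈ cS S S ⊔ cj g (cS S S) := (h.zz_spec hg).1.ge hv
  rw [← SetLike.mem_coe, coe_mul_of_left_le_normalizer_right] at hv'
  swap
  · intro x hx
    refine centralizer_le_normalizer _ fun y hy => ?_
    exact h.commV (h.center_le_V hx) (h.cjZ_le_V hg hy).1
  obtain ⟨z, hz, z', hz', rfl⟩ := hv'
  have hbz : b * z = z * b := comm_cS hz hb
  have hd : ⁅b, z'⁆ ∈ v0 p G := by
    have e : ⁅b, z'⁆ = z⁻¹ * ⁅b, z * z'⁆ * z⁻¹⁻¹ := by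
      rw [commutatorElement_def, commutatorElement_def]
      calc b * z' * b⁻¹ * z'⁻¹ = z⁻¹ * (z * b) * z' * b⁻¹ * z'⁻¹ := by group
        _ = z⁻¹ * (b * z) * z' * b⁻¹ * z'⁻¹ := by rw [hbz]
        _ = _ := by group
    exact e ▸ v0_normal.conj_mem _ hc _
  have hz0 : z' ∈ v0 p G := by
    refine mem_v0.2 ⟨h.cjZ_le_V hg hz', fun x => ?_⟩
    have key : cj g S ⊔ cj (b⁻¹ * g) S ≤ centralizer ({z'} : Set G) := by
      obtain ⟨z0, hz0, rfl⟩ := hz'
      refine sup_le ?_ fun s hs => ?_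
      · rintro _ ⟨s, hs, rfl⟩
        refine mem_centralizer_singleton_iff.2 ?_
        show MulAut.conj g s * MulAut.conj g z0 = MulAut.conj g z0 * MulAut.conj g s
        rw [← map_mul, ← map_mul, comm_cS hz0 hs]
      · set z' := (MulAut.conj g).toMonoidHom z0
        refine mem_centralizer_singleton_iff.2 ?_
        have h1 : b * s * b⁻¹ ∈ cj g S := by
          obtain ⟨t, ht, rfl⟩ := hs
          refine mem_cj.2 ?_
          show g⁻¹ * (b * (b⁻¹ * g * t * (b⁻¹ * g)⁻¹) * b⁻¹) * g ∈ S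
          simpa [mul_assoc] using ht
        have h2 : (b * s * b⁻¹) * z' = z' * (b * s * b⁻¹) := by
          obtain ⟨t, ht, e⟩ := h1
          rw [← e]
          show MulAut.conj g t * MulAut.conj g z0 = MulAut.conj g z0 * MulAut.conj g t
          rw [← map_mul, ← map_mul, comm_cS hz0 ht]
        have hcc := (mem_v0.1 hd).2
        have e1 : b * z' * b⁻¹ = ⁅b, z'⁆ * z' := by rw [commutatorElement_def]; group
        have h3 : (b * s * b⁻¹) * (b * z' * b⁻¹) = (b * z' * b⁻¹) * (b * s * b⁻¹) := by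
          rw [e1]
          exact Commute.mul_right (hcc _) h2
        calc s * z' = b⁻¹ * ((b * s * b⁻¹) * (b * z' * b⁻¹)) * b := by group
          _ = b⁻¹ * ((b * z' * b⁻¹) * (b * s * b⁻¹)) * b := by rw [h3]
          _ = z' * s := by group
    exact mem_centralizer_singleton_iff.1
      (key ((h.conj_opp hg (inv_mem hb) (fun hm => hbQ (by simpa using inv_mem hm))).ge (mem_top x)))
  exact mul_mem hz ((h.v0_eq hg).le hz0).1

end Base

end Cfsg.Agent.GenA.GN
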