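import Cfsg.Agent.GenA.GN.Class

/-!
The kernel `C_{O_p(G)}(O^p(G))` and the position of the covers of the lattice relative to it.
-/

set_option autoImplicit false
set_option linter.unusedSectionVars false
set_option linter.style.haveILetI false

namespace Cfsg.Agent.GenA.GN

open Subgroup Cfsg.Agent.Classical.GL2 Cfsg.Agent.CharP Cfsg.Agent.CharP.PushOne
open scoped MatrixGroups commutatorElement Pointwise

variable {G : Type*} [Group G] [Finite G] {p : ℕ} [hp : Fact p.Prime]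

/-- `C_{O_p(G)}(O^p(G))`. -/
abbrev tt (p : ℕ) (G : Type*) [Group G] : Subgroup G :=
  Cfsg.pCore p G ⊓ centralizer (Cfsg.pResidual p G : Set G)

instance pResidual_normal' : (Cfsg.pResidual p G).Normal := by
  constructor
  intro x hx g
  refine closure_induction (p := fun y _ => g * y * g⁻¹ ∈ Cfsg.pResidual p G) ?_ ?_ ?_ ?_ hx
  · intro y hy
    refine Transfer.NormalPComplement.mem_pResidual_of_coprime ?_
    rw [show orderOf (g * y * g⁻¹) = orderOf y from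
      orderOf_injective (MulAut.conj g).toMonoidHom (MulAut.conj g).injective y]
    exact hy
  · simp
  · intro a b _ _ ha hb; simpa [mul_assoc] using mul_mem ha hb
  · intro a _ ha; simpa [mul_assoc] using inv_mem ha

theorem mem_tt {x : G} : x ∈ tt p G ↔ x ∈ Cfsg.pCore p G ∧ ∀ l ∈ Cfsg.pResidual p G, l * x = x * l := by
  simp [tt, mem_centralizer_iff]

/-- The abstract position of the covers relative to a kernel. -/
structure Ker (p : ℕ) (S : Subgroup G) (f : ℕ) (T Qs Vs : Subgroup G) : Prop where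
  norm : S ≤ normalizer (T : Set G)
  vexp : ∀ v ∈ Vs, v ^ p = 1
  qmem : Mem S f Qs
  two : ∀ X, Mem S f X → Qs ≤ X → X = Qs ∨ X = S
  dual : cS S Qs = Vs
  alt : ∀ K P, Cover S f K P → P ⊓ Qs ≤ K ∨ P ≤ K ⊔ Vs ∨ ∀ x ∈ P, ∀ y ∈ cS S K, ⁅x, y⁆ ∈ T

namespace Ker

variable {S : Subgroup G} {f : ℕ} {T Qs Vs K P K1 P1 K2 P2 : Subgroup G}

theorem top_lt (hk : Ker p S f T Qs Vs) (hb : Bound S f) (hc : Cover S f K P) (ht : P ⊓ Qs ≤ K) :
    K ⊔ Qs < P ⊔ Qs := by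
  refine lt_of_le_of_ne (sup_le_sup_right hc.2.2.1.le _) fun e => hc.2.2.1.not_ge ?_
  have h1 : P ⊓ (K ⊔ Qs) = K ⊔ P ⊓ Qs := hc.1.modular hb hk.qmem hc.2.2.1.le
  rw [e, inf_eq_left.2 le_sup_left] at h1
  exact h1.trans_le (sup_le le_rfl ht)

theorem top_unique (hk : Ker p S f T Qs Vs) (hb : Bound S f) (h1 : Cover S f K1 P1) (h2 : Cover S f K2 P2)
    (hle : P1 ≤ K2) (t1 : P1 ⊓ Qs ≤ K1) (t2 : P2 ⊓ Qs ≤ K2) : False := by
  have a1 := hk.top_lt hb h1 t1
  have a2 := hk.top_lt hb h2 t2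
  have m : ∀ {X}, Mem S f X → X ⊔ Qs = Qs ∨ X ⊔ Qs = S := fun hX => hk.two _ (hX.sup hb hk.qmem) le_sup_right
  have a3 : K1 ⊔ Qs < K2 ⊔ Qs := a1.trans_le (sup_le_sup_right hle _)
  rcases m h2.2.1 with e | e
  · exact (a2.trans_le e.le).not_ge le_sup_right
  rcases m h2.1 with e' | e'
  · exact (a3.trans_le e'.le).not_ge le_sup_right
  · exact a2.ne (e'.trans e.symm)

theorem bottom_dual (hk : Ker p S f T Qs Vs) (hb : Bound S f) (hc : Cover S f K P) :
    P ≤ K ⊔ Vs ↔ cS S K ⊓ Qs ≤ cS S P := by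
  constructor
  · intro h
    have := cS_anti (S := S) h
    rwa [cS_sup, ← hk.dual, (hk.qmem.cS hb).2] at this
  · intro h
    have h2 := cS_anti (S := S) h
    rwa [(hc.2.1.cS hb).2, (hc.1.cS hb).1.cS_inf hb hk.qmem, (hc.1.cS hb).2, hk.dual] at h2

theorem bottom_unique (hk : Ker p S f T Qs Vs) (hb : Bound S f) (h1 : Cover S f K1 P1) (h2 : Cover S f K2 P2)
    (hle : P1 ≤ K2) (t1 : P1 ≤ K1 ⊔ Vs) (t2 : P2 ≤ K2 ⊔ Vs) : False :=
  hk.top_unique hb (h2.cS hb) (h1.cS hb) (cS_anti hle) ((hk.bottom_dual hb h2).1 t2)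
    ((hk.bottom_dual hb h1).1 t1)

end Ker

variable {F : Type} [Field F] [Fintype F] {S : Subgroup G} {φ : G →* PSL(2, F)} {f : ℕ}

namespace Frame2

variable {A : Subgroup G} {g : G} (h : Frame2 p F S φ f A g)
include h

theorem L_le : Cfsg.pResidual p G ≤ ee A g ⊔ mm p A g := h.toFrame.pResidual_le

theorem dd_le_tt : dd p A g ≤ tt p G := fun _ hd =>
  mem_tt.2 ⟨hd.1.2, fun _ hl => h.dd_comm hd (h.L_le hl)⟩

/-- Only the centre is fixed by the residual modulo the centre. -/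
theorem fixL {x : G} (hx : x ∈ mm p A g) (hc : ∀ l ∈ Cfsg.pResidual p G, ⁅l, x⁆ ∈ zm p A g) :
    x ∈ zm p A g := by
  set M := mm p A g
  set Zm := zm p A g
  let K : Subgroup G :=
    { carrier := {m | m ∈ M ∧ ∀ l ∈ Cfsg.pResidual p G, ⁅l, m⁆ ∈ Zm}
      one_mem' := ⟨one_mem _, fun l _ => by simp⟩
      mul_mem' := fun {a b} ha hb => ⟨mul_mem ha.1 hb.1, fun l hl => by
        rw [show ⁅l, a * b⁆ = ⁅l, a⁆ * (a * ⁅l, b⁆ * a⁻¹) by simp only [commutatorElement_def]; group]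
        exact mul_mem (ha.2 l hl) ((mem_normalizer_iff.1 (h.norm_zm (mem_sup_right ha.1)) _).1 (hb.2 l hl))⟩
      inv_mem' := fun {a} ha => ⟨inv_mem ha.1, fun l hl => by
        rw [show ⁅l, a⁻¹⁆ = a⁻¹ * ⁅l, a⁆⁻¹ * a⁻¹⁻¹ by simp only [commutatorElement_def]; group]
        exact (mem_normalizer_iff.1 (h.norm_zm (mem_sup_right (inv_mem ha.1))) _).1 (inv_mem (ha.2 l hl))⟩ }
  suffices hK : K ≤ Zm from hK ⟨hx, hc⟩
  by_contra hne
  have hEM : ee A g ⊔ M ≤ normalizer (M : Set G) := sup_le h.norm_M le_normalizer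
  have hKn : A ≤ normalizer (K : Set G) := fun a ha => mem_normalizer_fintype fun m hm => by
    have haE : a ∈ ee A g ⊔ M := mem_sup_left (mem_sup_left ha)
    refine ⟨(mem_normalizer_iff.1 (hEM haE) m).1 hm.1, fun l hl => ?_⟩
    have hl' : a⁻¹ * l * a ∈ Cfsg.pResidual p G := by
      simpa using (inferInstance : (Cfsg.pResidual p G).Normal).conj_mem l hl a⁻¹
    have := (mem_normalizer_iff.1 (h.norm_zm haE) _).1 (hm.2 _ hl')
    rwa [show a * ⁅a⁻¹ * l * a, m⁆ * a⁻¹ = ⁅l, a * m * a⁻¹⁆ by simp only [commutatorElement_def]; group] at this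
  have hzK : Zm ≤ K := fun z hz => ⟨h.zm_le_M hz, fun l hl => by
    rw [commutatorElement_def]
    exact mul_mem ((mem_normalizer_iff.1 (h.norm_zm (h.L_le hl)) z).1 hz) (inv_mem hz)⟩
  obtain ⟨y, hy, hyz, hyA, -⟩ := exists_fixed (p := p)
    (h.base.pgroup (sup_le h.hA.1 (fun m (hm : m ∈ K) => h.base.hQS (h.M_le hm.1)))) hKn
    ((le_sup_left.trans le_sup_left).trans h.norm_zm) (fun m (hm : m ∈ K) => h.norm_zm (mem_sup_right hm.1)) hzK hne
  have hyB := h.mem_bb hy.1 hyA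
  refine hyz ⟨hyB, ?_⟩
  rw [show y = ⁅g, y⁆⁻¹ * (g * y * g⁻¹) by rw [commutatorElement_def]; group]
  exact (cj g (bb p A)).mul_mem ((cj g (bb p A)).inv_mem (hy.2 g h.g_L).2) (conj_mem_cj hyB)

theorem tt_inf_V : tt p G ⊓ vG p G = v0 p G := by
  refine le_antisymm ?_ fun v hv => ⟨mem_tt.2 ⟨(mem_v0.1 hv).1.1, fun l _ => (mem_v0.1 hv).2 l⟩, (mem_v0.1 hv).1⟩
  rcases h.toFrame.irreducible (N := tt p G ⊓ vG p G)
    (fun v hv => ⟨mem_tt.2 ⟨(mem_v0.1 hv).1.1, fun l _ => (mem_v0.1 hv).2 l⟩, (mem_v0.1 hv).1⟩)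
    inf_le_right (fun a _ x hx => (inferInstance : (tt p G ⊓ vG p G).Normal).conj_mem x hx a) with e | e
  · exact e.le
  exfalso
  have hfix : cj g (cS S S) = cS S S := by
    refine Subgroup.eq_of_le_of_card_ge ?_ (card_cj g _).ge
    rintro _ ⟨z, hz, rfl⟩
    show g * z * g⁻¹ ∈ cS S S
    rw [(mem_tt.1 (e.ge (h.base.center_le_V hz)).1).2 g h.g_L]
    simpa using hz
  have h0 := h.base.v0_eq h.opp
  rw [hfix, inf_idem] at h0
  have h1 := (h.base.zz_spec h.opp).2.1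
  rw [h0, relIndex_self] at h1
  exact h.base.S_not_le (relIndex_eq_one.1 h1.symm)

theorem tt_inf_Z {z : G} (hz : z ∈ cS S S) (ht : z ∈ tt p G) : z ∈ v0 p G :=
  h.tt_inf_V.le ⟨ht, h.base.center_le_V hz⟩

theorem tt_inf_M : tt p G ⊓ mm p A g = dd p A g := by
  refine le_antisymm (fun x hx => ?_) (le_inf h.dd_le_tt (h.dd_le_zm.trans h.zm_le_M))
  have hxz := h.fixL hx.2 fun l hl => by
    rw [commutatorElement_eq_one_iff_mul_comm.2 ((mem_tt.1 hx.1).2 l hl)]; exact one_mem _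
  obtain ⟨d, hd, v, hv, rfl⟩ := mem_sup_normal (h.zm_eq ▸ hxz)
  have hvt : v ∈ tt p G := by
    have := (tt p G).mul_mem ((tt p G).inv_mem (h.dd_le_tt hd)) hx.1
    rwa [inv_mul_cancel_left] at this
  exact mul_mem hd (h.dd_inf_V.ge (h.tt_inf_V.le ⟨hvt, hv⟩)).1

theorem comm_QL {x l : G} (hx : x ∈ Cfsg.pCore p G) (hl : l ∈ Cfsg.pResidual p G) : ⁅x, l⁆ ∈ mm p A g := by
  refine h.EM_inf_Q ⟨h.L_le ?_, ?_⟩
  · rw [commutatorElement_def]
    exact mul_mem ((inferInstance : (Cfsg.pResidual p G).Normal).conj_mem l hl x) (inv_mem hl)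
  · rw [commutatorElement_def, mul_assoc, mul_assoc, ← mul_assoc l]
    exact mul_mem hx ((inferInstance : (Cfsg.pCore p G).Normal).conj_mem _ (inv_mem hx) l)

/-- The largest normal subgroup of `G` in `mm`. -/
def core (_h : Frame2 p F S φ f A g) : Subgroup G := ⨅ x : G, cj x (mm p A g)

theorem mem_core {x : G} : x ∈ core h ↔ ∀ y : G, x ∈ cj y (mm p A g) := by simp [core, mem_iInf]

theorem core_le : core h ≤ mm p A g := fun x hx => by simpa [cj_one] using (h.mem_core.1 hx) 1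

theorem core_normal : (core h).Normal := by
  refine ⟨fun x hx y => h.mem_core.2 fun z => mem_cj.2 ?_⟩
  have := mem_cj.1 (h.mem_core.1 hx (y⁻¹ * z))
  simpa [mul_assoc] using this

theorem core_mem : Mem S f (core h) :=
  mem_iInf h.hb fun x => (h.base.mem_cj_core h.M_mem h.M_le h.V_le_M x).1

theorem V_le_core : vG p G ≤ core h := fun v hv => h.mem_core.2 fun y =>
  cj_mono h.V_le_M ((cj_normal y (vG p G)).ge hv)

theorem comm_core {x l : G} (hx : x ∈ Cfsg.pCore p G) (hl : l ∈ Cfsg.pResidual p G) : ⁅x, l⁆ ∈ core h := by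
  refine h.mem_core.2 fun y => mem_cj.2 ?_
  rw [show y⁻¹ * ⁅x, l⁆ * y = ⁅y⁻¹ * x * y, y⁻¹ * l * y⁆ by simp only [commutatorElement_def]; group]
  exact h.comm_QL (by simpa using (inferInstance : (Cfsg.pCore p G).Normal).conj_mem x hx y⁻¹)
    (by simpa using (inferInstance : (Cfsg.pResidual p G).Normal).conj_mem l hl y⁻¹)

theorem core_sup : core h ⊔ zm p A g = mm p A g := by
  refine le_antisymm (sup_le h.core_le h.zm_le_M) ?_
  have hK1 := h.core_mem.sup h.hb h.zm_mem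
  rw [← (hK1.cS h.hb).2, ← h.cS_zm]
  refine cS_anti fun x hx => ?_
  have hxM : x ∈ mm p A g := h.cS_zm ▸ cS_anti le_sup_right hx
  have hxI : x ∈ cS S (core h) := cS_anti le_sup_left hx
  refine h.fixL hxM fun l hl => ?_
  set w := ⁅l, x⁆
  have hwM : w ∈ mm p A g := by
    have := inv_mem (h.comm_QL (h.M_le hxM) hl)
    rwa [commutatorElement_inv] at this
  rw [← h.cS_M]
  refine mem_cS.2 ⟨h.base.hQS (h.M_le hwM), fun y hy => ?_⟩
  set k := y⁻¹ * (l⁻¹ * y * l)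
  have hk : k ∈ core h := by
    have h1 := h.comm_core (Subgroup.inv_mem _ (h.M_le hy)) (inv_mem hl)
    rwa [show ⁅y⁻¹, l⁻¹⁆ = k by simp only [k, commutatorElement_def]; group] at h1
  have hkx := comm_cS hxI hk
  have e1 : ⁅x, l⁻¹ * y * l⁆ = ⁅x, y⁆ := by
    rw [show l⁻¹ * y * l = y * k by simp [k],
      show ⁅x, y * k⁆ = ⁅x, y⁆ * (y * ⁅x, k⁆ * y⁻¹) by simp only [commutatorElement_def]; group,
      show ⁅x, k⁆ = 1 from commutatorElement_eq_one_iff_mul_comm.2 hkx.symm]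
    group
  have hd : ⁅x, y⁆ ∈ dd p A g := h.derived_le_dd x hxM y hy
  have e2 : ⁅w * x, y⁆ = ⁅x, y⁆ := by
    calc ⁅w * x, y⁆ = l * ⁅x, l⁻¹ * y * l⁆ * l⁻¹ := by simp only [w, commutatorElement_def]; group
      _ = _ := by rw [e1, h.dd_comm hd (h.L_le hl), mul_inv_cancel_right]
  rw [commutatorElement_mul_left_eq_conj_mul, h.dd_comm hd (mem_sup_right hwM), mul_inv_cancel_right,
    mul_eq_left] at e2
  exact (commutatorElement_eq_one_iff_mul_comm.1 e2).symm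

theorem core_sup_tt : core h ⊔ tt p G = mm p A g ⊔ tt p G := by
  refine le_antisymm (sup_le_sup_right h.core_le _) (sup_le ?_ le_sup_right)
  rw [← h.core_sup]
  refine sup_le le_sup_left ?_
  rw [h.zm_eq]
  exact sup_le (h.dd_le_tt.trans le_sup_right) (h.V_le_core.trans le_sup_left)

theorem derived_le_tt {x y : G} (hx : x ∈ mm p A g) (hy : y ∈ mm p A g) : ⁅x, y⁆ ∈ tt p G :=
  h.dd_le_tt (h.derived_le_dd x hx y hy)

theorem comm_zm_tt {x z : G} (hx : x ∈ Cfsg.pCore p G) (hz : z ∈ zm p A g) : ⁅x, z⁆ ∈ tt p G := by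
  obtain ⟨d, hd, v, hv, rfl⟩ := mem_sup_normal (h.zm_eq ▸ hz)
  rw [show ⁅x, d * v⁆ = ⁅x, d⁆ * (d * ⁅x, v⁆ * d⁻¹) by simp only [commutatorElement_def]; group,
    show ⁅x, v⁆ = 1 from commutatorElement_eq_one_iff_mul_comm.2 (h.base.commV hv hx), mul_one,
    mul_inv_cancel, mul_one, commutatorElement_def]
  exact mul_mem ((inferInstance : (tt p G).Normal).conj_mem d (h.dd_le_tt hd) x) (inv_mem (h.dd_le_tt hd))

/-- The covers against the kernel. -/
theorem ker : Ker p S f (tt p G) (Cfsg.pCore p G) (vG p G) := by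
  have hb := h.hb
  refine ⟨fun x _ => by rw [normalizer_eq_top]; exact mem_top x, fun v hv => hv.2.2, h.base.Q_mem,
    fun X hX hle => h.base.two_top hX hle, h.base.cS_Q, fun K P hc => ?_⟩
  by_cases ht : P ⊓ Cfsg.pCore p G ≤ K
  · exact Or.inl ht
  by_cases hbo : P ≤ K ⊔ vG p G
  · exact Or.inr (Or.inl hbo)
  refine Or.inr (Or.inr fun x hx y hy => ?_)
  obtain ⟨hK, hP, hlt, -⟩ := id hc
  set Q := Cfsg.pCore p G
  set H := cS S K
  set H' := cS S P
  have hd := hc.cS hb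
  have key : ∀ P0 H0 : Subgroup G, Mem S f P0 → Mem S f H0 → K ⊔ P0 = P → H' ⊔ H0 = H →
      (∀ a ∈ P0, ∀ b ∈ H0, ⁅a, b⁆ ∈ tt p G) → ⁅x, y⁆ ∈ tt p G := by
    intro P0 H0 hP0 hH0 e1 e2 hab
    obtain ⟨k, hk, a, ha, rfl⟩ := hK.exists_mul hb hP0 (e1.ge hx : x ∈ K ⊔ P0)
    obtain ⟨c, hcH, b, hbH, rfl⟩ := hd.1.exists_mul hb hH0 (e2.ge hy : y ∈ H' ⊔ H0)
    have h1 : ⁅k, c * b⁆ = 1 := commutatorElement_eq_one_iff_mul_comm.2 (comm_cS hy hk)
    have h2 : ⁅a, c⁆ = 1 := commutatorElement_eq_one_iff_mul_comm.2 (comm_cS hcH (e1.le (mem_sup_right ha)))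
    rw [commutatorElement_mul_left_eq_conj_mul, h1, mul_one,
      show ⁅a, c * b⁆ = ⁅a, c⁆ * (c * ⁅a, b⁆ * c⁻¹) by simp only [commutatorElement_def]; group, h2, one_mul]
    exact (inferInstance : (tt p G).Normal).conj_mem _
      ((inferInstance : (tt p G).Normal).conj_mem _ (hab a ha b hbH) c) k
  have hPQ : K ⊔ P ⊓ Q = P := (hc.eq_or hb (hP.inf hb h.base.Q_mem) inf_le_left).resolve_left ht
  have hHQ : H' ⊔ H ⊓ Q = H := by
    refine (hd.eq_or hb (hd.2.1.inf hb h.base.Q_mem) inf_le_left).resolve_left fun e => hbo ?_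
    have h2 := cS_anti (S := S) e
    rwa [(hP.cS hb).2, (hK.cS hb).1.cS_inf hb h.base.Q_mem, (hK.cS hb).2, h.base.cS_Q] at h2
  set M := mm p A g
  rcases hc.eq_or hb (hP.inf hb h.M_mem) inf_le_left with e | e
  · have h2 : H ≤ H' ⊔ zm p A g := by
      rw [← h.cS_M, ← hP.cS_inf hb h.M_mem]; exact cS_anti e
    have h3 : H' ⊔ H ⊓ zm p A g = H := by
      rw [← hd.1.modular hb h.zm_mem hd.2.2.1.le, inf_eq_left.2 h2]
    exact key _ _ (hP.inf hb h.base.Q_mem) (hd.2.1.inf hb h.zm_mem) hPQ h3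
      fun a ha b hb' => h.comm_zm_tt ha.2 hb'.2
  rcases hd.eq_or hb (hd.2.1.inf hb h.M_mem) inf_le_left with e' | e'
  · have h2 : P ≤ K ⊔ zm p A g := by
      have := cS_anti (S := S) e'
      rwa [(hP.cS hb).2, hd.2.1.cS_inf hb h.M_mem, (hK.cS hb).2, h.cS_M] at this
    have h3 : K ⊔ P ⊓ zm p A g = P := by
      rw [← hK.modular hb h.zm_mem hlt.le, inf_eq_left.2 h2]
    refine key _ _ (hP.inf hb h.zm_mem) (hd.2.1.inf hb h.base.Q_mem) h3 hHQ fun a ha b hb' => ?_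
    have := inv_mem (h.comm_zm_tt hb'.2 ha.2)
    rwa [commutatorElement_inv] at this
  exact key _ _ (hP.inf hb h.M_mem) (hd.2.1.inf hb h.M_mem) e e'
    fun a ha b hb' => h.derived_le_tt ha.2 hb'.2

end Frame2

end Cfsg.Agent.GenA.GN
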