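import Cfsg.Agent.GenA.GN.Resid
import Cfsg.Agent.Lib.Cores.Nilpotent

/-!
The member generated by two opposite exchanged members has derived subgroup in the common part, and the
members outside the core act quadratically on it modulo the exchanged member.
-/

set_option autoImplicit false
set_option linter.unusedSectionVars false
set_option linter.style.haveILetI false

namespace Cfsg.Agent.GenA.GN

open Subgroup Cfsg.Agent.Classical.GL2 Cfsg.Agent.CharP Cfsg.Agent.CharP.PushOne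
open scoped MatrixGroups commutatorElement Pointwise

variable {G : Type*} [Group G] [Finite G] {p : ℕ} [hp : Fact p.Prime]

/-- A `p`-group normalising `N < K` fixes a coset in `K` other than `N`, which may be chosen central. -/
theorem exists_fixed {R N K : Subgroup G} (hpg : IsPGroup p ↥(R ⊔ K)) (hK : R ≤ normalizer (K : Set G))
    (hRN : R ≤ normalizer (N : Set G)) (hKN : K ≤ normalizer (N : Set G)) (hNK : N ≤ K) (hne : ¬ K ≤ N) :
    ∃ x ∈ K, x ∉ N ∧ (∀ r ∈ R, ⁅x, r⁆ ∈ N) ∧ ∀ k ∈ K, ⁅x, k⁆ ∈ N := by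
  set W := R ⊔ K
  haveI : (N.subgroupOf W).Normal := normal_subgroupOf_of_le_normalizer (sup_le hRN hKN)
  haveI : (K.subgroupOf W).Normal := normal_subgroupOf_of_le_normalizer (sup_le hK le_normalizer)
  set q := QuotientGroup.mk' (N.subgroupOf W)
  haveI : Group.IsNilpotent ↥W := hpg.isNilpotent
  haveI : Group.IsNilpotent (↥W ⧸ N.subgroupOf W) := inferInstance
  haveI : ((K.subgroupOf W).map q).Normal := Normal.map inferInstance q (QuotientGroup.mk'_surjective _)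
  have hne' : (K.subgroupOf W).map q ≠ ⊥ := by
    rw [Ne, Subgroup.map_eq_bot_iff, QuotientGroup.ker_mk']
    exact fun hle => hne fun x hx => mem_subgroupOf.1
      (hle (mem_subgroupOf.2 hx : (⟨x, mem_sup_right hx⟩ : W) ∈ K.subgroupOf W))
  obtain ⟨⟨z, hz, hzc⟩, hz1⟩ := Subgroup.ne_bot_iff_exists_ne_one.1 (Cores.inf_center_ne_bot hne')
  obtain ⟨x, hx, rfl⟩ := hz
  have hkey : ∀ w : W, ⁅(x : G), (w : G)⁆ ∈ N := fun w => by
    have h1 : q ⁅x, w⁆ = 1 := by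
      rw [map_commutatorElement, commutatorElement_eq_one_iff_mul_comm]
      exact (Subgroup.mem_center_iff.1 hzc (q w)).symm
    exact mem_subgroupOf.1 ((QuotientGroup.eq_one_iff _).1 h1)
  refine ⟨x, mem_subgroupOf.1 hx, fun hxN => hz1 (Subtype.ext ?_), fun r hr => hkey ⟨r, mem_sup_left hr⟩,
    fun k hk => hkey ⟨k, mem_sup_right hk⟩⟩
  exact (QuotientGroup.eq_one_iff x).2 (mem_subgroupOf.2 hxN)

variable {F : Type} [Field F] [Fintype F] {S : Subgroup G} {φ : G →* PSL(2, F)} {f : ℕ}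

/-- A frame whose conjugating element lies in the residual of `⟨A, A^g⟩`. -/
structure Frame2 (p : ℕ) (F : Type) [Field F] [Fintype F] (S : Subgroup G) (φ : G →* PSL(2, F)) (f : ℕ)
    (A : Subgroup G) (g : G) : Prop extends Frame p F S φ f A g where
  gres : g ∈ res p (ee A g)

/-- Such a frame exists. -/
theorem Base.exists_frame2 (h : Base p F S φ f) {A : Subgroup G} (hA : Opt p S f A)
    (hAQ : ¬ A ≤ Cfsg.pCore p G) : ∃ g, Frame2 p F S φ f A g := by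
  obtain ⟨g0, -, hg0⟩ := h.dat.exists_opp
  obtain ⟨g, hg, hmin⟩ := Set.exists_min_image {g : G | S ⊔ cj g S = ⊤}
    (fun g => Nat.card ↥(ee A g)) (Set.toFinite _) ⟨g0, hg0⟩
  have hf : Frame p F S φ f A g := ⟨h, hA, hAQ, hg⟩
  set E := ee A g
  set Q := Cfsg.pCore p G
  set N := GN.res p E ⊔ Q
  have hEres : E ≤ normalizer (GN.res p E : Set G) := (le_normalizer (H := E)).trans (normalizer_le_res E)
  haveI : N.Normal := by
    rw [← normalizer_eq_top_iff, eq_top_iff, ← hf.E_sup_Q]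
    refine sup_le (fun e he => mem_normalizer_fintype fun x hx => ?_) (le_sup_right.trans le_normalizer)
    obtain ⟨a, ha, b, hb, rfl⟩ := mem_sup_normal hx
    rw [show e * (a * b) * e⁻¹ = (e * a * e⁻¹) * (e * b * e⁻¹) by group]
    exact mul_mem_sup ((mem_normalizer_iff.1 (hEres he) a).1 ha)
      ((inferInstance : Q.Normal).conj_mem b hb e)
  obtain ⟨-, ⟨P, hP⟩, -⟩ := id h.dat.situation
  have htop : N ⊔ S = ⊤ := by
    refine PushingUpCL.eq_top_of_forall P (hP ▸ le_sup_right) fun x hx => mem_sup_left ?_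
    have hpg : IsPGroup p (G ⧸ N) := by
      intro y
      obtain ⟨y, rfl⟩ := QuotientGroup.mk'_surjective N y
      obtain ⟨e, he, w, hw, rfl⟩ := mem_sup_normal (hf.E_sup_Q.ge (mem_top y))
      obtain ⟨k, hk⟩ := pow_mem_res (p := p) he
      refine ⟨k, ?_⟩
      rw [map_mul, show QuotientGroup.mk' N w = 1 from (QuotientGroup.eq_one_iff w).2 (mem_sup_right hw),
        mul_one, ← map_pow]
      exact (QuotientGroup.eq_one_iff _).2 (mem_sup_left hk)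
    exact Transfer.NormalPComplement.pResidual_le hpg
      (Transfer.NormalPComplement.mem_pResidual_of_coprime hx)
  obtain ⟨n, hn, s, hs, e1⟩ : ∃ n ∈ N, ∃ s ∈ S, n * s = g := by
    have := htop.ge (mem_top g)
    rwa [mem_sup_of_normal_left] at this
  obtain ⟨e, he, w, hw, rfl⟩ := mem_sup_normal hn
  have hcj : cj e S = cj g S := by
    rw [← e1, show e * w * s = e * (w * s) by group, ← cj_cj e (w * s) S,
      cj_self (mul_mem (h.hQS hw) hs)]
  have hopp : S ⊔ cj e S = ⊤ := hcj.symm ▸ hg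
  have heE : e ∈ E := GN.res_le E he
  have hle : ee A e ≤ E := sup_le le_sup_left (fun x hx => by
    obtain ⟨a, ha, rfl⟩ := hx
    exact mul_mem (mul_mem heE (mem_sup_left ha)) (inv_mem heE))
  have heq : ee A e = E := Subgroup.eq_of_le_of_card_ge hle (hmin e hopp)
  exact ⟨e, ⟨h, hA, hAQ, hopp⟩, heq ▸ he⟩

namespace Frame2

variable {A : Subgroup G} {g : G} (h : Frame2 p F S φ f A g)
include h

theorem g_mem : g ∈ ee A g := res_le _ h.gres

theorem g_L : g ∈ Cfsg.pResidual p G :=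
  (closure_le _).2 (fun _ hx => Transfer.NormalPComplement.mem_pResidual_of_coprime hx.2) h.gres

theorem norm_M : ee A g ≤ normalizer (mm p A g : Set G) := h.E_norm h.M_mem le_rfl h.M_le

theorem cj_M : cj g (mm p A g) = mm p A g := by
  ext x
  rw [mem_cj]
  simpa [mul_assoc] using (mem_normalizer_iff.1 (inv_mem (h.norm_M h.g_mem)) x).symm

theorem dd_fix {d : G} (hd : d ∈ dd p A g) : g * d * g⁻¹ = d := by
  rw [h.dd_comm_E hd h.g_mem]; group

theorem cj_dd : cj g (dd p A g) = dd p A g := by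
  refine Subgroup.eq_of_le_of_card_ge ?_ (card_cj g _).ge
  rintro _ ⟨d, hd, rfl⟩
  show g * d * g⁻¹ ∈ dd p A g
  rw [h.dd_fix hd]; exact hd

theorem cj_zm : cj g (zm p A g) = zm p A g := by
  rw [h.zm_eq, cj_sup, h.cj_dd, cj_normal g (vG p G)]

theorem norm_zm : ee A g ⊔ mm p A g ≤ normalizer (zm p A g : Set G) := by
  refine fun x hx => mem_normalizer_fintype fun z hz => ?_
  obtain ⟨d, hd, v, hv, rfl⟩ := mem_sup_normal (h.zm_eq ▸ hz)
  rw [show x * (d * v) * x⁻¹ = (x * d * x⁻¹) * (x * v * x⁻¹) by group, h.zm_eq,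
    show x * d * x⁻¹ = d by rw [h.dd_comm hd hx]; group]
  exact mul_mem_sup hd ((inferInstance : (vG p G).Normal).conj_mem v hv x)

theorem comm_zm {b a : G} (hb : b ∈ bb p A) (ha : a ∈ A) : ⁅b, a⁆ ∈ cS S S := by
  obtain ⟨u, hu, v, hv, rfl⟩ := mem_sup_normal hb
  have h1 := h.base.comm_V hv (h.hA.1 ha)
  rw [commutatorElement_mul_left_eq_conj_mul,
    show ⁅u, a⁆ = 1 from commutatorElement_eq_one_iff_mul_comm.2 (h.hA.2.1 u hu.1 a ha), mul_one,
    comm_cS h1 (h.hA.1 hu.1), mul_inv_cancel_right]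
  exact h1

theorem Z_le_zm : cS S S ≤ zm p A g :=
  le_inf (h.base.center_le_V.trans le_sup_right) (h.base.center_le (h.famB'.mem h.hb).1)

/-- The elements of `mm` fixed by `A` modulo the centre. -/
def wA : Subgroup G where
  carrier := {x | x ∈ mm p A g ∧ ∀ a ∈ A, ⁅x, a⁆ ∈ zm p A g}
  one_mem' := ⟨one_mem _, fun a _ => by simp⟩
  mul_mem' := fun {x y} hx hy => ⟨mul_mem hx.1 hy.1, fun a ha => by
    rw [commutatorElement_mul_left_eq_conj_mul]
    exact mul_mem ((mem_normalizer_iff.1 (h.norm_zm (mem_sup_right hx.1)) _).1 (hy.2 a ha)) (hx.2 a ha)⟩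
  inv_mem' := fun {x} hx => ⟨inv_mem hx.1, fun a ha => by
    rw [show ⁅x⁻¹, a⁆ = x⁻¹ * ⁅x, a⁆⁻¹ * x⁻¹⁻¹ by simp only [commutatorElement_def]; group]
    exact (mem_normalizer_iff.1 (h.norm_zm (mem_sup_right (inv_mem hx.1))) _).1 (inv_mem (hx.2 a ha))⟩

theorem bb_le_wA : bb p A ≤ h.wA :=
  fun x hx => ⟨mem_sup_left hx, fun _ ha => h.Z_le_zm (h.comm_zm hx ha)⟩

theorem wA_norm_bb : h.wA ≤ normalizer (bb p A : Set G) := by
  intro x hx
  refine mem_normalizer_fintype fun y hy => ?_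
  obtain ⟨u, hu, v, hv, rfl⟩ := mem_sup_normal hy
  rw [show x * (u * v) * x⁻¹ = (x * u * x⁻¹) * (x * v * x⁻¹) by group]
  refine mul_mem_sup ⟨?_, (inferInstance : (Cfsg.pCore p G).Normal).conj_mem u hu.2 x⟩
    ((inferInstance : (vG p G).Normal).conj_mem v hv x)
  have hxuM : x * u * x⁻¹ ∈ mm p A g :=
    mul_mem (mul_mem hx.1 (mem_sup_left (mem_sup_left hu))) (inv_mem hx.1)
  have hxu : x * u * x⁻¹ ∈ cS S A := mem_cS.2 ⟨h.base.hQS (h.M_le hxuM), fun a ha => by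
    set z := ⁅x, a⁆
    have hz : z ∈ zm p A g := hx.2 a ha
    have h1 := h.zm_comm hz hxuM
    have h2 : (x * u * x⁻¹) * (z * a) = (z * a) * (x * u * x⁻¹) := by
      have e : z * a = x * a * x⁻¹ := by simp only [z, commutatorElement_def]; group
      rw [e]
      calc x * u * x⁻¹ * (x * a * x⁻¹) = x * (u * a) * x⁻¹ := by group
        _ = x * (a * u) * x⁻¹ := by rw [h.hA.2.1 u hu.1 a ha]
        _ = _ := by group
    calc a * (x * u * x⁻¹) = z⁻¹ * ((z * a) * (x * u * x⁻¹)) := by group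
      _ = z⁻¹ * ((x * u * x⁻¹) * z * a) := by rw [← h2]; group
      _ = z⁻¹ * (z * (x * u * x⁻¹) * a) := by rw [h1]
      _ = _ := by group⟩
  exact (h.hA.mem h.hb).2.le hxu

theorem mem_cj_wA {x a : G} (hx : x ∈ cj g h.wA) (ha : a ∈ cj g A) : ⁅x, a⁆ ∈ zm p A g := by
  rw [← h.cj_zm, mem_cj]
  have := (mem_cj.1 hx : g⁻¹ * x * g ∈ h.wA).2 _ (mem_cj.1 ha)
  have e : ⁅g⁻¹ * x * g, g⁻¹ * a * g⁆ = g⁻¹ * ⁅x, a⁆ * g := by
    simp only [commutatorElement_def]; group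
  rwa [e] at this

theorem card_sq : Nat.card ↥(mm p A g) * Nat.card ↥(zm p A g) = Nat.card ↥(bb p A) * Nat.card ↥(bb p A) := by
  rw [h.famB.2.2, ← h.cS_M, h.M_mem.2]

/-- The fixed points of `A` on `mm / zm` are the image of the exchanged member. -/
theorem wA_eq : h.wA = bb p A := by
  set M := mm p A g
  set Zm := zm p A g
  set B := bb p A
  set H := h.wA
  set X := H ⊓ cj g H
  have hHM : H ≤ M := fun x hx => hx.1
  have hzmH : Zm ≤ H := (inf_le_left : Zm ≤ B).trans h.bb_le_wA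
  have hH'M : cj g H ≤ M := (cj_mono hHM).trans h.cj_M.le
  have hzmX : Zm ≤ X := le_inf hzmH (h.cj_zm.ge.trans (cj_mono hzmH))
  have hBX : B ⊓ X = Zm := by
    refine le_antisymm (fun u hu => ?_) (le_inf inf_le_left hzmX)
    let E0 : Subgroup G :=
      { carrier := {e | e ∈ ee A g ∧ ⁅e, u⁆ ∈ Zm}
        one_mem' := ⟨one_mem _, by simp⟩
        mul_mem' := fun {a b} ha hb => ⟨mul_mem ha.1 hb.1, by
          rw [commutatorElement_mul_left_eq_conj_mul]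
          exact mul_mem ((mem_normalizer_iff.1 (h.norm_zm (mem_sup_left ha.1)) _).1 hb.2) ha.2⟩
        inv_mem' := fun {a} ha => ⟨inv_mem ha.1, by
          rw [show ⁅a⁻¹, u⁆ = a⁻¹ * ⁅a, u⁆⁻¹ * a⁻¹⁻¹ by simp only [commutatorElement_def]; group]
          exact (mem_normalizer_iff.1 (h.norm_zm (mem_sup_left (inv_mem ha.1))) _).1 (inv_mem ha.2)⟩ }
    have hEE : ee A g ≤ E0 := sup_le
      (fun a ha => ⟨mem_sup_left ha, by rw [← commutatorElement_inv]; exact inv_mem (hu.2.1.2 a ha)⟩)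
      (fun a ha => ⟨mem_sup_right ha, by rw [← commutatorElement_inv]; exact inv_mem (h.mem_cj_wA hu.2.2 ha)⟩)
    have h1 : ⁅g, u⁆ ∈ Zm := (hEE h.g_mem).2
    refine ⟨hu.1, ?_⟩
    rw [show u = ⁅g, u⁆⁻¹ * (g * u * g⁻¹) by rw [commutatorElement_def]; group]
    exact (cj g B).mul_mem ((cj g B).inv_mem h1.2) (conj_mem_cj hu.1)
  have e1 := CharP.card_mul_le_card_sup_mul_card_inf B X
  rw [hBX] at e1
  have e2 : Nat.card ↥(B ⊔ X) ≤ Nat.card H := Subgroup.card_le_of_le (sup_le h.bb_le_wA inf_le_left)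
  have e3 := CharP.card_mul_le_card_sup_mul_card_inf H (cj g H)
  rw [card_cj] at e3
  have e4 := h.card_sq
  have hXle : Nat.card X ≤ Nat.card Zm := by
    refine Nat.le_of_mul_le_mul_left ?_ (Nat.mul_pos (Nat.mul_pos (Nat.card_pos (α := ↥B))
      (Nat.card_pos (α := ↥B))) (Nat.card_pos (α := ↥X)))
    calc Nat.card B * Nat.card B * Nat.card X * Nat.card X
        = (Nat.card B * Nat.card X) * (Nat.card B * Nat.card X) := by ring
      _ ≤ (Nat.card H * Nat.card Zm) * (Nat.card H * Nat.card Zm) :=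
          Nat.mul_le_mul (e1.trans (Nat.mul_le_mul_right _ e2)) (e1.trans (Nat.mul_le_mul_right _ e2))
      _ = (Nat.card H * Nat.card H) * (Nat.card Zm * Nat.card Zm) := by ring
      _ ≤ (Nat.card M * Nat.card X) * (Nat.card Zm * Nat.card Zm) :=
          Nat.mul_le_mul_right _ (e3.trans (Nat.mul_le_mul_right _ (Subgroup.card_le_of_le (sup_le hHM hH'M))))
      _ = (Nat.card M * Nat.card Zm) * Nat.card X * Nat.card Zm := by ring
      _ = _ := by rw [e4]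
  refine (Subgroup.eq_of_le_of_card_ge h.bb_le_wA (Nat.mul_self_le_mul_self_iff.1 ?_)).symm
  rw [← e4]
  exact e3.trans (Nat.mul_le_mul (Subgroup.card_le_of_le (sup_le hHM hH'M)) hXle)

theorem mem_bb {x : G} (hx : x ∈ mm p A g) (hc : ∀ a ∈ A, ⁅x, a⁆ ∈ zm p A g) : x ∈ bb p A :=
  h.wA_eq.le ⟨hx, hc⟩

theorem mem_bb' {x : G} (hx : x ∈ mm p A g) (hc : ∀ a ∈ cj g A, ⁅x, a⁆ ∈ zm p A g) :
    x ∈ cj g (bb p A) := by
  rw [← h.wA_eq, mem_cj]
  refine ⟨mem_cj.1 (h.cj_M.ge hx), fun a ha => ?_⟩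
  have h1 := hc _ (conj_mem_cj ha)
  rw [← h.cj_zm, mem_cj] at h1
  have e : g⁻¹ * ⁅x, g * a * g⁻¹⁆ * g = ⁅g⁻¹ * x * g, a⁆ := by
    simp only [commutatorElement_def]; group
  rwa [e] at h1

theorem conj_bb {x a : G} (hx : x ∈ bb p A) (ha : a ∈ A) : a * x * a⁻¹ ∈ bb p A := by
  have h1 := h.comm_zm hx ha
  rw [show a * x * a⁻¹ = ⁅x, a⁆⁻¹ * x by simp only [commutatorElement_def]; group]
  exact mul_mem (inv_mem ((h.base.center_le_V.trans le_sup_right) h1)) hx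

/-- A commutator pairing with values in a section on which `A` fixes only the `B`-part vanishes. -/
theorem pairing {X K Kl FA FA' : Subgroup G}
    (hXM : X ≤ mm p A g) (hXn : ∀ e ∈ cj g A, ∀ x ∈ X, e * x * e⁻¹ ∈ X)
    (hsplit : ∀ x ∈ X, ∃ b ∈ X ⊓ bb p A, ∃ b' ∈ cj g (bb p A), x = b * b')
    (hKM : K ≤ mm p A g) (hKl : Kl ≤ K) (hKln : ee A g ⊔ mm p A g ≤ normalizer (Kl : Set G))
    (hval : ∀ x ∈ X, ∀ m ∈ mm p A g, ⁅x, m⁆ ∈ K) (hcent : ∀ k ∈ K, ∀ m ∈ mm p A g, ⁅k, m⁆ ∈ Kl)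
    (hFA : ∀ k ∈ K, (∀ a ∈ A, ⁅k, a⁆ ∈ Kl) → k ∈ FA) (hKlFA : Kl ≤ FA)
    (hFA' : ∀ k ∈ K, (∀ a ∈ cj g A, ⁅k, a⁆ ∈ Kl) → k ∈ FA') (hdisj : FA ⊓ FA' ≤ Kl) :
    ∀ u ∈ X ⊓ bb p A, ∀ y ∈ mm p A g, ⁅u, y⁆ ∈ Kl := by
  classical
  set M := mm p A g
  have hMn : ∀ m ∈ M, ∀ k ∈ Kl, m * k * m⁻¹ ∈ Kl := fun m hm k hk =>
    (mem_normalizer_iff.1 (hKln (mem_sup_right hm)) k).1 hk
  have hcK : ∀ k ∈ K, ∀ m ∈ M, m * k * m⁻¹ * k⁻¹ ∈ Kl := fun k hk m hm => by
    have := inv_mem (hcent k hk m hm)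
    rwa [commutatorElement_inv] at this
  let P0 : Subgroup G :=
    { carrier := {y | y ∈ M ∧ ∀ u ∈ X ⊓ bb p A, ⁅u, y⁆ ∈ Kl}
      one_mem' := ⟨one_mem _, fun u _ => by simp⟩
      mul_mem' := fun {a b} ha hb => ⟨mul_mem ha.1 hb.1, fun u hu => by
        rw [show ⁅u, a * b⁆ = ⁅u, a⁆ * (a * ⁅u, b⁆ * a⁻¹) by simp only [commutatorElement_def]; group]
        exact mul_mem (ha.2 u hu) (hMn a ha.1 _ (hb.2 u hu))⟩
      inv_mem' := fun {a} ha => ⟨inv_mem ha.1, fun u hu => by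
        rw [show ⁅u, a⁻¹⁆ = a⁻¹ * ⁅u, a⁆⁻¹ * a⁻¹⁻¹ by simp only [commutatorElement_def]; group]
        exact hMn _ (inv_mem ha.1) _ (inv_mem (ha.2 u hu))⟩ }
  intro u₀ hu₀ y₀ hy₀
  suffices hP : M ≤ P0 from (hP hy₀).2 u₀ hu₀
  by_contra hne
  have hconjA : ∀ u ∈ X ⊓ bb p A, ∀ a ∈ A, ∀ w ∈ M, ⁅u, a * w * a⁻¹⁆ = a * ⁅u, w⁆ * a⁻¹ := by
    intro u hu a ha w hw
    set z := ⁅u, a⁆
    have hz : z ∈ cS S S := h.comm_zm hu.2 ha
    have hwS : a * w * a⁻¹ ∈ S :=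
      h.base.hQS ((inferInstance : (Cfsg.pCore p G).Normal).conj_mem _ (h.M_le hw) a)
    have hzw := comm_cS hz hwS
    have hzu := comm_cS hz (h.base.hQS (h.bb_le hu.2))
    have e1 : a * u * a⁻¹ = z⁻¹ * u := by simp only [z, commutatorElement_def]; group
    have e2 : a * ⁅u, w⁆ * a⁻¹ = ⁅a * u * a⁻¹, a * w * a⁻¹⁆ := by
      simp only [commutatorElement_def]; group
    rw [e2, e1, commutatorElement_mul_left_eq_conj_mul]
    have hc : z⁻¹ * ⁅u, a * w * a⁻¹⁆ = ⁅u, a * w * a⁻¹⁆ * z⁻¹ := by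
      have hS : ⁅u, a * w * a⁻¹⁆ ∈ S := by
        rw [commutatorElement_def]
        exact mul_mem (mul_mem (mul_mem (h.base.hQS (h.bb_le hu.2)) hwS)
          (inv_mem (h.base.hQS (h.bb_le hu.2)))) (inv_mem hwS)
      exact (comm_cS (inv_mem hz) hS).symm
    rw [hc, mul_inv_cancel_right]
    have h3 : ⁅z⁻¹, a * w * a⁻¹⁆ = 1 :=
      commutatorElement_eq_one_iff_mul_comm.2 (comm_cS (inv_mem hz) hwS).symm
    rw [h3, mul_one]
  have hAM : A ≤ normalizer (M : Set G) := le_sup_left.trans h.norm_M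
  have hA0 : A ≤ normalizer (P0 : Set G) := fun a ha => mem_normalizer_fintype fun y hy => by
    refine ⟨(mem_normalizer_iff.1 (hAM ha) y).1 hy.1, fun u hu => ?_⟩
    rw [hconjA u hu a ha y hy.1]
    exact (mem_normalizer_iff.1 (hKln (mem_sup_left (mem_sup_left ha))) _).1 (hy.2 u hu)
  have hM0 : M ≤ normalizer (P0 : Set G) := fun m hm => mem_normalizer_fintype fun y hy => by
    refine ⟨mul_mem (mul_mem hm hy.1) (inv_mem hm), fun u hu => ?_⟩
    set k := ⁅u, m⁆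
    set l := ⁅u, y⁆
    have hk : k ∈ K := hval u hu.1 m hm
    have e : ⁅u, m * y * m⁻¹⁆ = k * (m * l * m⁻¹) * ((m * y * m⁻¹) * k⁻¹ * (m * y * m⁻¹)⁻¹) := by
      simp only [k, l, commutatorElement_def]; group
    rw [e, show k * (m * l * m⁻¹) * ((m * y * m⁻¹) * k⁻¹ * (m * y * m⁻¹)⁻¹) =
      (k * (m * l * m⁻¹) * k⁻¹) * (k * ((m * y * m⁻¹) * k⁻¹ * (m * y * m⁻¹)⁻¹ * k⁻¹⁻¹) * k⁻¹) by group]
    exact mul_mem (hMn k (hKM hk) _ (hMn m hm _ (hy.2 u hu)))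
      (hMn k (hKM hk) _ (hcK k⁻¹ (inv_mem hk) _ (mul_mem (mul_mem hm hy.1) (inv_mem hm))))
  obtain ⟨y, hyM, hyP, hyA, -⟩ := exists_fixed (p := p) (h.base.pgroup (sup_le h.hA.1 (h.M_le.trans h.base.hQS)))
    hAM hA0 hM0 (fun y hy => hy.1) hne
  have hfix : ∀ u ∈ X ⊓ bb p A, ⁅u, y⁆ ∈ FA := fun u hu => by
    set c := ⁅u, y⁆
    have hcKm : c ∈ K := hval u hu.1 y hyM
    refine hFA c hcKm fun a ha => ?_
    set w := a * y * a⁻¹ * y⁻¹
    have hw : w ∈ P0 := by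
      rw [show w = ⁅y, a⁆⁻¹ by simp only [w, commutatorElement_def]; group]; exact inv_mem (hyA a ha)
    have e1 : a * c * a⁻¹ = ⁅u, w⁆ * (w * c * w⁻¹) := by
      rw [← hconjA u hu a ha y hyM, show a * y * a⁻¹ = w * y by simp [w]]
      simp only [c, commutatorElement_def]; group
    have h2 : a * c * a⁻¹ * c⁻¹ ∈ Kl := by
      rw [e1, mul_assoc]
      exact mul_mem (hw.2 u hu) (hcK c hcKm w hw.1)
    have := inv_mem h2
    rwa [show (a * c * a⁻¹ * c⁻¹)⁻¹ = ⁅c, a⁆ by simp only [commutatorElement_def]; group] at this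
  obtain ⟨b, hb, b', hb', e⟩ := (h.famB.mem h.hb).1.exists_mul h.hb (h.famB'.mem h.hb).1 hyM
  have hb'M : b' ∈ M := mem_sup_right hb'
  have hfix' : ∀ u ∈ X ⊓ bb p A, ⁅u, b'⁆ ∈ FA := fun u hu => by
    have e1 : ⁅u, y⁆ = b * ⁅u, b'⁆ * b⁻¹ := by
      rw [e, show ⁅u, b * b'⁆ = ⁅u, b⁆ * (b * ⁅u, b'⁆ * b⁻¹) by simp only [commutatorElement_def]; group,
        show ⁅u, b⁆ = 1 from commutatorElement_eq_one_iff_mul_comm.2 (h.famB.2.1 u hu.2 b hb), one_mul]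
    have hk : ⁅u, b'⁆ ∈ K := hval u hu.1 b' hb'M
    have h2 := hcK _ hk b (mem_sup_left hb)
    rw [show ⁅u, b'⁆ = (b * ⁅u, b'⁆ * b⁻¹ * ⁅u, b'⁆⁻¹)⁻¹ * ⁅u, y⁆ by rw [e1]; group]
    exact mul_mem (inv_mem (hKlFA h2)) (hfix u hu)
  have hall : ∀ x ∈ X, ⁅x, b'⁆ ∈ FA := fun x hx => by
    obtain ⟨c, hc, c', hc', rfl⟩ := hsplit x hx
    rw [commutatorElement_mul_left_eq_conj_mul,
      show ⁅c', b'⁆ = 1 from commutatorElement_eq_one_iff_mul_comm.2 (h.famB'.2.1 c' hc' b' hb'),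
      mul_one, mul_inv_cancel, one_mul]
    exact hfix' c hc
  set K1 := closure ((Kl : Set G) ∪ {c | ∃ x ∈ X, ⁅x, b'⁆ = c})
  have hK1K : K1 ≤ K := (closure_le _).2 (by
    rintro c (hc | ⟨x, hx, rfl⟩)
    · exact hKl hc
    · exact hval x hx b' hb'M)
  have hK1FA : K1 ≤ FA := (closure_le _).2 (by
    rintro c (hc | ⟨x, hx, rfl⟩)
    · exact hKlFA hc
    · exact hall x hx)
  have hK1n : cj g A ≤ normalizer (K1 : Set G) := by
    intro a ha
    have haE : a ∈ ee A g ⊔ mm p A g := mem_sup_left (mem_sup_right ha)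
    refine mem_normalizer_fintype fun c hc => ?_
    induction hc using closure_induction with
    | mem c hc =>
      rcases hc with hc | ⟨x, hx, rfl⟩
      · exact subset_closure (Or.inl ((mem_normalizer_iff.1 (hKln haE) c).1 hc))
      · have hz : ⁅a, b'⁆ ∈ cS S S ⊔ vG p G := mem_sup_right (by
          have h1 : ⁅g⁻¹ * b' * g, g⁻¹ * a * g⁆ ∈ cS S S := h.comm_zm (mem_cj.1 hb') (mem_cj.1 ha)
          have h2 := (inferInstance : (vG p G).Normal).conj_mem _ (inv_mem (h.base.center_le_V h1)) g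
          rwa [show g * ⁅g⁻¹ * b' * g, g⁻¹ * a * g⁆⁻¹ * g⁻¹ = ⁅a, b'⁆ by
            simp only [commutatorElement_def]; group] at h2)
        have hv : ⁅a, b'⁆ ∈ vG p G := sup_le h.base.center_le_V le_rfl hz
        have hxa : a * x * a⁻¹ ∈ X := hXn a ha x hx
        have hxaQ : a * x * a⁻¹ ∈ Cfsg.pCore p G := h.M_le (hXM hxa)
        have hb'Q : b' ∈ Cfsg.pCore p G := h.cjB_le hb'
        refine subset_closure (Or.inr ⟨a * x * a⁻¹, hxa, ?_⟩)
        have e2 : a * ⁅x, b'⁆ * a⁻¹ = ⁅a * x * a⁻¹, ⁅a, b'⁆ * b'⁆ := by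
          simp only [commutatorElement_def]; group
        rw [e2, show ⁅a * x * a⁻¹, ⁅a, b'⁆ * b'⁆ = ⁅a * x * a⁻¹, ⁅a, b'⁆⁆ *
          (⁅a, b'⁆ * ⁅a * x * a⁻¹, b'⁆ * ⁅a, b'⁆⁻¹) by simp only [commutatorElement_def]; group,
          show ⁅a * x * a⁻¹, ⁅a, b'⁆⁆ = 1 from commutatorElement_eq_one_iff_mul_comm.2 (h.base.commV hv hxaQ),
          one_mul]
        have hcQ : ⁅a * x * a⁻¹, b'⁆ ∈ Cfsg.pCore p G := h.M_le (hKM (hval _ hxa b' hb'M))
        rw [← h.base.commV hv hcQ, mul_inv_cancel_right]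
    | one => simp
    | mul c d _ _ hc hd => simpa [mul_assoc] using mul_mem hc hd
    | inv c _ hc => simpa [mul_assoc] using inv_mem hc
  have hK1le : K1 ≤ Kl := by
    by_contra hne1
    have hS' : cj g A ≤ cj g S := cj_mono h.hA.1
    have hK1S : K1 ≤ cj g S :=
      (hK1K.trans (hKM.trans h.M_le)).trans ((cj_normal g _).ge.trans (cj_mono h.base.hQS))
    have hpg : IsPGroup p ↥(cj g A ⊔ K1) := (h.base.dat.isPGroup.map _).to_le (sup_le hS' hK1S)
    obtain ⟨c, hc, hc0, hcA, -⟩ := exists_fixed (p := p) hpg hK1n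
      ((le_sup_right.trans le_sup_left).trans hKln) (fun k hk => hKln (mem_sup_right (hKM (hK1K hk))))
      (fun k hk => subset_closure (Or.inl hk)) hne1
    exact hc0 (hdisj ⟨hK1FA hc, hFA' c (hK1K hc) hcA⟩)
  refine hyP (e ▸ mul_mem (s := P0) ⟨mem_sup_left hb, fun u hu => ?_⟩ ⟨hb'M, fun u hu => ?_⟩)
  · rw [show ⁅u, b⁆ = 1 from commutatorElement_eq_one_iff_mul_comm.2 (h.famB.2.1 u hu.2 b hb)]
    exact one_mem _
  · exact hK1le (subset_closure (Or.inr ⟨u, hu.1, rfl⟩))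

theorem split {X N : Subgroup G} (hNn : mm p A g ≤ normalizer (N : Set G))
    (hX : ∀ x, x ∈ X ↔ x ∈ mm p A g ∧ ∀ m ∈ mm p A g, ⁅x, m⁆ ∈ N) :
    ∀ x ∈ X, ∃ b ∈ X ⊓ bb p A, ∃ b' ∈ cj g (bb p A), x = b * b' := by
  intro x hx
  obtain ⟨b, hb, b', hb', rfl⟩ :=
    (h.famB.mem h.hb).1.exists_mul h.hb (h.famB'.mem h.hb).1 ((hX x).1 hx).1
  refine ⟨b, ⟨(hX b).2 ⟨mem_sup_left hb, fun m hm => ?_⟩, hb⟩, b', hb', rfl⟩
  let P1 : Subgroup G :=
    { carrier := {y | y ∈ mm p A g ∧ ⁅b, y⁆ ∈ N}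
      one_mem' := ⟨one_mem _, by simp⟩
      mul_mem' := fun {c d} hc hd => ⟨mul_mem hc.1 hd.1, by
        rw [show ⁅b, c * d⁆ = ⁅b, c⁆ * (c * ⁅b, d⁆ * c⁻¹) by simp only [commutatorElement_def]; group]
        exact mul_mem hc.2 ((mem_normalizer_iff.1 (hNn hc.1) _).1 hd.2)⟩
      inv_mem' := fun {c} hc => ⟨inv_mem hc.1, by
        rw [show ⁅b, c⁻¹⁆ = c⁻¹ * ⁅b, c⁆⁻¹ * c⁻¹⁻¹ by simp only [commutatorElement_def]; group]
        exact (mem_normalizer_iff.1 (hNn (inv_mem hc.1)) _).1 (inv_mem hc.2)⟩ }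
  have : mm p A g ≤ P1 := sup_le
    (fun c hc => ⟨mem_sup_left hc, by
      rw [show ⁅b, c⁆ = 1 from commutatorElement_eq_one_iff_mul_comm.2 (h.famB.2.1 b hb c hc)]
      exact one_mem _⟩)
    (fun c hc => ⟨mem_sup_right hc, by
      have h1 := ((hX _).1 hx).2 c (mem_sup_right hc)
      rwa [commutatorElement_mul_left_eq_conj_mul,
        show ⁅b', c⁆ = 1 from commutatorElement_eq_one_iff_mul_comm.2 (h.famB'.2.1 b' hb' c hc),
        mul_one, mul_inv_cancel, one_mul] at h1⟩)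
  exact (this hm).2

/-- The elements of `mm` centralising it modulo `N`. -/
def rel (h : Frame2 p F S φ f A g) (N : Subgroup G) (hN : mm p A g ≤ normalizer (N : Set G)) : Subgroup G where
  carrier := {x | x ∈ mm p A g ∧ ∀ m ∈ mm p A g, ⁅x, m⁆ ∈ N}
  one_mem' := ⟨one_mem _, fun m _ => by simp⟩
  mul_mem' := fun {x y} hx hy => ⟨mul_mem hx.1 hy.1, fun m hm => by
    rw [commutatorElement_mul_left_eq_conj_mul]
    exact mul_mem ((mem_normalizer_iff.1 (hN hx.1) _).1 (hy.2 m hm)) (hx.2 m hm)⟩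
  inv_mem' := fun {x} hx => ⟨inv_mem hx.1, fun m hm => by
    rw [show ⁅x⁻¹, m⁆ = x⁻¹ * ⁅x, m⁆⁻¹ * x⁻¹⁻¹ by simp only [commutatorElement_def]; group]
    exact (mem_normalizer_iff.1 (hN (inv_mem hx.1)) _).1 (inv_mem (hx.2 m hm))⟩

theorem rel_norm (N : Subgroup G) (hN : ee A g ⊔ mm p A g ≤ normalizer (N : Set G)) :
    ee A g ⊔ mm p A g ≤ normalizer (rel h N (le_sup_right.trans hN) : Set G) := by
  have hM : ee A g ⊔ mm p A g ≤ normalizer (mm p A g : Set G) := sup_le h.norm_M le_normalizer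
  intro e he
  refine mem_normalizer_fintype fun x hx => ⟨(mem_normalizer_iff.1 (hM he) x).1 hx.1, fun m hm => ?_⟩
  have hm' : e⁻¹ * m * e ∈ mm p A g := by
    simpa using (mem_normalizer_iff.1 (inv_mem (hM he)) m).1 hm
  have := (mem_normalizer_iff.1 (hN he) _).1 (hx.2 _ hm')
  rwa [show e * ⁅x, e⁻¹ * m * e⁆ * e⁻¹ = ⁅e * x * e⁻¹, m⁆ by simp only [commutatorElement_def]; group] at this

theorem dd_norm : ee A g ⊔ mm p A g ≤ normalizer (dd p A g : Set G) := fun x hx =>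
  mem_normalizer_fintype fun d hd => by
    rw [show x * d * x⁻¹ = d by rw [h.dd_comm hd hx]; group]; exact hd

theorem derived_le_zm : ∀ x ∈ mm p A g, ∀ y ∈ mm p A g, ⁅x, y⁆ ∈ zm p A g := by
  set M := mm p A g
  set Zm := zm p A g
  have hZn := h.norm_zm
  set X1 := rel h Zm (le_sup_right.trans hZn)
  have hX1n := h.rel_norm Zm hZn
  set X2 := rel h X1 (le_sup_right.trans hX1n)
  have hX2n := h.rel_norm X1 hX1n
  have hZX1 : Zm ≤ X1 := fun z hz => ⟨h.zm_le_M hz, fun m hm => by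
    rw [commutatorElement_eq_one_iff_mul_comm.2 (h.zm_comm hz hm).symm]; exact one_mem _⟩
  have hsplit2 := h.split (X := X2) (N := X1) (le_sup_right.trans hX1n) (fun _ => Iff.rfl)
  have key := h.pairing (X := X2) (K := X1) (Kl := Zm) (FA := X1 ⊓ bb p A) (FA' := X1 ⊓ cj g (bb p A))
    (fun x hx => hx.1)
    (fun e he x hx => (mem_normalizer_iff.1 (hX2n (mem_sup_left (mem_sup_right he))) x).1 hx)
    hsplit2 (fun x hx => hx.1) hZX1 hZn (fun x hx m hm => hx.2 m hm) (fun k hk m hm => hk.2 m hm)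
    (fun k hk hc => ⟨hk, h.mem_bb hk.1 hc⟩) (le_inf hZX1 inf_le_left)
    (fun k hk hc => ⟨hk, h.mem_bb' hk.1 hc⟩) (fun k hk => ⟨hk.1.2, hk.2.2⟩)
  have h21 : X2 ≤ X1 := fun x hx => by
    obtain ⟨b, hb, b', hb', rfl⟩ := hsplit2 x hx
    refine ⟨hx.1, fun m hm => ?_⟩
    have hb'X : b' ∈ X1 := by
      have hb'2 : b' ∈ X2 := by
        have := X2.mul_mem (X2.inv_mem hb.1) hx
        rwa [inv_mul_cancel_left] at this
      refine ⟨mem_sup_right hb', fun m hm => ?_⟩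
      obtain ⟨c, hc, c', hc', rfl⟩ := (h.famB.mem h.hb).1.exists_mul h.hb (h.famB'.mem h.hb).1 hm
      obtain ⟨d, hd, d', hd', e⟩ := hsplit2 b' hb'2
      have hdm := key d hd c (mem_sup_left hc)
      have e1 : ⁅b', c⁆ = d * ⁅d', c⁆ * d⁻¹ := by
        rw [e, commutatorElement_mul_left_eq_conj_mul,
          show ⁅d, c⁆ = 1 from commutatorElement_eq_one_iff_mul_comm.2 (h.famB.2.1 d hd.2 c hc), mul_one]
      have hd0 : d ∈ Zm := by
        refine ⟨hd.2, ?_⟩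
        rw [show d = b' * d'⁻¹ by rw [e]; group]
        exact (cj g (bb p A)).mul_mem hb' ((cj g (bb p A)).inv_mem hd')
      have hb'c : ⁅b', c⁆ ∈ Zm := by
        have h1 : b' ∈ cj g (X2 ⊓ bb p A) := by
          rw [cj_inf, Subgroup.mem_inf]
          refine ⟨?_, hb'⟩
          have hgn : g⁻¹ ∈ normalizer (X2 : Set G) := inv_mem (hX2n (mem_sup_left h.g_mem))
          exact mem_cj.2 (by simpa using (mem_normalizer_iff.1 hgn b').1 hb'2)
        have hc2 : g⁻¹ * c * g ∈ M := mem_cj.1 (h.cj_M.ge (mem_sup_left hc))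
        have h2 := key _ (mem_cj.1 h1) _ hc2
        have h3 := (mem_normalizer_iff.1 (hZn (mem_sup_left h.g_mem)) _).1 h2
        rwa [show g * ⁅g⁻¹ * b' * g, g⁻¹ * c * g⁆ * g⁻¹ = ⁅b', c⁆ by
          simp only [commutatorElement_def]; group] at h3
      rw [show ⁅b', c * c'⁆ = ⁅b', c⁆ * (c * ⁅b', c'⁆ * c⁻¹) by simp only [commutatorElement_def]; group,
        show ⁅b', c'⁆ = 1 from commutatorElement_eq_one_iff_mul_comm.2 (h.famB'.2.1 b' hb' c' hc'),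
        mul_one, mul_inv_cancel, mul_one]
      exact hb'c
    rw [commutatorElement_mul_left_eq_conj_mul]
    exact mul_mem ((mem_normalizer_iff.1 (hZn (mem_sup_right (mem_sup_left hb.2))) _).1 (hb'X.2 m hm))
      (key b hb m hm)
  have hM1 : M ≤ X1 := by
    by_contra hne
    have hpg : IsPGroup p ↥(M ⊔ M) := h.base.pgroup (sup_le (h.M_le.trans h.base.hQS) (h.M_le.trans h.base.hQS))
    obtain ⟨x, hx, hx1, -, hxM⟩ := exists_fixed (p := p) hpg le_normalizer (le_sup_right.trans hX1n)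
      (le_sup_right.trans hX1n) (fun x hx => hx.1) hne
    exact hx1 (h21 ⟨hx, hxM⟩)
  exact fun x hx y hy => (hM1 hx).2 y hy

theorem derived_le_dd : ∀ x ∈ mm p A g, ∀ y ∈ mm p A g, ⁅x, y⁆ ∈ dd p A g := by
  have hV0 : ∀ d, d ∈ dd p A g → d ∈ vG p G → d ∈ v0 p G := fun d h1 h2 => h.dd_inf_V.le ⟨h1, h2⟩
  have hfix : ∀ k ∈ zm p A g, (∀ a ∈ A, ⁅k, a⁆ ∈ dd p A g) → k ∈ dd p A g ⊔ cS S S := by
    intro k hk hc
    obtain ⟨d, hd, v, hv, rfl⟩ := mem_sup_normal (h.zm_eq ▸ hk)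
    obtain ⟨a, ha, haQ⟩ := h.exists_out
    refine mul_mem_sup hd (h.base.nat_comm h.opp hv (h.hA.1 ha) haQ ?_)
    have hvV : ⁅v, a⁆ ∈ vG p G := h.base.center_le_V (h.base.comm_V hv (h.hA.1 ha))
    have e : ⁅d * v, a⁆ = ⁅v, a⁆ := by
      rw [commutatorElement_mul_left_eq_conj_mul,
        show ⁅d, a⁆ = 1 from commutatorElement_eq_one_iff_mul_comm.2 (h.hA.2.1 d hd.1.1 a ha), mul_one]
      rw [h.base.commV hvV hd.1.2, mul_inv_cancel_right]
    have h0 := hV0 _ (e ▸ hc a ha) hvV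
    have := inv_mem h0
    rwa [commutatorElement_inv] at this
  have hDsub : dd p A g ≤ zm p A g := h.dd_le_zm
  have hfix' : ∀ k ∈ zm p A g, (∀ a ∈ cj g A, ⁅k, a⁆ ∈ dd p A g) → k ∈ dd p A g ⊔ cj g (cS S S) := by
    intro k hk hc
    rw [← h.cj_dd, ← cj_sup, mem_cj]
    refine hfix _ (mem_cj.1 (h.cj_zm.ge hk)) fun a ha => ?_
    have h1 := mem_cj.1 (h.cj_dd.ge (hc _ (conj_mem_cj ha)))
    rwa [show g⁻¹ * ⁅k, g * a * g⁻¹⁆ * g = ⁅g⁻¹ * k * g, a⁆ by
      simp only [commutatorElement_def]; group] at h1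
  have hdisj : (dd p A g ⊔ cS S S) ⊓ (dd p A g ⊔ cj g (cS S S)) ≤ dd p A g := by
    rintro k ⟨h1, h2⟩
    have hn : ∀ {W : Subgroup G}, W ≤ vG p G → dd p A g ≤ normalizer (W : Set G) := fun hW =>
      fun d hd => centralizer_le_normalizer _ fun w hw => (h.base.commV (hW hw) hd.1.2).symm
    replace h1 : k ∈ ((dd p A g ⊔ cS S S : Subgroup G) : Set G) := h1
    replace h2 : k ∈ ((dd p A g ⊔ cj g (cS S S) : Subgroup G) : Set G) := h2
    rw [coe_mul_of_left_le_normalizer_right _ _ (hn h.base.center_le_V)] at h1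
    rw [coe_mul_of_left_le_normalizer_right _ _ (hn (h.base.cjZ_le_V h.opp))] at h2
    obtain ⟨d, hd, z, hz, rfl⟩ := h1
    obtain ⟨d', hd', z', hz', e⟩ := h2
    have h3 : z * z'⁻¹ ∈ v0 p G := by
      refine hV0 _ ?_ (mul_mem (h.base.center_le_V hz) (inv_mem (h.base.cjZ_le_V h.opp hz')))
      rw [show z * z'⁻¹ = d⁻¹ * d' by
        have e' : d' * z' = d * z := e
        calc z * z'⁻¹ = d⁻¹ * (d * z) * z'⁻¹ := by group
          _ = _ := by rw [← e']; group]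
      exact mul_mem (inv_mem hd) hd'
    have hz0 : z ∈ v0 p G := by
      rw [h.base.v0_eq h.opp]
      refine ⟨hz, ?_⟩
      rw [show z = (z * z'⁻¹) * z' by group]
      exact mul_mem (h.base.v0_eq h.opp |>.le h3).2 hz'
    exact (dd p A g).mul_mem hd (h.dd_inf_V.ge hz0).1
  have key := h.pairing (X := mm p A g) (K := zm p A g) (Kl := dd p A g)
    (FA := dd p A g ⊔ cS S S) (FA' := dd p A g ⊔ cj g (cS S S)) le_rfl
    (fun e he x hx => (mem_normalizer_iff.1 (h.norm_M (mem_sup_right he)) x).1 hx)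
    (fun x hx => by
      obtain ⟨b, hb, b', hb', rfl⟩ := (h.famB.mem h.hb).1.exists_mul h.hb (h.famB'.mem h.hb).1 hx
      exact ⟨b, ⟨mem_sup_left hb, hb⟩, b', hb', rfl⟩)
    h.zm_le_M hDsub h.dd_norm h.derived_le_zm
    (fun k hk m hm => by rw [commutatorElement_eq_one_iff_mul_comm.2 (h.zm_comm hk hm).symm]; exact one_mem _)
    hfix le_sup_left hfix' hdisj
  let P1 : Subgroup G :=
    { carrier := {x | x ∈ mm p A g ∧ ∀ y ∈ mm p A g, ⁅x, y⁆ ∈ dd p A g}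
      one_mem' := ⟨one_mem _, fun m _ => by simp⟩
      mul_mem' := fun {x y} hx hy => ⟨mul_mem hx.1 hy.1, fun m hm => by
        rw [commutatorElement_mul_left_eq_conj_mul]
        exact mul_mem ((mem_normalizer_iff.1 (h.dd_norm (mem_sup_right hx.1)) _).1 (hy.2 m hm)) (hx.2 m hm)⟩
      inv_mem' := fun {x} hx => ⟨inv_mem hx.1, fun m hm => by
        rw [show ⁅x⁻¹, m⁆ = x⁻¹ * ⁅x, m⁆⁻¹ * x⁻¹⁻¹ by simp only [commutatorElement_def]; group]
        exact (mem_normalizer_iff.1 (h.dd_norm (mem_sup_right (inv_mem hx.1))) _).1 (inv_mem (hx.2 m hm))⟩ }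
  have hall : mm p A g ≤ P1 := by
    have hB : bb p A ≤ P1 := fun b hb => ⟨mem_sup_left hb, key b ⟨mem_sup_left hb, hb⟩⟩
    refine sup_le hB fun b hb => ⟨mem_sup_right hb, fun y hy => ?_⟩
    have h1 := (hB (mem_cj.1 hb)).2 _ (mem_cj.1 (h.cj_M.ge hy))
    have h2 := h.cj_dd.le (conj_mem_cj (g := g) h1)
    rwa [show g * ⁅g⁻¹ * b * g, g⁻¹ * y * g⁆ * g⁻¹ = ⁅b, y⁆ by simp only [commutatorElement_def]; group] at h2
  exact fun x hx => (hall hx).2

/-- `A` acts quadratically. -/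
theorem comm_mem_bb {x a : G} (hx : x ∈ mm p A g) (ha : a ∈ A) : ⁅a, x⁆ ∈ bb p A := by
  set M := mm p A g
  have hax : a * x * a⁻¹ ∈ M := (mem_normalizer_iff.1 (h.norm_M (mem_sup_left ha)) x).1 hx
  have hcM : ⁅a, x⁆ ∈ M := by rw [commutatorElement_def]; exact mul_mem hax (inv_mem hx)
  rw [← (h.famB.mem h.hb).2, mem_cS]
  refine ⟨h.base.hQS (h.M_le hcM), ?_⟩
  intro b hb
  obtain ⟨u, hu, v, hv, rfl⟩ := mem_sup_normal hb
  have hcv := h.base.commV hv (h.M_le hcM)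
  suffices hcu : u * ⁅a, x⁆ = ⁅a, x⁆ * u by
    calc u * v * ⁅a, x⁆ = u * (v * ⁅a, x⁆) := by group
      _ = u * (⁅a, x⁆ * v) := by rw [hcv]
      _ = (u * ⁅a, x⁆) * v := by group
      _ = _ := by rw [hcu]; group
  have huM : u ∈ M := mem_sup_left (mem_sup_left hu)
  have hd : ⁅x, u⁆ ∈ dd p A g := h.derived_le_dd x hx u huM
  have h1 : ⁅a * x * a⁻¹, u⁆ = ⁅x, u⁆ := by
    have e : a * u * a⁻¹ = u := by rw [h.hA.2.1 a ha u hu.1]; group
    calc ⁅a * x * a⁻¹, u⁆ = ⁅a * x * a⁻¹, a * u * a⁻¹⁆ := by rw [e]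
      _ = a * ⁅x, u⁆ * a⁻¹ := by simp only [commutatorElement_def]; group
      _ = _ := by rw [h.dd_comm hd (mem_sup_left (mem_sup_left ha))]; group
  refine (commutatorElement_eq_one_iff_mul_comm.1 (?_ : ⁅⁅a, x⁆, u⁆ = 1)).symm
  have e2 : ⁅a * x * a⁻¹, u⁆ = ⁅a, x⁆ * ⁅x, u⁆ * ⁅a, x⁆⁻¹ * ⁅⁅a, x⁆, u⁆ := by
    simp only [commutatorElement_def]; group
  rw [h.dd_comm hd (mem_sup_right hcM), mul_inv_cancel_right, h1, left_eq_mul] at e2
  exact e2

end Frame2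

end Cfsg.Agent.GenA.GN
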