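import Mathlib

/-!
Two unipotent operators whose fixed spaces are exchanged by the words `a^k a'^m a^k`, `mk = -1`, act
quadratically on the fixed space when the characteristic is at least five.
-/

set_option autoImplicit false

namespace Cfsg.Agent.GenA.GN

theorem cast_choose_two' {R : Type*} [CommRing R] (m : ℕ) : (m.choose 2 : R) * 2 = (m : R) * ((m : R) - 1) := by
  induction m with
  | zero => simp
  | succ m ih =>
    rw [show (m + 1).choose 2 = m + m.choose 2 by rw [Nat.choose_succ_succ, Nat.choose_one_right]]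
    push_cast
    linear_combination ih

variable {R W : Type*} [CommRing R] [AddCommGroup W] [Module R W]

theorem end_pow_apply (a : Module.End R W) {w d1 d2 : W} (h1 : a w = w + d1) (h2 : a d1 = d1 + d2)
    (h3 : a d2 = d2) (k : ℕ) : (a ^ k) w = w + (k : R) • d1 + (k.choose 2 : R) • d2 := by
  induction k with
  | zero => simp
  | succ k ih =>
    rw [pow_succ', Module.End.mul_apply, ih, map_add, map_add, map_smul, map_smul, h1, h2, h3,
      show (k + 1).choose 2 = k + k.choose 2 by rw [Nat.choose_succ_succ, Nat.choose_one_right]]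
    push_cast
    module

theorem end_pow_fix (a : Module.End R W) {w : W} (h : a w = w) (k : ℕ) : (a ^ k) w = w := by
  induction k with
  | zero => simp
  | succ k ih => rw [pow_succ', Module.End.mul_apply, ih, h]

variable {p : ℕ} [hp : Fact p.Prime] {V : Type*} [AddCommGroup V] [Module (ZMod p) V]

/-- The words exchange the fixed spaces; then `a'` is quadratic on the first and `w₋₁ = -w₁` on `Z`. -/
theorem cubic (hp5 : 5 ≤ p) (a a' : Module.End (ZMod p) V) (U U' Z Z' : Submodule (ZMod p) V)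
    (hdis : U ⊓ U' = ⊥) (hZU : Z ≤ U) (hZU' : Z' ≤ U')
    (hU : ∀ u ∈ U, a u = u) (hU' : ∀ y ∈ U', a' y = y)
    (hA : ∀ y ∈ U', ∃ c ∈ U, ∃ r ∈ Z', a y = y + (c + r))
    (hA' : ∀ u ∈ U, ∃ y ∈ U', ∃ z ∈ Z, a' u = u + (y + z))
    (hZ : ∀ r ∈ Z', ∃ r1 ∈ Z, a r = r + r1) (hZ' : ∀ z ∈ Z, ∃ s ∈ Z', a' z = z + s)
    (hw : ∀ k m : ℕ, (m * k : ZMod p) = -1 → ∀ u ∈ U, (a ^ k * a' ^ m * a ^ k) u ∈ U') :
    (∀ u ∈ U, a' u - u ∈ U') ∧
      ∀ z ∈ Z, (a ^ (p - 1) * a' * a ^ (p - 1)) z = -((a * a' ^ (p - 1) * a) z) := by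
  have hdis' : ∀ {x}, x ∈ U → x ∈ U' → x = 0 := fun h1 h2 =>
    (Submodule.mem_bot _).1 (hdis ▸ Submodule.mem_inf.2 ⟨h1, h2⟩)
  have hne : ∀ j : ℕ, 0 < j → j < p → (j : ZMod p) ≠ 0 := fun j h1 h2 h0 =>
    absurd (Nat.le_of_dvd h1 ((ZMod.natCast_eq_zero_iff j p).1 h0)) (by omega)
  have hp1 : ((p - 1 : ℕ) : ZMod p) = -1 := by
    rw [Nat.cast_sub (by omega), ZMod.natCast_self, Nat.cast_one, zero_sub]
  have hz : ∀ z ∈ Z, ∀ s ∈ Z', a' z = z + s → a s = s + z ∧
      (a ^ (p - 1) * a' * a ^ (p - 1)) z = s ∧ (a * a' ^ (p - 1) * a) z = -s := by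
    intro z hz s hs e
    obtain ⟨s1, hs1, e1⟩ := hZ s hs
    have e2 : (a' ^ (p - 1)) z = z + (-1 : ZMod p) • s := by
      rw [end_pow_apply a' e (d2 := 0) (by rw [hU' s (hZU' hs), add_zero]) (map_zero _), hp1, smul_zero, add_zero]
    have e3 : (a * a' ^ (p - 1) * a) z = z - s1 + -s := by
      rw [Module.End.mul_apply, Module.End.mul_apply, hU z (hZU hz), e2, map_add, map_smul, e1, hU z (hZU hz)]
      module
    have h4 := hw 1 (p - 1) (by rw [hp1, Nat.cast_one, mul_one]) z (hZU hz)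
    rw [pow_one, e3, add_mem_cancel_right (neg_mem (hZU' hs))] at h4
    have e5 : s1 = z := (sub_eq_zero.1 (hdis' (sub_mem (hZU hz) (hZU hs1)) h4)).symm
    subst e5
    refine ⟨e1, ?_, by rw [e3]; simp⟩
    rw [Module.End.mul_apply, Module.End.mul_apply, end_pow_fix a (hU s1 (hZU hz)), e, map_add,
      end_pow_fix a (hU s1 (hZU hz)),
      end_pow_apply a e1 (d2 := 0) (by rw [hU s1 (hZU hz), add_zero]) (map_zero _), hp1]
    module
  refine ⟨fun u hu => ?_, fun z hz' => ?_⟩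
  swap
  · obtain ⟨s, hs, e⟩ := hZ' z hz'
    obtain ⟨-, h1, h2⟩ := hz z hz' s hs e
    rw [h1, h2, neg_neg]
  obtain ⟨y, hy, z, hzZ, e⟩ := hA' u hu
  obtain ⟨s, hs, es⟩ := hZ' z hzZ
  obtain ⟨es1, -, -⟩ := hz z hzZ s hs es
  obtain ⟨c, hc, r, hr, ey⟩ := hA y hy
  obtain ⟨r1, hr1, er⟩ := hZ r hr
  have hE : ∀ k m : ℕ, (m * k : ZMod p) = -1 →
      (2 : ZMod p) • u - (2 : ZMod p) • c - ((k : ZMod p) - 1) • r1 + ((m : ZMod p) + 1) • z = 0 := by
    intro k m hmk
    have e1 : (a' ^ m) u = u + (m : ZMod p) • (y + z) + (m.choose 2 : ZMod p) • s := by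
      refine end_pow_apply a' e ?_ (hU' s (hZU' hs)) m
      rw [map_add, hU' y hy, es, add_assoc]
    have e2 : (a ^ k) y = y + (k : ZMod p) • (c + r) + (k.choose 2 : ZMod p) • r1 := by
      refine end_pow_apply a ey ?_ (hU r1 (hZU hr1)) k
      rw [map_add, hU c hc, er, add_assoc]
    have e3 : (a ^ k) s = s + (k : ZMod p) • z := by
      rw [end_pow_apply a es1 (d2 := 0) (by rw [hU z (hZU hzZ), add_zero]) (map_zero _), smul_zero, add_zero]
    have h4 := hw k m hmk u hu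
    set X := u + ((m : ZMod p) * k) • c + ((m : ZMod p) * k.choose 2) • r1 +
      ((m : ZMod p) + (m.choose 2 : ZMod p) * k) • z with hX
    have e4 : (a ^ k * a' ^ m * a ^ k) u =
        X + ((m : ZMod p) • y + ((m : ZMod p) * k) • r + (m.choose 2 : ZMod p) • s) := by
      rw [Module.End.mul_apply, Module.End.mul_apply, end_pow_fix a (hU u hu), e1, map_add, map_add, map_smul,
        map_smul, map_add, end_pow_fix a (hU u hu), e2, end_pow_fix a (hU z (hZU hzZ)), e3, hX]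
      module
    rw [e4, add_mem_cancel_right (add_mem (add_mem (Submodule.smul_mem _ _ hy)
      (Submodule.smul_mem _ _ (hZU' hr))) (Submodule.smul_mem _ _ (hZU' hs)))] at h4
    have hXU : X ∈ U := add_mem (add_mem (add_mem hu (Submodule.smul_mem _ _ hc))
      (Submodule.smul_mem _ _ (hZU hr1))) (Submodule.smul_mem _ _ (hZU hzZ))
    have h0 : X = 0 := hdis' hXU h4
    have hk2 := cast_choose_two' (R := ZMod p) k
    have hm2 := cast_choose_two' (R := ZMod p) m
    have h1 : (2 : ZMod p) • X = 0 := by rw [h0, smul_zero]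
    rw [hX] at h1
    rw [← h1]
    match_scalars
    · ring
    · linear_combination (-2) * hmk
    · linear_combination (-(m : ZMod p)) * hk2 - ((k : ZMod p) - 1) * hmk
    · linear_combination (-(k : ZMod p)) * hm2 - ((m : ZMod p) - 1) * hmk
  have hex : ∀ k : ℕ, 0 < k → k < p → ∃ m : ℕ, (m * k : ZMod p) = -1 := fun k h1 h2 =>
    ⟨(-((k : ZMod p))⁻¹).val, by rw [ZMod.natCast_zmod_val, neg_mul, inv_mul_cancel₀ (hne k h1 h2)]⟩
  obtain ⟨m1, h1⟩ := hex 1 one_pos (by omega)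
  obtain ⟨m2, h2⟩ := hex 2 two_pos (by omega)
  obtain ⟨m3, h3⟩ := hex 3 (by norm_num) (by omega)
  have E1 := hE 1 m1 h1
  have E2 := hE 2 m2 h2
  have E3 := hE 3 m3 h3
  push_cast at h1 h2 h3 E1 E2 E3
  have hm1 : (m1 : ZMod p) + 1 = 0 := by linear_combination h1
  have hc2 : (2 : ZMod p) * ((m2 : ZMod p) + 1) = 1 := by linear_combination h2
  have hc3 : (3 : ZMod p) * ((m3 : ZMod p) + 1) = 2 := by linear_combination h3
  rw [hm1] at E1
  have F2 : (2 : ZMod p) • ((2 : ZMod p) • u - (2 : ZMod p) • c - ((2 : ZMod p) - 1) • r1) + z = 0 := by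
    have h5 := congrArg ((2 : ZMod p) • ·) E2
    rw [smul_add, smul_smul (2 : ZMod p) ((m2 : ZMod p) + 1), hc2, one_smul, smul_zero] at h5
    exact h5
  have F3 : (3 : ZMod p) • ((2 : ZMod p) • u - (2 : ZMod p) • c - ((3 : ZMod p) - 1) • r1) +
      (2 : ZMod p) • z = 0 := by
    have h5 := congrArg ((3 : ZMod p) • ·) E3
    rw [smul_add, smul_smul (3 : ZMod p) ((m3 : ZMod p) + 1), hc3, smul_zero] at h5
    exact h5
  have hz0 : z = 0 := by
    linear_combination (norm := module) (3 : ZMod p) • F2 - F3 - (3 : ZMod p) • E1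
  rw [e, hz0, add_zero, add_sub_cancel_left]
  exact hy

end Cfsg.Agent.GenA.GN
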