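import Cfsg.Agent.Lib.CharP.ChermakDelgado

/-!
The lattice of subgroups `R ≤ S` with `|R| |C_S(R)|` equal to its largest value, for a subgroup `S` of an
ambient group: joins, meets, the antiautomorphism `R ↦ C_S(R)`, modularity and normality of covers.
-/

set_option autoImplicit false
set_option linter.unusedSectionVars false

namespace Cfsg.Agent.GenA.GN

open Subgroup
open scoped Pointwise

variable {G : Type*} [Group G] [Finite G]

/-- `C_S(R)`. -/
def cS (S R : Subgroup G) : Subgroup G := S ⊓ centralizer (R : Set G)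

/-- `f` bounds `|R| |C_S(R)|` over the subgroups of `S`. -/
def Bound (S : Subgroup G) (f : ℕ) : Prop := ∀ R ≤ S, Nat.card R * Nat.card ↥(cS S R) ≤ f

/-- The bound is attained at `R`. -/
def Mem (S : Subgroup G) (f : ℕ) (R : Subgroup G) : Prop := R ≤ S ∧ Nat.card R * Nat.card ↥(cS S R) = f

/-- A covering pair in the lattice. -/
def Cover (S : Subgroup G) (f : ℕ) (K P : Subgroup G) : Prop :=
  Mem S f K ∧ Mem S f P ∧ K < P ∧ ∀ X, Mem S f X → K ≤ X → X ≤ P → X = K ∨ X = P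

variable {S X Y N K P R : Subgroup G} {f : ℕ}

theorem cS_le : cS S R ≤ S := inf_le_left

theorem mem_cS {x : G} : x ∈ cS S R ↔ x ∈ S ∧ ∀ r ∈ R, r * x = x * r := by
  simp [cS, mem_centralizer_iff]

theorem comm_cS {x r : G} (hx : x ∈ cS S R) (hr : r ∈ R) : r * x = x * r := (mem_cS.1 hx).2 r hr

theorem cS_anti (h : X ≤ Y) : cS S Y ≤ cS S X :=
  inf_le_inf_left _ (centralizer_le (SetLike.coe_subset_coe.2 h))

theorem le_cS_cS (hR : R ≤ S) : R ≤ cS S (cS S R) :=
  fun _ hr => mem_cS.2 ⟨hR hr, fun _ hc => (comm_cS hc hr).symm⟩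

theorem le_cS_comm (hX : X ≤ S) (h : Y ≤ cS S X) : X ≤ cS S Y := (le_cS_cS hX).trans (cS_anti h)

theorem cS_sup (X Y : Subgroup G) : cS S (X ⊔ Y) = cS S X ⊓ cS S Y := by
  rw [cS, CharP.centralizer_sup_eq, cS, cS, inf_inf_distrib_left]

theorem squeeze {x y x' y' a b c d e f : ℕ} (h1 : x * y ≤ a * b) (h2 : x' * y' ≤ e * c) (he : e ≤ d)
    (hac : a * c ≤ f) (hbd : b * d ≤ f) (hx : x * x' = f) (hy : y * y' = f) (hf : 0 < f) :
    a * c = f ∧ b * d = f ∧ e = d ∧ x * y = a * b := by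
  have h0 : f * f ≤ (a * b) * (e * c) := by
    calc f * f = (x * y) * (x' * y') := by rw [← hx]; nth_rewrite 2 [hx]; rw [← hy]; ring
      _ ≤ _ := Nat.mul_le_mul h1 h2
  have h3 : (a * b) * (e * c) ≤ (a * b) * (d * c) := by gcongr
  have h4 : (a * b) * (d * c) = (a * c) * (b * d) := by ring
  have h5 : f * f ≤ (a * c) * (b * d) := by omega
  have eac : a * c = f := by
    refine le_antisymm hac (Nat.le_of_mul_le_mul_right ?_ hf)
    exact h5.trans (Nat.mul_le_mul_left _ hbd)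
  have ebd : b * d = f := by
    refine le_antisymm hbd (Nat.le_of_mul_le_mul_left ?_ hf)
    exact h5.trans (Nat.mul_le_mul_right _ hac)
  rw [eac, ebd] at h4
  have hpos : 0 < (a * b) * (d * c) := by rw [h4]; exact Nat.mul_pos hf hf
  have hab : 0 < a * b := Nat.pos_of_mul_pos_right hpos
  have hc : 0 < c := Nat.pos_of_mul_pos_left (Nat.pos_of_mul_pos_left hpos)
  have hed : e = d := by
    refine le_antisymm he (Nat.le_of_mul_le_mul_right ?_ hc)
    exact Nat.le_of_mul_le_mul_left (by omega) hab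
  refine ⟨eac, ebd, hed, le_antisymm h1 ?_⟩
  have hec : 0 < e * c := by rw [hed]; exact Nat.pos_of_mul_pos_left hpos
  refine Nat.le_of_mul_le_mul_right ?_ hec
  calc a * b * (e * c) = f * f := by rw [hed]; exact h4
    _ = (x * y) * (x' * y') := by rw [← hx]; nth_rewrite 2 [hx]; rw [← hy]; ring
    _ ≤ (x * y) * (e * c) := Nat.mul_le_mul_left _ h2

theorem bound_pos (hX : Mem S f X) : 0 < f := hX.2 ▸ Nat.mul_pos Nat.card_pos Nat.card_pos

theorem Mem.cS (hb : Bound S f) (hR : Mem S f R) :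
    Mem S f (cS S R) ∧ GN.cS S (GN.cS S R) = R := by
  have h1 : R ≤ GN.cS S (GN.cS S R) := le_cS_cS hR.1
  have h2 := hb _ (cS_le (S := S) (R := R))
  have h3 : Nat.card ↥(GN.cS S (GN.cS S R)) ≤ Nat.card R := by
    refine Nat.le_of_mul_le_mul_left ?_ (Nat.card_pos (α := ↥(GN.cS S R)))
    exact h2.trans (le_of_eq (by rw [← hR.2, mul_comm]))
  have e := (Subgroup.eq_of_le_of_card_ge h1 h3).symm
  exact ⟨⟨cS_le, by rw [e, mul_comm, hR.2]⟩, e⟩

theorem Mem.lattice (hb : Bound S f) (hX : Mem S f X) (hY : Mem S f Y) :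
    Mem S f (X ⊔ Y) ∧ Mem S f (X ⊓ Y) ∧ GN.cS S (X ⊓ Y) = GN.cS S X ⊔ GN.cS S Y ∧
      ((X ⊔ Y : Subgroup G) : Set G) = (X : Set G) * (Y : Set G) := by
  have hsupS : X ⊔ Y ≤ S := sup_le hX.1 hY.1
  have hle : GN.cS S X ⊔ GN.cS S Y ≤ GN.cS S (X ⊓ Y) := sup_le (cS_anti inf_le_left) (cS_anti inf_le_right)
  have h2 : Nat.card ↥(GN.cS S X) * Nat.card ↥(GN.cS S Y) ≤
      Nat.card ↥(GN.cS S X ⊔ GN.cS S Y) * Nat.card ↥(GN.cS S (X ⊔ Y)) := by
    rw [cS_sup]; exact CharP.card_mul_le_card_sup_mul_card_inf _ _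
  obtain ⟨h5, h6, h7, h8⟩ := squeeze (CharP.card_mul_le_card_sup_mul_card_inf X Y) h2
    (Subgroup.card_le_of_le hle) (hb _ hsupS) (hb _ (inf_le_left.trans hX.1)) hX.2 hY.2 (bound_pos hX)
  exact ⟨⟨hsupS, h5⟩, ⟨inf_le_left.trans hX.1, h6⟩, (Subgroup.eq_of_le_of_card_ge hle h7.ge).symm,
    CharP.coe_sup_eq_mul_of_card h8.ge⟩

theorem Mem.sup (hb : Bound S f) (hX : Mem S f X) (hY : Mem S f Y) : Mem S f (X ⊔ Y) :=
  (hX.lattice hb hY).1

theorem Mem.inf (hb : Bound S f) (hX : Mem S f X) (hY : Mem S f Y) : Mem S f (X ⊓ Y) :=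
  (hX.lattice hb hY).2.1

theorem Mem.cS_inf (hb : Bound S f) (hX : Mem S f X) (hY : Mem S f Y) :
    GN.cS S (X ⊓ Y) = GN.cS S X ⊔ GN.cS S Y :=
  (hX.lattice hb hY).2.2.1

theorem Mem.exists_mul (hb : Bound S f) (hX : Mem S f X) (hY : Mem S f Y) {x : G} (hx : x ∈ X ⊔ Y) :
    ∃ a ∈ X, ∃ b ∈ Y, x = a * b := by
  rw [← SetLike.mem_coe, (hX.lattice hb hY).2.2.2] at hx
  obtain ⟨a, ha, b, hb, rfl⟩ := hx
  exact ⟨a, ha, b, hb, rfl⟩

/-- The modular law. -/
theorem Mem.modular (hb : Bound S f) (hX : Mem S f X) (hY : Mem S f Y) (h : X ≤ N) :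
    N ⊓ (X ⊔ Y) = X ⊔ N ⊓ Y := by
  refine le_antisymm ?_ (sup_le (le_inf h le_sup_left) (inf_le_inf_left _ le_sup_right))
  rintro x ⟨hxN, hx⟩
  obtain ⟨a, ha, b, hb', rfl⟩ := hX.exists_mul hb hY hx
  exact mul_mem_sup ha ⟨by simpa using mul_mem (inv_mem (h ha)) hxN, hb'⟩

theorem Mem.modular' (hb : Bound S f) (hX : Mem S f X) (hY : Mem S f Y) (h : Y ≤ N) :
    N ⊓ (X ⊔ Y) = N ⊓ X ⊔ Y := by
  rw [sup_comm, hY.modular hb hX h, sup_comm]

theorem Mem.conj (hX : Mem S f X) {s : G} (hs : s ∈ S) : Mem S f (X.map (MulAut.conj s).toMonoidHom) := by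
  have hSs : S.map (MulAut.conj s).toMonoidHom = S := by
    refine Subgroup.eq_of_le_of_card_ge ?_ (Subgroup.card_map_of_injective (MulAut.conj s).injective).ge
    rintro _ ⟨x, hx, rfl⟩
    exact mul_mem (mul_mem hs hx) (inv_mem hs)
  have hc : GN.cS S (X.map (MulAut.conj s).toMonoidHom) =
      (GN.cS S X).map (MulAut.conj s).toMonoidHom := by
    have hmap : (GN.cS S X).map (MulAut.conj s).toMonoidHom =
        S.map (MulAut.conj s).toMonoidHom ⊓ (centralizer (X : Set G)).map (MulAut.conj s).toMonoidHom :=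
      Subgroup.map_inf _ _ _ (MulAut.conj s).injective
    rw [hmap, hSs]
    refine congrArg (S ⊓ ·) ?_
    ext y
    constructor
    · intro hy
      refine ⟨(MulAut.conj s).symm y, fun x hx => ?_, (MulAut.conj s).apply_symm_apply y⟩
      apply (MulAut.conj s).injective
      simp only [map_mul, MulEquiv.apply_symm_apply]
      exact hy _ ⟨x, hx, rfl⟩
    · rintro ⟨z, hz, rfl⟩ _ ⟨x, hx, rfl⟩
      rw [← map_mul, ← map_mul, hz x hx]
  refine ⟨hSs ▸ Subgroup.map_mono hX.1, ?_⟩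
  rw [hc, Subgroup.card_map_of_injective (MulAut.conj s).injective,
    Subgroup.card_map_of_injective (MulAut.conj s).injective, hX.2]

theorem Cover.normal (hb : Bound S f) (h : Cover S f K P) : P ≤ normalizer (K : Set G) := by
  obtain ⟨hK, hP, hlt, hmax⟩ := h
  intro x hx
  set c := (MulAut.conj x).toMonoidHom
  have hKx := hK.conj (hP.1 hx)
  have hle : K.map c ≤ P := by
    rintro _ ⟨k, hk, rfl⟩
    exact mul_mem (mul_mem hx (hlt.le hk)) (inv_mem hx)
  rcases hmax _ (hK.sup hb hKx) le_sup_left (sup_le hlt.le hle) with e | e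
  · have e1 : K.map c = K := Subgroup.eq_of_le_of_card_ge (le_sup_right.trans e.le)
      (Subgroup.card_map_of_injective (MulAut.conj x).injective).ge
    refine mem_normalizer_fintype fun k hk => ?_
    exact e1.le (mem_map_of_mem c hk)
  · exfalso
    have hx' : x⁻¹ ∈ K ⊔ K.map c := e.symm ▸ inv_mem hx
    obtain ⟨a, ha, _, ⟨b, hb', rfl⟩, e2⟩ := hK.exists_mul hb hKx hx'
    -- `x⁻¹ = a (x b x⁻¹)` puts `x` into `K`
    have hxK : x ∈ K := by
      have e2' : x⁻¹ = a * (x * b * x⁻¹) := e2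
      have e3 : a * x * b = 1 := by
        have h1 := congrArg (· * x) e2'
        simp only [inv_mul_cancel] at h1
        rw [h1]; group
      rw [show x = a⁻¹ * b⁻¹ by rw [← mul_one a⁻¹, ← e3]; group]
      exact mul_mem (inv_mem ha) (inv_mem hb')
    have hle2 : K.map c ≤ K := by
      rintro _ ⟨k, hk, rfl⟩
      exact mul_mem (mul_mem hxK hk) (inv_mem hxK)
    exact hlt.ne ((sup_eq_left.2 hle2).symm.trans e)

theorem exists_cover (hK : Mem S f K) (hP : Mem S f P) (h : K < P) : ∃ X, Cover S f K X ∧ X ≤ P := by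
  obtain ⟨X, hX, hmin⟩ := Set.Finite.exists_minimal
    (Set.toFinite {X : Subgroup G | Mem S f X ∧ K < X ∧ X ≤ P}) ⟨P, hP, h, le_rfl⟩
  refine ⟨X, ⟨hK, hX.1, hX.2.1, fun Y hY h1 h2 => ?_⟩, hX.2.2⟩
  rcases eq_or_lt_of_le h1 with e | e
  · exact Or.inl e.symm
  · exact Or.inr (le_antisymm h2 (hmin ⟨hY, e, h2.trans hX.2.2⟩ h2))

theorem Cover.cS (hb : Bound S f) (h : Cover S f K P) : Cover S f (GN.cS S P) (GN.cS S K) := by
  obtain ⟨hK, hP, hlt, hmax⟩ := h
  refine ⟨(hP.cS hb).1, (hK.cS hb).1, lt_of_le_of_ne (cS_anti hlt.le) fun e => ?_, fun X hX h1 h2 => ?_⟩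
  · exact hlt.ne (by rw [← (hK.cS hb).2, ← e, (hP.cS hb).2])
  · rcases hmax _ (hX.cS hb).1 ((le_cS_cS hK.1).trans (cS_anti h2))
      ((cS_anti h1).trans (hP.cS hb).2.le) with e | e
    · exact Or.inr (by rw [← (hX.cS hb).2, e])
    · exact Or.inl (by rw [← (hX.cS hb).2, e])

/-- A subgroup between the two members of a cover generated by the lower one and a member. -/
theorem Cover.eq_or (hb : Bound S f) (h : Cover S f K P) (hX : Mem S f X) (hXP : X ≤ P) :
    X ≤ K ∨ K ⊔ X = P := by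
  rcases h.2.2.2 _ (h.1.sup hb hX) le_sup_left (sup_le h.2.2.1.le hXP) with e | e
  · exact Or.inl (e ▸ le_sup_right)
  · exact Or.inr e

theorem Mem.sSup_finset (hb : Bound S f) {ι : Type*} {s : Finset ι} (hs : s.Nonempty) {F : ι → Subgroup G}
    (h : ∀ i ∈ s, Mem S f (F i)) : Mem S f (s.sup' hs F) :=
  Finset.sup'_induction hs F (fun _ ha _ hb' => ha.sup hb hb') h

theorem mem_iSup (hb : Bound S f) {ι : Type*} [Finite ι] [Nonempty ι] {F : ι → Subgroup G}
    (h : ∀ i, Mem S f (F i)) : Mem S f (⨆ i, F i) := by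
  have := Fintype.ofFinite ι
  rw [← Finset.sup_univ_eq_iSup, ← Finset.sup'_eq_sup Finset.univ_nonempty]
  exact Mem.sSup_finset hb _ fun i _ => h i

theorem mem_iInf (hb : Bound S f) {ι : Type*} [Finite ι] [Nonempty ι] {F : ι → Subgroup G}
    (h : ∀ i, Mem S f (F i)) : Mem S f (⨅ i, F i) := by
  have := Fintype.ofFinite ι
  rw [← Finset.inf_univ_eq_iInf, ← Finset.inf'_eq_inf Finset.univ_nonempty]
  exact Finset.inf'_induction Finset.univ_nonempty F (fun _ ha _ hb' => ha.inf hb hb') fun i _ => h i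

end Cfsg.Agent.GenA.GN
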