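import Cfsg.Agent.Lib.CharP.PushOne.Sit
import Cfsg.Agent.GenA.GN.Lattice

/-!
The rank one quotient of a pushing-up situation, without any hypothesis on characteristic subgroups.
-/

set_option autoImplicit false
set_option linter.unusedSectionVars false
set_option linter.style.haveILetI false

namespace Cfsg.Agent.GenA.GN

open Subgroup Cfsg.Agent.Classical.GL2 Cfsg.Agent.CharP Cfsg.Agent.CharP.PushOne
open scoped MatrixGroups commutatorElement

/-- The conjugate `g X g⁻¹`. -/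
def cj {G : Type*} [Group G] (g : G) (X : Subgroup G) : Subgroup G :=
  X.map (MulAut.conj g).toMonoidHom

theorem mem_cj {G : Type*} [Group G] {g x : G} {X : Subgroup G} : x ∈ cj g X ↔ g⁻¹ * x * g ∈ X := by
  constructor
  · rintro ⟨y, hy, rfl⟩
    show g⁻¹ * (g * y * g⁻¹) * g ∈ X
    rwa [show g⁻¹ * (g * y * g⁻¹) * g = y by group]
  · intro h
    refine ⟨_, h, ?_⟩
    show g * (g⁻¹ * x * g) * g⁻¹ = x
    group

theorem conj_mem_cj {G : Type*} [Group G] {g x : G} {X : Subgroup G} (hx : x ∈ X) :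
    g * x * g⁻¹ ∈ cj g X := mem_map_of_mem _ hx

theorem card_cj {G : Type*} [Group G] (g : G) (X : Subgroup G) : Nat.card ↥(cj g X) = Nat.card X :=
  card_map_of_injective (MulAut.conj g).injective

theorem cj_cj {G : Type*} [Group G] (g h : G) (X : Subgroup G) : cj g (cj h X) = cj (g * h) X := by
  ext x; simp only [mem_cj, _root_.mul_inv_rev, mul_assoc]

theorem cj_one {G : Type*} [Group G] (X : Subgroup G) : cj 1 X = X := by
  ext x; simp [mem_cj]

theorem cj_mono {G : Type*} [Group G] {g : G} {X Y : Subgroup G} (h : X ≤ Y) : cj g X ≤ cj g Y :=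
  Subgroup.map_mono h

theorem cj_sup {G : Type*} [Group G] (g : G) (X Y : Subgroup G) : cj g (X ⊔ Y) = cj g X ⊔ cj g Y :=
  Subgroup.map_sup _ _ _

theorem cj_inf {G : Type*} [Group G] (g : G) (X Y : Subgroup G) : cj g (X ⊓ Y) = cj g X ⊓ cj g Y :=
  Subgroup.map_inf _ _ _ (MulAut.conj g).injective

theorem cj_normal {G : Type*} [Group G] (g : G) (N : Subgroup G) [hN : N.Normal] : cj g N = N := by
  ext x
  rw [mem_cj]
  exact ⟨fun h => by simpa [mul_assoc] using hN.conj_mem _ h g,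
    fun h => by simpa [mul_assoc] using hN.conj_mem _ h g⁻¹⟩

theorem cj_self {G : Type*} [Group G] {g : G} {X : Subgroup G} (hg : g ∈ X) : cj g X = X := by
  ext x
  rw [mem_cj]
  exact ⟨fun h => by simpa [mul_assoc] using mul_mem (mul_mem hg h) (inv_mem hg),
    fun h => mul_mem (mul_mem (inv_mem hg) h) hg⟩

/-- The rank one quotient. -/
structure Dat {G : Type*} [Group G] (p : ℕ) (F : Type) [Field F] [Fintype F] (S : Subgroup G)
    (φ : G →* PSL(2, F)) : Prop where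
  situation : Cfsg.IsPushingUpSituation p S
  surj : Function.Surjective φ
  upper : S.map φ = upperP F
  kerS : ∀ x ∈ S, φ x = 1 → x ∈ Cfsg.pCore p G
  coreKer : Cfsg.pCore p G ≤ φ.ker
  gen : ∀ H : Subgroup G, S ≤ H → H.map φ = ⊤ → H = ⊤
  cardF : ∃ n : ℕ, 1 ≤ n ∧ Fintype.card F = p ^ n

variable {G : Type*} [Group G] [Finite G] {p : ℕ} [hp : Fact p.Prime]

/-- A pushing-up situation has such a quotient. -/
theorem exists_dat {S : Subgroup G} (hE : Cfsg.IsPushingUpSituation p S) :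
    ∃ (F : Type) (_ : Field F) (_ : Fintype F) (φ : G →* PSL(2, F)), Dat p F S φ := by
  obtain ⟨-, ⟨P, rfl⟩, -, hE₂, K, hK, F, _, _, n, hF, hE₃⟩ := id hE
  have hn : 1 ≤ n := by
    rcases Nat.eq_zero_or_pos n with rfl | h
    · exact absurd hF (by rw [pow_zero]; exact (Fintype.one_lt_card (α := F)).ne')
    · exact h
  obtain ⟨e⟩ := hE₃
  set φ0 : G →* PSL(2, F) := e.toMonoidHom.comp (QuotientGroup.mk' K) with hφ0
  have hs0 : Function.Surjective φ0 := e.surjective.comp (QuotientGroup.mk'_surjective K)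
  have hU : IsPGroup p (upperP F) :=
    IsPGroup.of_card (n := n) (by rw [natCard_upperP, Nat.card_eq_fintype_card, hF])
  obtain ⟨T, hT⟩ := hU.exists_le_sylow
  have hTU : (T : Subgroup PSL(2, F)) = upperP F :=
    (eq_of_le_of_card_ge hT ((PushOne.card_le_field T.isPGroup' hn hF).trans natCard_upperP.ge)).symm
  obtain ⟨y, hy⟩ := MulAction.exists_smul_eq PSL(2, F) (P.mapSurjective hs0) T
  have hyU : ((P : Subgroup G).map φ0).map (MulAut.conj y).toMonoidHom = upperP F := by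
    rw [← hTU, ← hy, Sylow.coe_subgroup_smul, Sylow.coe_mapSurjective]
    rfl
  set φ := (MulAut.conj y).toMonoidHom.comp φ0 with hφ
  have hφs : Function.Surjective φ := (MulAut.conj y).surjective.comp hs0
  have hup : (P : Subgroup G).map φ = upperP F := by rw [hφ, ← Subgroup.map_map]; exact hyU
  have hker : ∀ x, φ x = 1 ↔ x ∈ K := fun x => by
    rw [hφ, MonoidHom.comp_apply, MulEquiv.toMonoidHom_eq_coe, MonoidHom.coe_coe,
      MulEquiv.map_eq_one_iff, hφ0, MonoidHom.comp_apply, MulEquiv.toMonoidHom_eq_coe,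
      MonoidHom.coe_coe, MulEquiv.map_eq_one_iff]
    exact QuotientGroup.eq_one_iff x
  have hKP : K ⊔ (P : Subgroup G) ≠ ⊤ := fun h => upperP_ne_top (F := F) (by
    have h1 := congrArg (Subgroup.map φ) h
    rw [Subgroup.map_sup, hup, map_top_of_surjective _ hφs,
      show K.map φ = ⊥ from (Subgroup.map_eq_bot_iff _).2 fun x hx => (hker x).2 hx, bot_sup_eq] at h1
    exact h1)
  refine ⟨F, inferInstance, inferInstance, φ, hE, hφs, hup, fun x hx h =>
    PushingUpCL.inf_le_pCore hE K hKP ⟨(hker x).1 h, hx⟩, ?_, ?_, ⟨n, hn, hF⟩⟩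
  · intro x hx
    have hPS := (PushingUpCL.center_le_pCore hE).2
    haveI : ((Cfsg.pCore p G).map φ).Normal := Normal.map inferInstance φ hφs
    have h1 : φ x ∈ (Cfsg.pCore p G).map φ := mem_map_of_mem φ hx
    have h2 := ‹((Cfsg.pCore p G).map φ).Normal›.conj_mem _ h1 (pr (wSL : SL(2, F)))
    obtain ⟨a, ha⟩ := mem_upperP.1 (hup ▸ map_mono hPS h1)
    obtain ⟨b, hb⟩ := mem_upperP.1 (hup ▸ map_mono hPS h2)
    rw [← ha, ← map_inv, ← map_mul, ← map_mul, w_conj_uni] at hb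
    have h3 := (pr_uni_eq_low hb).2
    rw [MonoidHom.mem_ker, ← ha, neg_eq_zero.1 h3, uniSL_zero, map_one]
  · intro H hPH hH
    by_contra hne
    obtain ⟨M, ⟨hMc, hPM⟩, huniq⟩ := hE₂
    have hle : ∀ X : Subgroup G, (P : Subgroup G) ≤ X → X ≠ ⊤ → X ≤ M := fun X hX hX' => by
      obtain ⟨M', hM', hXM⟩ := (eq_top_or_exists_le_coatom X).resolve_left hX'
      exact hXM.trans (huniq M' ⟨hM', hX.trans hXM⟩).le
    refine hMc.1 (eq_top_iff.2 fun g _ => ?_)
    obtain ⟨h, hh, he⟩ := hH.ge (mem_top (φ g))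
    have hk : h⁻¹ * g ∈ K := (hker _).1 (by rw [map_mul, map_inv, he, inv_mul_cancel])
    rw [show g = h * (h⁻¹ * g) by group]
    exact mul_mem (hle H hPH hne hh) (hle _ le_sup_right hKP (mem_sup_left hk))

namespace Dat

variable {F : Type} [Field F] [Fintype F] {S : Subgroup G} {φ : G →* PSL(2, F)} (h : Dat p F S φ)
include h

theorem core_le : Cfsg.pCore p G ≤ S := (PushingUpCL.center_le_pCore h.situation).2

theorem charP : centralizer (Cfsg.pCore p G : Set G) ≤ Cfsg.pCore p G := h.situation.2.2.1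

theorem isPGroup : IsPGroup p S := by
  obtain ⟨P, hP⟩ := h.situation.2.1
  exact hP ▸ P.isPGroup'

theorem exists_u (x : F) : ∃ s ∈ S, φ s = pr (uniSL x) := by
  have : pr (uniSL x) ∈ S.map φ := h.upper.symm ▸ mem_upperP.2 ⟨x, rfl⟩
  obtain ⟨s, hs, e⟩ := this
  exact ⟨s, hs, e⟩

theorem exists_x {s : G} (hs : s ∈ S) : ∃ x : F, φ s = pr (uniSL x) := by
  obtain ⟨x, hx⟩ := mem_upperP.1 (h.upper ▸ mem_map_of_mem φ hs)
  exact ⟨x, hx.symm⟩

theorem card_S : Nat.card S = Nat.card F * Nat.card (Cfsg.pCore p G) := by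
  have e := (φ.comp S.subtype).ker.card_eq_card_quotient_mul_card_subgroup
  rw [Nat.card_congr (QuotientGroup.quotientKerEquivRange (φ.comp S.subtype)).toEquiv,
    MonoidHom.range_comp, range_subtype, h.upper, natCard_upperP] at e
  rw [e]
  congr 1
  have hk : (φ.comp S.subtype).ker = (Cfsg.pCore p G).subgroupOf S := by
    ext x
    exact ⟨fun hx => h.kerS x x.2 hx, fun hx => h.coreKer hx⟩
  rw [hk]
  exact Nat.card_congr (subgroupOfEquivOfLe h.core_le).toEquiv

theorem conj_upper_ne {g : G} (hg : S ⊔ S.map (MulAut.conj g).toMonoidHom = ⊤) (A : SL(2, F))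
    (hA : φ g = pr A) : (A : Matrix (Fin 2) (Fin 2) F) 1 0 ≠ 0 := by
  intro h0
  refine upperP_ne_top (F := F) (eq_top_iff.2 ?_)
  rw [← map_top_of_surjective _ h.surj, ← hg, Subgroup.map_sup, h.upper]
  refine sup_le le_rfl ?_
  rintro _ ⟨_, ⟨s, hs, rfl⟩, rfl⟩
  obtain ⟨x, hx⟩ := h.exists_x hs
  show φ (g * s * g⁻¹) ∈ _
  rw [map_mul, map_mul, map_inv, hx, hA, ← map_inv, ← map_mul, ← map_mul, conj_uni_upper A h0]
  exact mem_upperP.2 ⟨_, rfl⟩

theorem sup_conj_eq_top {g : G} (A : SL(2, F)) (hA : φ g = pr A)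
    (hc : (A : Matrix (Fin 2) (Fin 2) F) 1 0 ≠ 0) : S ⊔ S.map (MulAut.conj g).toMonoidHom = ⊤ := by
  refine h.gen _ le_sup_left ?_
  set H := (S ⊔ S.map (MulAut.conj g).toMonoidHom).map φ
  have hu : ∀ x, pr (uniSL x) ∈ H := fun x => by
    obtain ⟨s, hs, e⟩ := h.exists_u x
    exact ⟨s, mem_sup_left hs, e⟩
  have hcj : ∀ x, pr (A * uniSL x * A⁻¹) ∈ H := fun x => by
    obtain ⟨s, hs, e⟩ := h.exists_u x
    refine ⟨g * s * g⁻¹, mem_sup_right ⟨s, hs, rfl⟩, ?_⟩
    rw [map_mul, map_mul, map_inv, hA, e, ← map_inv, ← map_mul, ← map_mul]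
  have htop : H.comap (QuotientGroup.mk' (Subgroup.center SL(2, F))) = ⊤ := by
    refine eq_top_of_uni_low hu fun y => ?_
    set c := (A : Matrix (Fin 2) (Fin 2) F) 1 0
    rw [show lowSL y = lowSL (-(c * c * (-(y / (c * c))))) by congr 1; field_simp,
      ← conj_uni_lower A rfl rfl hc]
    rw [mem_comap, map_mul, map_mul]
    exact mul_mem (mul_mem (hu _) (hcj _)) (hu _)
  rw [eq_top_iff]
  intro z _
  obtain ⟨B, rfl⟩ := QuotientGroup.mk'_surjective (Subgroup.center SL(2, F)) z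
  exact htop.ge (mem_top B)

theorem exists_opp : ∃ g : G, φ g = pr (wSL : SL(2, F)) ∧
    S ⊔ S.map (MulAut.conj g).toMonoidHom = ⊤ := by
  obtain ⟨g, hg⟩ := h.surj (pr (wSL : SL(2, F)))
  exact ⟨g, hg, h.sup_conj_eq_top wSL hg (by simp [coe_wSL])⟩

theorem opp_shift {g s : G} (hg : S ⊔ S.map (MulAut.conj g).toMonoidHom = ⊤) (hs : s ∈ S)
    (hsQ : s ∉ Cfsg.pCore p G) : S ⊔ S.map (MulAut.conj (g⁻¹ * s * g)).toMonoidHom = ⊤ := by
  obtain ⟨A, hA⟩ := QuotientGroup.mk'_surjective (Subgroup.center SL(2, F)) (φ g)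
  have hc := h.conj_upper_ne hg A hA.symm
  obtain ⟨x, hx⟩ := h.exists_x hs
  have hx0 : x ≠ 0 := fun e => hsQ (h.kerS s hs (by rw [hx, e, uniSL_zero, map_one]))
  refine h.sup_conj_eq_top (A⁻¹ * uniSL x * A) ?_ ?_
  · rw [map_mul, map_mul, map_inv, hx, ← hA, ← map_inv, ← map_mul, ← map_mul]
  · obtain ⟨c, hc'⟩ : ∃ c, (A : Matrix (Fin 2) (Fin 2) F) 1 0 = c := ⟨_, rfl⟩
    simp [Matrix.SpecialLinearGroup.coe_mul, Matrix.SpecialLinearGroup.coe_inv, coe_uniSL,
      Matrix.adjugate_fin_two, Matrix.mul_apply, Fin.sum_univ_two, hc']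
    rw [hc'] at hc
    ring_nf
    simp [hc, hx0]

end Dat

end Cfsg.Agent.GenA.GN
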