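import Cfsg.Agent.Lib.SolvableSignalizer.Linear.Quad

/-!
For `p ≥ 5` a quadratic `p`-element centralises a normal subgroup whose `p`-elements act trivially, modulo
the kernel of the action.
-/

set_option autoImplicit false
set_option linter.unusedSectionVars false
set_option linter.style.haveILetI false

namespace Cfsg.Agent.GenA.GN

open Subgroup Cfsg.Agent.SolvableSignalizer.Linear
open scoped commutatorElement

variable {G : Type*} [Group G] [Finite G] {p : ℕ} [hp : Fact p.Prime]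

theorem isPGroup_zpowers {x : G} {k : ℕ} (hx : x ^ p ^ k = 1) : IsPGroup p ↥(zpowers x) := by
  rw [IsPGroup.iff_card]
  obtain ⟨i, -, hi⟩ := (Nat.dvd_prime_pow hp.out).1 (orderOf_dvd_of_pow_eq_one hx)
  exact ⟨i, by rw [Nat.card_zpowers, hi]⟩

/-- A quadratic `p`-element centralises, modulo the centraliser, a normal subgroup with inert `p`-elements. -/
theorem quad_kill (V : Subgroup G) [V.Normal] (hVe : Cfsg.IsElementaryAbelian p V) (hp2 : p ≠ 2) (hp3 : p ≠ 3)
    (K : Subgroup G) [K.Normal]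
    (hK : ∀ y ∈ K, IsPGroup p ↥(zpowers y) → y ∈ centralizer (V : Set G))
    {a : G} {i : ℕ} (ha : a ^ p ^ i = 1) (hsq : ∀ v ∈ V, Commute a ⁅a, v⁆) :
    ∀ n ∈ K, ⁅n, a⁆ ∈ centralizer (V : Set G) := by
  set C := centralizer (V : Set G) with hC
  let H0 : Subgroup G :=
    { carrier := {n | n ∈ K ∧ ⁅n, a⁆ ∈ C}
      one_mem' := ⟨one_mem _, by simp⟩
      mul_mem' := fun {x y} hx hy => ⟨mul_mem hx.1 hy.1, by
        rw [commutatorElement_mul_left_eq_conj_mul]
        exact mul_mem ((inferInstance : C.Normal).conj_mem _ hy.2 x) hx.2⟩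
      inv_mem' := fun {x} hx => ⟨inv_mem hx.1, by
        rw [show ⁅x⁻¹, a⁆ = x⁻¹ * ⁅x, a⁆⁻¹ * x⁻¹⁻¹ by simp only [commutatorElement_def]; group]
        exact (inferInstance : C.Normal).conj_mem _ (inv_mem hx.2) _⟩ }
  have hle : H0 ≤ K := fun n hn => hn.1
  suffices hH : K ≤ H0 from fun n hn => (hH hn).2
  refine (Subgroup.eq_of_le_of_card_ge hle (Nat.le_of_dvd Nat.card_pos ?_)).ge
  rw [Nat.dvd_iff_prime_pow_dvd_dvd]
  intro r k hr hdvd
  haveI : Fact r.Prime := ⟨hr⟩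
  rcases Nat.eq_zero_or_pos k with rfl | hk
  · simp
  obtain ⟨P⟩ : Nonempty (Sylow r K) := inferInstance
  set Pk := (P : Subgroup K).map K.subtype with hPk
  have hcard : r ^ k ∣ Nat.card Pk := by
    rw [hPk, card_map_of_injective K.subtype_injective]
    exact P.pow_dvd_card_of_pow_dvd_card hdvd
  have hPkK : Pk ≤ K := map_subtype_le _
  have hPkr : IsPGroup r Pk := P.isPGroup'.map _
  by_cases hrp : r = p
  · subst hrp
    refine hcard.trans (card_dvd_of_le fun y hy => ⟨hPkK hy, ?_⟩)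
    have hyC : y ∈ C := hK y (hPkK hy) (hPkr.to_le (zpowers_le.2 hy))
    rw [commutatorElement_def, show y * a * y⁻¹ * a⁻¹ = y * (a * y⁻¹ * a⁻¹) by group]
    exact mul_mem hyC ((inferInstance : C.Normal).conj_mem _ (inv_mem hyC) a)
  -- a `p`-element in `a K` normalising a Sylow subgroup
  obtain ⟨m, hm, kk, hkk, e⟩ : ∃ m ∈ normalizer (Pk : Set G), ∃ kk ∈ K, m * kk = a := by
    have h1 : a ∈ normalizer (Pk : Set G) ⊔ K := by
      rw [hPk, Sylow.normalizer_sup_eq_top]; exact mem_top a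
    rwa [mem_sup_of_normal_right] at h1
  obtain ⟨j, m', hm', em⟩ := Nat.exists_eq_pow_mul_and_not_dvd (orderOf_pos m).ne' p hp.out.one_lt.ne'
  obtain ⟨e0, he0, he1⟩ := Nat.chineseRemainder
    (Nat.Coprime.pow_left i (hp.out.coprime_iff_not_dvd.2 hm')) 1 0
  set m1 := m ^ e0 with hm1
  have hm1p : m1 ^ p ^ j = 1 := by
    rw [hm1, ← pow_mul]
    refine orderOf_dvd_iff_pow_eq_one.1 ?_
    rw [em, mul_comm]
    exact Nat.mul_dvd_mul_right ((Nat.modEq_zero_iff_dvd).1 he1) _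
  set q := QuotientGroup.mk' K
  have hqm : q m = q a := by
    rw [← e, map_mul, show q kk = 1 from (QuotientGroup.eq_one_iff kk).2 hkk, mul_one]
  have ham : a⁻¹ * m1 ∈ K := by
    refine (QuotientGroup.eq_one_iff _).1 (?_ : q (a⁻¹ * m1) = 1)
    rw [map_mul, map_inv, hm1, map_pow, hqm, inv_mul_eq_one]
    have h2 : (q a) ^ p ^ i = 1 := by rw [← map_pow, ha, map_one]
    calc q a = (q a) ^ 1 := (pow_one _).symm
      _ = (q a) ^ e0 := pow_eq_pow_iff_modEq.2 (he0.symm.of_dvd (orderOf_dvd_of_pow_eq_one h2))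
  set X := K ⊔ zpowers a
  have haX : a ∈ X := mem_sup_right (mem_zpowers a)
  have hm1X : m1 ∈ X := by
    have := mul_mem haX (mem_sup_left ham : a⁻¹ * m1 ∈ X)
    rwa [mul_inv_cancel_left] at this
  obtain ⟨Pa, hPa⟩ := (isPGroup_zpowers (x := (⟨a, haX⟩ : X)) (k := i) (Subtype.ext ha)).exists_le_sylow
  obtain ⟨Pm, hPm⟩ := (isPGroup_zpowers (x := (⟨m1, hm1X⟩ : X)) (k := j) (Subtype.ext hm1p)).exists_le_sylow
  obtain ⟨n, hn⟩ := MulAction.exists_smul_eq X Pm Pa
  set x : X := n * ⟨m1, hm1X⟩ * n⁻¹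
  have hxP : x ∈ (Pa : Subgroup X) := by
    rw [← hn, Sylow.coe_subgroup_smul]
    exact ⟨_, hPm (mem_zpowers _), rfl⟩
  obtain ⟨kx, hkx⟩ := Pa.isPGroup' ⟨x, hxP⟩
  have hxk : (x : G) ^ p ^ kx = 1 := congrArg (fun z : ↥(Pa : Subgroup X) => ((z : X) : G)) hkx
  obtain ⟨kd, hkd⟩ := Pa.isPGroup'
    ⟨⟨a, haX⟩⁻¹ * x, mul_mem (inv_mem (hPa (mem_zpowers _))) hxP⟩
  have hdk : (a⁻¹ * (x : G)) ^ p ^ kd = 1 := congrArg (fun z : ↥(Pa : Subgroup X) => ((z : X) : G)) hkd
  have hdK : a⁻¹ * (x : G) ∈ K := by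
    refine (QuotientGroup.eq_one_iff _).1 (?_ : q (a⁻¹ * (x : G)) = 1)
    obtain ⟨k', hk', y, hy, en⟩ : ∃ k' ∈ K, ∃ y ∈ zpowers a, k' * y = (n : G) := by
      have h1 := n.2
      rwa [mem_sup_of_normal_left] at h1
    obtain ⟨z, rfl⟩ := mem_zpowers_iff.1 hy
    have hqm1 : q m1 = q a := by
      have h2 : q (a⁻¹ * m1) = 1 := (QuotientGroup.eq_one_iff _).2 ham
      rw [map_mul, map_inv, inv_mul_eq_one] at h2
      exact h2.symm
    show q (a⁻¹ * ((n : G) * m1 * (n : G)⁻¹)) = 1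
    rw [map_mul, map_mul, map_mul, map_inv, map_inv, hqm1, ← en, map_mul,
      show q k' = 1 from (QuotientGroup.eq_one_iff k').2 hk', one_mul, map_zpow]
    group
  set c := a⁻¹ * (x : G) with hc
  have hcC : c ∈ C := hK _ hdK (isPGroup_zpowers hdk)
  have hxa : (x : G) = a * c := by rw [hc, mul_inv_cancel_left]
  set B := Pk.map (MulAut.conj (n : G)).toMonoidHom
  have hBK : B ≤ K := by
    rintro _ ⟨y, hy, rfl⟩
    exact (inferInstance : K.Normal).conj_mem y (hPkK hy) n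
  have hxB : (x : G) ∈ normalizer (B : Set G) := by
    have h1 := pow_mem hm e0
    refine mem_normalizer_fintype ?_
    rintro _ ⟨y, hy, rfl⟩
    refine ⟨m1 * y * m1⁻¹, (mem_normalizer_iff.1 h1 y).1 hy, ?_⟩
    show (n : G) * (m1 * y * m1⁻¹) * (n : G)⁻¹ = (x : G) * ((n : G) * y * (n : G)⁻¹) * (x : G)⁻¹
    simp only [x, Subgroup.coe_mul, Subgroup.coe_inv]
    group
  have hVn : ∀ y : G, y ∈ normalizer (V : Set G) := fun y => by rw [normalizer_eq_top]; exact mem_top y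
  have hsqx : Sq V (x : G) := by
    intro v hv
    have hcv : c * v = v * c := (mem_centralizer_iff.1 hcC v hv).symm
    have e1 : ⁅(x : G), v⁆ = ⁅a, v⁆ := by
      rw [hxa, commutatorElement_mul_left_eq_conj_mul,
        commutatorElement_eq_one_iff_mul_comm.2 hcv, mul_one, mul_inv_cancel, one_mul]
    have hav : ⁅a, v⁆ ∈ V := mul_mem ((inferInstance : V.Normal).conj_mem v hv a) (inv_mem hv)
    rw [e1, hxa]
    exact (hsq v hv).mul_left (mem_centralizer_iff.1 hcC _ hav).symm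
  have hBr : IsPGroup r B := hPkr.map _
  have hB : ¬ p ∣ Nat.card B := fun hd => by
    obtain ⟨t, ht⟩ := IsPGroup.iff_card.1 hBr
    rw [ht] at hd
    exact hrp ((Nat.prime_dvd_prime_iff_eq hp.out hr).1 (hp.out.dvd_of_dvd_pow hd)).symm
  have hBs : Group.IsSolvable B := by
    haveI := hBr.isNilpotent
    infer_instance
  have hmove : ⁅B, zpowers (x : G)⁆ ≤ centralizer (V : Set G) := by
    by_contra hne
    exact hp3 (quad_moved hp2 hVe (fun y _ => hVn y) (hVn _) hsqx hxB hB hBs (isPGroup_zpowers hxk) hne).1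
  refine hcard.trans ?_
  rw [← show Nat.card B = Nat.card Pk from card_map_of_injective (MulAut.conj (n : G)).injective]
  refine card_dvd_of_le fun b hb => ⟨hBK hb, ?_⟩
  have h1 : ⁅b, (x : G)⁆ ∈ C := hmove (commutator_mem_commutator hb (mem_zpowers _))
  have h2 : a = (x : G) * c⁻¹ := by rw [hxa, mul_inv_cancel_right]
  rw [h2, show ⁅b, (x : G) * c⁻¹⁆ = ⁅b, (x : G)⁆ * ((x : G) * ((b * c⁻¹ * b⁻¹) * c⁻¹⁻¹) * (x : G)⁻¹) by
    simp only [commutatorElement_def]; group]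
  exact mul_mem h1 ((inferInstance : C.Normal).conj_mem _
    (mul_mem ((inferInstance : C.Normal).conj_mem _ (inv_mem hcC) b) (inv_mem (inv_mem hcC))) _)

end Cfsg.Agent.GenA.GN
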