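import Cfsg.Agent.GenA.GN.Ambient
import Cfsg.Agent.Lib.CharP.CentrallyLargeReplacement
import Cfsg.Agent.Lib.CharP.PushingUpZJ
import Cfsg.Agent.S2769
import Cfsg.Agent.S2770
import Cfsg.Agent.S2990

/-!
A pair of characteristic subgroups of a `p`-group, one of which is normal in every pushing-up group,
outside the exceptional class.
-/

set_option autoImplicit false
set_option linter.unusedSectionVars false
set_option linter.style.haveILetI false

namespace Cfsg.Agent.GenA.GN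

open Subgroup Cfsg.Agent.CharP
open scoped commutatorElement Pointwise

universe u

variable {S : Type u} [Group S] [Finite S] {p : ℕ} [hp : Fact p.Prime]

/-- `Z(J(S))`. -/
abbrev zjS (S : Type*) [Group S] : Subgroup S :=
  Cfsg.thompsonSubgroupA S ⊓ centralizer (Cfsg.thompsonSubgroupA S : Set S)

/-- `C_S(Z(J(S)))`. -/
abbrev cz (S : Type*) [Group S] : Subgroup S := centralizer (zjS S : Set S)

/-- In every pushing-up group one of the two subgroups becomes normal. -/
def Good (p : ℕ) (S : Type u) [Group S] (S₁ S₂ : Subgroup S) : Prop :=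
  ∀ (G : Type u) [Group G] [Finite G] (P : Subgroup G) (e : S ≃* ↥P), Cfsg.IsPushingUpSituation p P →
    (S₁.map (emb e)).Normal ∨ (S₂.map (emb e)).Normal

/-- A pair as asked for. -/
structure Pair (p : ℕ) (S : Type u) [Group S] (S₁ S₂ : Subgroup S) : Prop where
  ne1 : S₁ ≠ ⊥
  ne2 : S₂ ≠ ⊥
  char1 : S₁.Characteristic
  char2 : S₂.Characteristic
  le1 : S₁ ≤ center S
  le2 : S₂ ≤ cz S
  char2' : (S₂.subgroupOf (cz S)).Characteristic
  good : Good p S S₁ S₂

/-- The second member contains a centrally large subgroup. -/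
def Large (S : Type u) [Group S] (S₂ : Subgroup S) : Prop :=
  Cfsg.maxCentralProduct ↥S₂ = Cfsg.maxCentralProduct ↥(cz S)

theorem char_of_mapE {X : Subgroup S} (h : ∀ σ : S ≃* S, mapE σ X = X) : X.Characteristic :=
  characteristic_iff_map_eq.2 h

theorem map_zjS (σ : S ≃* S) : mapE σ (zjS S) = zjS S := by
  rw [mapE, zjS, map_inf _ _ _ σ.injective]
  exact congrArg₂ (· ⊓ ·) (map_thompsonA σ) ((map_centralizer' σ _).trans (by rw [map_thompsonA]))

theorem zjS_char : (zjS S).Characteristic := char_of_mapE map_zjS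

theorem cz_char : (cz S).Characteristic :=
  char_of_mapE fun σ => (map_centralizer' σ _).trans (by rw [map_zjS])

theorem top_subgroupOf_char (C : Subgroup S) : (C.subgroupOf C).Characteristic := by
  rw [subgroupOf_self]; infer_instance

theorem subgroupOf_char_of_top {X C : Subgroup S} (hC : C = ⊤) (hX : X.Characteristic) :
    (X.subgroupOf C).Characteristic := by
  subst hC
  refine characteristic_iff_comap_eq.2 fun φ => ?_
  ext x
  have h := characteristic_iff_comap_eq.1 hX ((topEquiv.symm.trans φ).trans topEquiv)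
  have h2 : (x : S) ∈ X.comap ((topEquiv.symm.trans φ).trans topEquiv).toMonoidHom ↔ (x : S) ∈ X := by rw [h]
  simp only [mem_comap, mem_subgroupOf, MulEquiv.coe_toMonoidHom, MulEquiv.trans_apply] at h2 ⊢
  rwa [show topEquiv.symm (x : S) = x from Subtype.ext rfl] at h2

theorem center_ne_bot [Nontrivial S] (hS : IsPGroup p S) : center S ≠ ⊥ := by
  haveI := hS.center_nontrivial
  exact (nontrivial_iff_ne_bot _).1 inferInstance

theorem inf_center_ne_bot' (hS : IsPGroup p S) {N : Subgroup S} [N.Normal] (hN : N ≠ ⊥) :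
    N ⊓ center S ≠ ⊥ := by
  haveI := hS.isNilpotent
  exact Cores.inf_center_ne_bot hN

theorem maxCP_eq_of_le {Q R : Subgroup S} (hQ : Cfsg.IsCentrallyLarge Q) (h : Q ≤ R) :
    Cfsg.maxCentralProduct ↥R = Cfsg.maxCentralProduct S := by
  refine le_antisymm (csSup_le ⟨_, ⊥, rfl⟩ ?_) ?_
  · rintro k ⟨X, rfl⟩
    have h1 := card_mul_center_le (X.map R.subtype)
    rwa [card_map_of_injective R.subtype_injective,
      ← Nat.card_congr (Subgroup.centerCongr (X.equivMapOfInjective R.subtype R.subtype_injective)).toEquiv] at h1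
  · have h1 := card_mul_center_le (Q.subgroupOf R)
    rwa [Nat.card_congr (subgroupOfEquivOfLe h).toEquiv,
      Nat.card_congr (Subgroup.centerCongr (subgroupOfEquivOfLe h)).toEquiv, hQ] at h1

theorem large_top {Q R : Subgroup S} (hC : cz S = ⊤) (hQ : Cfsg.IsCentrallyLarge Q) (h : Q ≤ R) :
    Large S R := by
  rw [Large, maxCP_eq_of_le hQ h, maxCP_eq_of_le hQ (R := cz S) (hC.symm ▸ le_top)]

theorem eq_one_of_frattini {X : Type*} [Group X] [Finite X] (hX : IsPGroup p X) (h : frattini X = ⊥) :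
    (∀ a b : X, a * b = b * a) ∧ ∀ a : X, a ^ p = 1 := by
  haveI := hX.isNilpotent
  refine ⟨fun a b => commutatorElement_eq_one_iff_mul_comm.1 ?_, fun a => ?_⟩
  · exact mem_bot.1 (h ▸ Coprime.commutator_le_frattini X (commutator_mem_commutator (mem_top a) (mem_top b)))
  · exact mem_bot.1 (h ▸ Cfsg.Agent.Solvable.Basics.pow_mem_frattini hX a)

/-- The exponent `n` of a pushing-up situation is positive. -/
theorem exists_parts_of_situation {G : Type*} [Group G] [Finite G] {P : Subgroup G}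
    (hE : Cfsg.IsPushingUpSituation p P) :
    ∃ P0 : Sylow p G, (P0 : Subgroup G) = P ∧ centralizer (Cfsg.pCore p G : Set G) ≤ Cfsg.pCore p G ∧
      (∃! M : Subgroup G, IsCoatom M ∧ (P0 : Subgroup G) ≤ M) ∧
      ∃ (K : Subgroup G) (_ : K.Normal) (F : Type) (_ : Field F) (_ : Fintype F) (n : ℕ), 1 ≤ n ∧
        Fintype.card F = p ^ n ∧ Nonempty (G ⧸ K ≃* Matrix.ProjectiveSpecialLinearGroup (Fin 2) F) := by
  obtain ⟨-, ⟨P0, rfl⟩, hE₁, hE₂, K, hK, F, _, _, n, hF, hE₃⟩ := hE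
  refine ⟨P0, rfl, hE₁, hE₂, K, hK, F, inferInstance, inferInstance, n, ?_, hF, hE₃⟩
  rcases Nat.eq_zero_or_pos n with rfl | h
  · exact absurd hF (by rw [pow_zero]; exact (Fintype.one_lt_card (α := F)).ne')
  · exact h

theorem map_powerClosure' {G : Type*} [Group G] (τ : S →* G) (H : Subgroup S) :
    (Cfsg.powerClosure p 1 H).map τ = Cfsg.powerClosure p 1 (H.map τ) := by
  rw [Cfsg.powerClosure, Cfsg.powerClosure, MonoidHom.map_closure]
  congr 1
  ext y
  constructor
  · rintro ⟨_, ⟨x, hx, rfl⟩, rfl⟩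
    exact ⟨τ x, mem_map_of_mem τ hx, by simp⟩
  · rintro ⟨_, ⟨x, hx, rfl⟩, rfl⟩
    exact ⟨x ^ p ^ 1, ⟨x, hx, rfl⟩, by simp⟩

section emb

variable {G : Type u} [Group G] [Finite G] {P : Subgroup G} (e : S ≃* ↥P)

theorem thompsonAOf_emb : Cfsg.thompsonSubgroupAOf P = (Cfsg.thompsonSubgroupA S).map (emb e) := by
  rw [Cfsg.thompsonSubgroupAOf, ← map_mapE, map_thompsonA]

theorem centerThompsonAOf_emb : Cfsg.centerThompsonAOf P = (zjS S).map (emb e) := by
  rw [Cfsg.centerThompsonAOf, thompsonAOf_emb e, zjS, map_inf _ _ _ (emb_inj e), map_centralizer_emb,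
    ← inf_assoc, inf_eq_left.2 (map_emb_le e _)]

theorem cz_emb : (cz S).map (emb e) = P ⊓ centralizer (Cfsg.centerThompsonAOf P : Set G) := by
  rw [cz, map_centralizer_emb, centerThompsonAOf_emb e]

theorem comm_zj_emb : (⁅zjS S, (⊤ : Subgroup S)⁆).map (emb e) = ⁅Cfsg.centerThompsonAOf P, P⁆ := by
  rw [Subgroup.map_commutator, map_emb_top, centerThompsonAOf_emb e]

include e in
theorem hJ_emb (hC : cz S = ⊤) : P ≤ centralizer (Cfsg.centerThompsonAOf P : Set G) := by
  have h := cz_emb e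
  rw [hC, map_emb_top] at h
  exact h.le.trans inf_le_right

end emb

/-! ### The first three cases -/

theorem pair_zj [Nontrivial S] (hS : IsPGroup p S) (h : ⁅zjS S, (⊤ : Subgroup S)⁆ ≠ ⊥) :
    Pair p S (⁅zjS S, (⊤ : Subgroup S)⁆ ⊓ center S) (cz S) ∧ Large S (cz S) := by
  haveI := zjS_char (S := S)
  haveI := cz_char (S := S)
  refine ⟨⟨inf_center_ne_bot' hS h, fun e => center_ne_bot hS
    (le_bot_iff.1 (e ▸ center_le_centralizer _)), ?_, inferInstance, inf_le_right, le_rfl,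
    top_subgroupOf_char _, ?_⟩, rfl⟩
  · refine char_of_mapE fun σ => ?_
    rw [mapE, map_inf _ _ _ σ.injective, Subgroup.map_commutator]
    have h1 := map_zjS σ
    have h2 : (⊤ : Subgroup S).map σ.toMonoidHom = ⊤ := map_top_of_surjective _ σ.surjective
    have h3 : (center S).map σ.toMonoidHom = center S := characteristic_iff_map_eq.1 inferInstance σ
    rw [h2, h3]; exact congrArg₂ (fun A B => ⁅A, (⊤ : Subgroup S)⁆ ⊓ B) h1 rfl
  · intro G _ _ P e hE
    obtain ⟨P0, hP0, hE₁, hE₂, K, hK, F, _, _, n, hn, hF, hE₃⟩ := exists_parts_of_situation hE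
    subst hP0
    rw [map_inf _ _ _ (emb_inj e), comm_zj_emb e, map_center_emb e, cz_emb e]
    refine S2769.result P0 hE₁ hE₂ K F n hn hF hE₃ fun h0 => h ?_
    rw [← comm_zj_emb e] at h0
    exact (Subgroup.map_eq_bot_iff_of_injective _ (emb_inj e)).1 h0

theorem center_isMulComm {G : Type*} [Group G] (H : Subgroup G) :
    IsMulCommutative ↥(H ⊓ centralizer (H : Set G)) :=
  ⟨⟨fun a b => Subtype.ext (mem_centralizer_iff.1 b.2.2 a a.2.1)⟩⟩

theorem pair_power [Nontrivial S] (hS : IsPGroup p S) (h : ¬ Cfsg.IsElementaryAbelian p (center S)) :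
    Pair p S (Cfsg.powerClosure p 1 (center S)) (cz S) ∧ Large S (cz S) := by
  have hle : Cfsg.powerClosure p 1 (center S) ≤ center S := (closure_le _).2 (by
    rintro _ ⟨x, hx, rfl⟩
    exact pow_mem hx _)
  haveI := cz_char (S := S)
  refine ⟨⟨fun e => h ⟨inferInstance, fun a ha => ?_⟩, fun e => center_ne_bot hS
    (le_bot_iff.1 (e ▸ center_le_centralizer _)), ?_, inferInstance, hle, le_rfl,
    top_subgroupOf_char _, ?_⟩, rfl⟩
  · exact mem_bot.1 (e ▸ subset_closure ⟨a, ha, (pow_one p).symm ▸ rfl⟩)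
  · refine char_of_mapE fun σ => ?_
    rw [mapE, map_powerClosure', show (center S).map σ.toMonoidHom = center S from
      characteristic_iff_map_eq.1 inferInstance σ]
  · intro G _ _ P e hE
    obtain ⟨P0, hP0, hE₁, hE₂, K, hK, F, _, _, n, hn, hF, hE₃⟩ := exists_parts_of_situation hE
    subst hP0
    rw [map_powerClosure', map_center_emb e, cz_emb e]
    refine S2770.result P0 hE₁ hE₂ K F n hn hF hE₃ fun h0 => h ⟨inferInstance, fun a ha => emb_inj e ?_⟩
    rw [map_pow, map_one]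
    exact h0.2 _ (map_center_emb e ▸ mem_map_of_mem _ ha)

theorem pair_derived (hS : IsPGroup p S) (hC : cz S = ⊤) {Q : Subgroup S}
    (hQ : Cfsg.IsMinimalCentrallyLarge Q) (hab : ¬ IsMulCommutative ↥Q) :
    Pair p S (center S ⊓ ⁅Q, Q⁆) (Cfsg.minimalCentrallyLargeJoin S) ∧
      Large S (Cfsg.minimalCentrallyLargeJoin S) := by
  have hQle : Q ≤ Cfsg.minimalCentrallyLargeJoin S := le_sSup hQ
  haveI hch := S2990.char_derived hS hQ
  have hj : (Cfsg.minimalCentrallyLargeJoin S).Characteristic := char_of_mapE map_mclJoin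
  refine ⟨⟨?_, fun e => hab ?_, ?_, hj, inf_le_left, hC.symm ▸ le_top, subgroupOf_char_of_top hC hj, ?_⟩,
    large_top hC hQ.1 hQle⟩
  · rw [inf_comm]
    exact inf_center_ne_bot' hS fun e => hab (commutator_self_eq_bot_iff.1 e)
  · have hQ0 : Q = ⊥ := le_bot_iff.1 (e ▸ hQle)
    subst hQ0; infer_instance
  · refine char_of_mapE fun σ => ?_
    rw [mapE, map_inf _ _ _ σ.injective, show (center S).map σ.toMonoidHom = center S from
      characteristic_iff_map_eq.1 inferInstance σ, characteristic_iff_map_eq.1 hch σ]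
  · intro G _ _ P e hE
    have h := (S2990.result P hE (hJ_emb e hC) (mapE e Q) (minimalCL_mapE e hQ)).2.1
    rw [map_inf _ _ _ (emb_inj e), map_center_emb e, ← map_mapE e ⁅Q, Q⁆,
      ← map_mapE e (Cfsg.minimalCentrallyLargeJoin S), map_mclJoin, mapE, Subgroup.map_commutator]
    exact h

/-! ### The residual class -/

/-- The join of the members with most solutions of `x ^ p = 1`. -/
def optJoin (p : ℕ) (S : Type*) [Group S] (f : ℕ) : Subgroup S :=
  ⨆ A : {A : Subgroup S // Opt p (⊤ : Subgroup S) f A}, A.1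

theorem fam_mapE {f : ℕ} (σ : S ≃* S) {A : Subgroup S} (h : Fam ⊤ f A) : Fam ⊤ f (mapE σ A) := by
  refine ⟨le_top, ?_, by rw [card_mapE, h.2.2]⟩
  rintro _ ⟨a, ha, rfl⟩ _ ⟨b, hb, rfl⟩
  rw [← map_mul, ← map_mul, h.2.1 a ha b hb]

theorem opt_mapE {f : ℕ} (σ : S ≃* S) {A : Subgroup S} (h : Opt p ⊤ f A) : Opt p ⊤ f (mapE σ A) :=
  ⟨fam_mapE σ h.1, fun B hB => (h.2 B hB).trans (om_map σ.toMonoidHom σ.injective A).ge⟩

theorem map_optJoin_le {f : ℕ} (σ : S ≃* S) : mapE σ (optJoin p S f) ≤ optJoin p S f := by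
  rw [optJoin, mapE, Subgroup.map_iSup]
  exact iSup_le fun A => le_iSup (fun A : {A : Subgroup S // Opt p (⊤ : Subgroup S) f A} => A.1)
    ⟨_, opt_mapE σ A.2⟩

theorem map_optJoin {f : ℕ} (σ : S ≃* S) : mapE σ (optJoin p S f) = optJoin p S f :=
  Subgroup.eq_of_le_of_card_ge (map_optJoin_le σ) (card_mapE σ _).ge

/-- The central elements that are central in every group in which the join is not normal. -/
def xSub (p : ℕ) (S : Type u) [Group S] (f : ℕ) : Subgroup S where
  carrier := {z | z ∈ center S ∧ ∀ (G : Type u) [Group G] [Finite G] (P : Subgroup G) (e : S ≃* ↥P),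
    Cfsg.IsPushingUpSituation p P → ¬ ((optJoin p S f).map (emb e)).Normal →
      ∀ g : G, g * emb e z = emb e z * g}
  one_mem' := ⟨one_mem _, fun G _ _ P e _ _ g => by simp⟩
  mul_mem' := fun {a b} ha hb => ⟨mul_mem ha.1 hb.1, fun G _ _ P e h1 h2 g => by
    rw [map_mul]; exact Commute.mul_right (ha.2 G P e h1 h2 g) (hb.2 G P e h1 h2 g)⟩
  inv_mem' := fun {a} ha => ⟨inv_mem ha.1, fun G _ _ P e h1 h2 g => by
    rw [map_inv]; exact Commute.inv_right (ha.2 G P e h1 h2 g)⟩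

theorem xSub_char {f : ℕ} : (xSub p S f).Characteristic := by
  refine characteristic_iff_map_le.2 fun σ => ?_
  rintro _ ⟨z, hz, rfl⟩
  refine ⟨(characteristic_iff_map_eq.1 (inferInstance : (center S).Characteristic) σ).le
    (mem_map_of_mem _ hz.1), fun G _ _ P e h1 h2 g => ?_⟩
  refine hz.2 G P (σ.trans e) h1 (fun hn => h2 ?_) g
  have he : (optJoin p S f).map (emb (σ.trans e)) = (mapE σ (optJoin p S f)).map (emb e) := by
    rw [mapE, Subgroup.map_map]; rfl
  rwa [he, map_optJoin] at hn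

section bad

variable {f : ℕ} (hR : Res p (⊤ : Subgroup S) f) {G : Type u} [Group G] [Finite G] {P : Subgroup G}
  (e : S ≃* ↥P) (hE : Cfsg.IsPushingUpSituation p P) (hbad : ¬ ((optJoin p S f).map (emb e)).Normal)
include hR hE hbad

theorem exists_frame_of_noncentral {z : S} (hz : z ∈ center S) {g0 : G}
    (hg : g0 * emb e z ≠ emb e z * g0) :
    ∃ (F : Type) (_ : Field F) (_ : Fintype F) (φ : G →* Matrix.ProjectiveSpecialLinearGroup (Fin 2) F) (A : Subgroup G)
      (g : G), Frame2 p F P φ f A g := by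
  obtain ⟨F, _, _, φ, hd⟩ := exists_dat hE
  have hbase : Base p F P φ f := ⟨hd, Res.emb e hR, fun hall => hg (hall _
    (map_center_emb e ▸ mem_map_of_mem _ hz) g0)⟩
  obtain ⟨A, hA, hAQ⟩ : ∃ A, Opt p P f A ∧ ¬ A ≤ Cfsg.pCore p G := by
    by_contra hno
    push Not at hno
    refine hbad (PushingUpMCL.normal_of_forall_conj
      (A := fun A : {A : Subgroup S // Opt p (⊤ : Subgroup S) f A} => A.1.map (emb e)) ?_ ?_)
    · rw [optJoin, Subgroup.map_iSup]
    · intro A x
      have hAP := (opt_emb_iff e).2 A.2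
      have h1 := hbase.fam_cj hAP.1 (hno _ hAP) x
      have h2 : Opt p P f (cj x (A.1.map (emb e))) := ⟨h1.1, fun B hB =>
        (hAP.2 B hB).trans (om_map _ (MulAut.conj x).injective _).ge⟩
      have h3 := map_comap_emb e h1.1.1
      show cj x (A.1.map (emb e)) ≤ _
      rw [← h3] at h2 ⊢
      exact Subgroup.map_mono (le_iSup (fun A : {A : Subgroup S // Opt p (⊤ : Subgroup S) f A} => A.1)
        ⟨_, (opt_emb_iff e).1 h2⟩)
  obtain ⟨g, hg'⟩ := hbase.exists_frame2 hA hAQ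
  exact ⟨F, inferInstance, inferInstance, φ, A, g, hg'⟩

end bad

theorem sep_of_xSub {f : ℕ} (hR : Res p (⊤ : Subgroup S) f) (hX : xSub p S f = ⊥) {G : Type u} [Group G]
    [Finite G] {P : Subgroup G} (e : S ≃* ↥P) : Sep p P f := by
  intro z hz hz1
  obtain ⟨z0, rfl⟩ := emb_surj e (cS_le hz)
  have hzc : z0 ∈ center S := by
    have h1 : emb e z0 ∈ P ⊓ centralizer (P : Set G) := hz
    rw [← map_center_emb e] at h1
    exact (mem_map_iff_mem (emb_inj e)).1 h1
  have hnot : z0 ∉ xSub p S f := fun h => hz1 (by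
    have h' : z0 = 1 := mem_bot.1 (hX.le h)
    rw [h', map_one])
  obtain ⟨G2, _, _, P2, e2, hE2, hbad2, g0, hg0⟩ : ∃ (G2 : Type u) (_ : Group G2) (_ : Finite G2)
      (P2 : Subgroup G2) (e2 : S ≃* ↥P2), Cfsg.IsPushingUpSituation p P2 ∧
        ¬ ((optJoin p S f).map (emb e2)).Normal ∧ ∃ g : G2, g * emb e2 z0 ≠ emb e2 z0 * g := by
    by_contra hno
    push Not at hno
    exact hnot ⟨hzc, fun G2 i1 i2 P2 e2 h1 h2 => hno G2 i1 i2 P2 e2 h1 h2⟩
  obtain ⟨F, _, _, φ, A, g, hF⟩ := exists_frame_of_noncentral hR e2 hE2 hbad2 hzc hg0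
  refine ⟨_, _, _, Ker.emb e (Ker.comap e2 hF.ker), fun hm => hg0 ?_⟩
  rw [mem_map_iff_mem (emb_inj e)] at hm
  have hzP : emb e2 z0 ∈ cS P2 P2 := (map_center_emb e2).le (mem_map_of_mem (emb e2) hzc)
  exact (mem_v0.1 (hF.tt_inf_Z hzP hm)).2 g0

theorem s0_inf_le {f : ℕ} (hR : Res p (⊤ : Subgroup S) f) (hX : xSub p S f = ⊥) :
    s0Sub p S ⊓ center S ≤ xSub p S f := by
  refine fun z hz => ⟨hz.2, fun G _ _ P e hE hbad g0 => ?_⟩
  by_contra hg
  obtain ⟨F, _, _, φ, A, g, hF⟩ := exists_frame_of_noncentral hR e hE hbad hz.2 hg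
  have h1 : emb e z ∈ tt p G := by
    have h2 : e z ∈ s0Sub p ↥P := map_s0Sub (p := p) e ▸ mem_map_of_mem e.toMonoidHom hz.1
    exact mem_subgroupOf.1 (hF.s0_le (sep_of_xSub hR hX e) h2)
  have hzP : emb e z ∈ cS P P := (map_center_emb e).le (mem_map_of_mem (emb e) hz.2)
  exact hg ((mem_v0.1 (hF.tt_inf_Z hzP h1)).2 g0)

theorem pair_opt [Nontrivial S] (hS : IsPGroup p S) (hC : cz S = ⊤) {f : ℕ}
    (hR : Res p (⊤ : Subgroup S) f) {Q : Subgroup S} (hQ : Fam ⊤ f Q)
    (hcl : ∀ A, Fam (⊤ : Subgroup S) f A → Cfsg.IsCentrallyLarge A) (hs : s0Sub p S ≠ ⊥) :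
    ∃ S₁ S₂, Pair p S S₁ S₂ ∧ Large S S₂ := by
  haveI : (s0Sub p S).Characteristic := char_of_mapE map_s0Sub
  obtain ⟨A0, hA0, hmax⟩ := Set.exists_max_image {A : Subgroup S | Fam ⊤ f A} (om p) (Set.toFinite _) ⟨Q, hQ⟩
  have hAle : A0 ≤ optJoin p S f := le_iSup (fun A : {A : Subgroup S // Opt p (⊤ : Subgroup S) f A} => A.1)
    ⟨A0, hA0, hmax⟩
  have hj : (optJoin p S f).Characteristic := char_of_mapE map_optJoin
  refine ⟨xSub p S f, optJoin p S f, ⟨fun hX => ?_, fun hJ => ?_, xSub_char, hj, fun z hz => hz.1,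
    hC.symm ▸ le_top, subgroupOf_char_of_top hC hj, ?_⟩, large_top hC (hcl _ hA0) hAle⟩
  · exact inf_center_ne_bot' hS hs (le_bot_iff.1 ((s0_inf_le hR hX).trans hX.le))
  · have h1 : Nat.card A0 = 1 := by
      have hb : A0 = ⊥ := le_bot_iff.1 (hAle.trans hJ.le)
      rw [hb]; exact card_bot
    have h2 := hR.top.2
    rw [← hA0.2.2, h1, mul_one, card_top] at h2
    exact absurd (Nat.eq_one_of_mul_eq_one_right h2) (Finite.one_lt_card (α := S)).ne'
  · intro G _ _ P e hE
    by_cases hb : ((optJoin p S f).map (emb e)).Normal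
    · exact Or.inr hb
    refine Or.inl (PushingUpMCL.normal_of_central ?_)
    rintro _ ⟨z, hz, rfl⟩ g
    exact hz.2 G P e hE hb g

/-- The facts shared by the exceptional classes. -/
structure Rest (p : ℕ) (S : Type u) [Group S] : Prop where
  jtop : Cfsg.thompsonSubgroupA S = ⊤
  czTop : cz S = ⊤
  zj : ⁅zjS S, (⊤ : Subgroup S)⁆ = ⊥
  zel : Cfsg.IsElementaryAbelian p (center S)
  mcl : ∀ Q : Subgroup S, Cfsg.IsMinimalCentrallyLarge Q ↔ Q ∈ Cfsg.maxAbelianSubgroups S
  prods : ∀ A ∈ Cfsg.maxAbelianSubgroups S, ∀ B ∈ Cfsg.maxAbelianSubgroups S, ∀ Q : Subgroup S,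
    Nat.card ↥A ^ 2 = Nat.card S * Nat.card ↥(center S) ∧
    Nat.card ↥Q * Nat.card ↥(center ↥Q) ≤ Nat.card S * Nat.card ↥(center S) ∧
    ((A ⊔ B : Subgroup S) : Set S) = (A : Set S) * (B : Set S) ∧
    A ⊔ B = centralizer ((A ⊓ B : Subgroup S) : Set S)
  s0 : s0Sub p S = ⊥

theorem cases_rest [Nontrivial S] (hS : IsPGroup p S) :
    (∃ S₁ S₂, Pair p S S₁ S₂ ∧ Large S S₂) ∨ Rest p S := by
  by_cases h1 : ⁅zjS S, (⊤ : Subgroup S)⁆ = ⊥
  swap
  · exact Or.inl ⟨_, _, pair_zj hS h1⟩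
  by_cases h2 : Cfsg.IsElementaryAbelian p (center S)
  swap
  · exact Or.inl ⟨_, _, pair_power hS h2⟩
  have hC : cz S = ⊤ := eq_top_iff.2
    (commutator_eq_bot_iff_le_centralizer.1 ((commutator_comm _ _).trans h1))
  obtain ⟨Q0, hQ0⟩ := exists_isCentrallyLarge (S := S)
  obtain ⟨Q, -, hQ⟩ := exists_isMinimalCentrallyLarge hQ0
  by_cases hab : IsMulCommutative ↥Q
  swap
  · exact Or.inl ⟨_, _, pair_derived hS hC hQ hab⟩
  have hiff := (S3007.result S hS Q Q hQ hQ).2.2.2.2 hab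
  have hQm := (hiff Q).1 hQ
  have hJ : Cfsg.thompsonSubgroupA S = ⊤ := by
    rw [eq_top_iff, ← hC]
    exact (CentrallyLargeReplacement.centralizer_centerThompson_le hQ.1).trans (sup_le (le_sSup hQm) le_rfl)
  have hjoin : Cfsg.minimalCentrallyLargeJoin S = ⊤ := by
    rw [← hJ]
    exact congrArg sSup (Set.ext fun R => hiff R)
  have htop := minimalCentrallyLargeJoin_large (S := S)
  rw [hjoin] at htop
  set f := Nat.card S * Nat.card ↥(center S)
  have hc : ((⊤ : Subgroup S) ⊓ centralizer ((⊤ : Subgroup S) : Set S)) = center S := by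
    rw [top_inf_eq, coe_top, centralizer_univ]
  have hf : Cfsg.maxCentralProduct S = f := by
    rw [← htop, card_center_eq, card_top, hc]
  have hsq : ∀ A ∈ Cfsg.maxAbelianSubgroups S, Nat.card ↥A * Nat.card ↥A = f := fun A hA => by
    have hcl := ((hiff A).2 hA).1
    rw [Cfsg.IsCentrallyLarge, card_center_eq, hf, centralizer_eq_of_maxAbelian hA, inf_idem] at hcl
    exact hcl
  have hfam : ∀ A, Fam (⊤ : Subgroup S) f A → A ∈ Cfsg.maxAbelianSubgroups S := fun A hA => by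
    have e1 : Nat.card A = Nat.card Q := Nat.mul_self_inj.1 (hA.2.2.trans (hsq Q hQm).symm)
    exact ⟨⟨⟨fun a b => Subtype.ext (hA.2.1 a a.2 b b.2)⟩⟩, fun B hB => e1 ▸ hQm.2 B hB⟩
  have hfam' : ∀ A ∈ Cfsg.maxAbelianSubgroups S, Fam (⊤ : Subgroup S) f A := fun A hA =>
    ⟨le_top, fun a ha b hb => congrArg Subtype.val (hA.1.is_comm.comm ⟨a, ha⟩ ⟨b, hb⟩), hsq A hA⟩
  have hR : Res p (⊤ : Subgroup S) f := by
    refine ⟨fun R _ => ?_, ⟨le_top, ?_⟩, fun z hz => ?_, fun H hH => ?_⟩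
    · rw [cS_top, ← hf, maxCentralProduct_eq]; exact card_mul_centralizer_le R
    · rw [cS, hc, card_top]
    · refine h2.2 z ?_
      rwa [cS, hc] at hz
    · rw [← hJ]; exact sSup_le fun A hA => hH A (hfam' A hA)
  by_cases hs : s0Sub p S = ⊥
  swap
  · exact Or.inl (pair_opt hS hC hR (hfam' Q hQm) (fun A hA => ((hiff A).2 (hfam A hA)).1) hs)
  refine Or.inr ⟨hJ, hC, h1, h2, hiff, fun A hA B hB R => ⟨(pow_two _).trans (hsq A hA), ?_, ?_, ?_⟩, hs⟩
  · exact (card_mul_center_le R).trans hf.le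
  · exact (isCentrallyLarge_sup ((hiff A).2 hA).1 ((hiff B).2 hB).1).2
  · rw [(isCentralizerLarge_sup_inf (isCentrallyLarge_iff.1 ((hiff A).2 hA).1).1
      (isCentrallyLarge_iff.1 ((hiff B).2 hB).1).1).2.2.2.1, centralizer_eq_of_maxAbelian hA,
      centralizer_eq_of_maxAbelian hB]

/-- An abelian group is a Sylow group of no pushing-up group. -/
theorem no_situation_of_comm (h : IsMulCommutative S) {G : Type u} [Group G] [Finite G] {P : Subgroup G}
    (e : S ≃* ↥P) : ¬ Cfsg.IsPushingUpSituation p P := by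
  intro hE
  obtain ⟨F, _, _, φ, hd⟩ := exists_dat hE
  have hle : P ≤ Cfsg.pCore p G := fun y hy => hd.charP (mem_centralizer_iff.2 fun x hx => by
    obtain ⟨a, rfl⟩ := emb_surj e hy
    obtain ⟨b, rfl⟩ := emb_surj e (hd.core_le hx)
    rw [← map_mul, ← map_mul, h.is_comm.comm])
  have h1 := hd.card_S
  have h2 := card_le_of_le hle
  have h3 : 2 ≤ Nat.card F := Finite.one_lt_card
  have h4 : 0 < Nat.card ↥(Cfsg.pCore p G) := Nat.card_pos
  nlinarith

theorem frattini_facts (hS : IsPGroup p S) (hR : Rest p S) :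
    Cfsg.IsElementaryAbelian p (frattini S) ∧ (p = 2 → frattini S ≤ center S) ∧
      (p = 3 → frattini S ≤ Subgroup.upperCentralSeries S 2) ∧
      (3 < p → frattini S ≤ center S ∧ ∀ x : S, x ^ p = 1) := by
  have hs := hR.s0
  have hcen : ∀ {H : Subgroup S}, ⁅H, (⊤ : Subgroup S)⁆ = ⊥ → H ≤ center S := fun h x hx => by
    rw [Subgroup.mem_center_iff]
    intro y
    exact (commutatorElement_eq_one_iff_mul_comm.1 (mem_bot.1 (h ▸ commutator_mem_commutator hx (mem_top y)))).symm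
  have hel : (frattini ↥(frattini S)).map (frattini S).subtype = ⊥ → Cfsg.IsElementaryAbelian p (frattini S) := by
    intro h
    obtain ⟨h1, h2⟩ := eq_one_of_frattini (hS.to_subgroup (frattini S))
      ((Subgroup.map_eq_bot_iff_of_injective _ (frattini S).subtype_injective).1 h)
    exact ⟨⟨⟨h1⟩⟩, fun a ha => congrArg Subtype.val (h2 ⟨a, ha⟩)⟩
  by_cases h2 : p = 2
  · rw [s0Sub, if_pos h2, sup_eq_bot_iff] at hs
    exact ⟨hel hs.2, fun _ => hcen hs.1, fun h => absurd h (by omega), fun h => absurd h (by omega)⟩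
  by_cases h3 : p = 3
  · rw [s0Sub, if_neg h2, if_pos h3, sup_eq_bot_iff] at hs
    refine ⟨hel hs.2, fun h => absurd h h2, fun _ x hx => ?_, fun h => absurd h (by omega)⟩
    rw [Subgroup.mem_upperCentralSeries_succ_iff]
    intro y
    rw [Subgroup.upperCentralSeries_one]
    exact hcen hs.1 (commutator_mem_commutator hx (mem_top y))
  rw [s0Sub, if_neg h2, if_neg h3, sup_eq_bot_iff] at hs
  have hΦ := hcen hs.1
  refine ⟨⟨⟨⟨fun a b => Subtype.ext (Subgroup.mem_center_iff.1 (hΦ b.2) a)⟩⟩,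
    fun a ha => hR.zel.2 a (hΦ ha)⟩, fun h => absurd h h2, fun h => absurd h h3, fun _ => ⟨hΦ, fun x => ?_⟩⟩
  have h1 : x ^ p ^ 1 ∈ Cfsg.powerClosure p 1 (⊤ : Subgroup S) := subset_closure ⟨x, mem_top x, rfl⟩
  rw [hs.2, pow_one] at h1
  exact mem_bot.1 h1

end Cfsg.Agent.GenA.GN
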