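import Cfsg.Agent.GenA.GN.Basic

/-!
Two opposite exchanged members: the lattice member they generate, its centraliser, and invariance.
-/

set_option autoImplicit false
set_option linter.unusedSectionVars false
set_option linter.style.haveILetI false

namespace Cfsg.Agent.GenA.GN

open Subgroup Cfsg.Agent.Classical.GL2 Cfsg.Agent.CharP Cfsg.Agent.CharP.PushOne
open scoped MatrixGroups commutatorElement Pointwise

variable {G : Type*} [Group G] [Finite G] {p : ℕ} [hp : Fact p.Prime]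

/-- `U = A ∩ O_p(G)`. -/
abbrev uu (p : ℕ) (A : Subgroup G) : Subgroup G := A ⊓ Cfsg.pCore p G

/-- The exchanged member. -/
abbrev bb (p : ℕ) (A : Subgroup G) : Subgroup G := uu p A ⊔ vG p G

/-- The member generated by two exchanged members. -/
abbrev mm (p : ℕ) (A : Subgroup G) (g : G) : Subgroup G := bb p A ⊔ cj g (bb p A)

/-- The common part. -/
abbrev dd (p : ℕ) (A : Subgroup G) (g : G) : Subgroup G := uu p A ⊓ cj g (uu p A)

/-- The subgroup generated by two opposite members. -/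
abbrev ee (A : Subgroup G) (g : G) : Subgroup G := A ⊔ cj g A

/-- The centre of `mm`. -/
abbrev zm (p : ℕ) (A : Subgroup G) (g : G) : Subgroup G := bb p A ⊓ cj g (bb p A)

theorem mem_sup_normal {X N : Subgroup G} [N.Normal] {x : G} (hx : x ∈ X ⊔ N) :
    ∃ a ∈ X, ∃ b ∈ N, x = a * b := by
  rw [mem_sup_of_normal_right] at hx
  obtain ⟨a, ha, b, hb, e⟩ := hx
  exact ⟨a, ha, b, hb, e.symm⟩

/-- A `p'`-element stabilising a series of length two of `p`-elements centralises. -/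
theorem stability {N : Subgroup G} {l y : G} (hl : l ∈ normalizer (N : Set G))
    (hy : y ∈ normalizer (N : Set G)) (hcop : (orderOf l).Coprime p) (hc : ∃ k : ℕ, ⁅l, y⁆ ^ p ^ k = 1)
    (h2 : ⁅l, ⁅l, y⁆⁆ ∈ N) : ⁅l, y⁆ ∈ N := by
  set W := normalizer (N : Set G)
  set q := QuotientGroup.mk' (N.subgroupOf W)
  let lW : W := ⟨l, hl⟩
  let yW : W := ⟨y, hy⟩
  set c : W := ⁅lW, yW⁆ with hcd
  have hcm : Commute (q lW) (q c) := by
    rw [← commutatorElement_eq_one_iff_commute, ← map_commutatorElement]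
    exact (QuotientGroup.eq_one_iff _).2 (mem_subgroupOf.2 h2)
  have key : ∀ n : ℕ, q lW ^ n * q yW * (q lW ^ n)⁻¹ = q c ^ n * q yW := by
    intro n
    induction n with
    | zero => simp
    | succ n ih =>
      calc q lW ^ (n + 1) * q yW * (q lW ^ (n + 1))⁻¹
          = q lW * (q lW ^ n * q yW * (q lW ^ n)⁻¹) * (q lW)⁻¹ := by rw [pow_succ']; group
        _ = (q lW * q c ^ n) * q yW * (q lW)⁻¹ := by rw [ih]; group
        _ = q c ^ n * (q lW * q yW * (q lW)⁻¹) := by rw [(hcm.pow_right n).eq]; group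
        _ = _ := by
          rw [pow_succ, mul_assoc (q c ^ n), hcd, map_commutatorElement, commutatorElement_def]
          group
  have h1 := key (orderOf l)
  have hl1 : q lW ^ orderOf l = 1 := by
    rw [← map_pow, show lW ^ orderOf l = 1 from Subtype.ext (pow_orderOf_eq_one l), map_one]
  rw [hl1, one_mul, inv_one, mul_one, right_eq_mul] at h1
  obtain ⟨k, hk⟩ := hc
  have h3 : q c ^ p ^ k = 1 := by
    rw [← map_pow, show c ^ p ^ k = 1 from Subtype.ext hk, map_one]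
  have h4 : q c = 1 := by
    have := pow_gcd_eq_one.mpr ⟨h1, h3⟩
    rwa [(Nat.Coprime.pow_right k hcop).gcd_eq_one, pow_one] at this
  exact mem_subgroupOf.1 ((QuotientGroup.eq_one_iff c).1 h4)

variable {F : Type} [Field F] [Fintype F] {S : Subgroup G} {φ : G →* PSL(2, F)} {f : ℕ}

/-- A member outside the core together with an opposite conjugate. -/
structure Frame (p : ℕ) (F : Type) [Field F] [Fintype F] (S : Subgroup G) (φ : G →* PSL(2, F)) (f : ℕ)
    (A : Subgroup G) (g : G) : Prop where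
  base : Base p F S φ f
  opt : Opt p S f A
  out : ¬ A ≤ Cfsg.pCore p G
  opp : S ⊔ cj g S = ⊤

namespace Base

variable (h : Base p F S φ f)
include h

theorem fam_cj {X : Subgroup G} (hX : Fam S f X) (hXQ : X ≤ Cfsg.pCore p G) (x : G) :
    Fam S f (cj x X) ∧ cj x X ≤ Cfsg.pCore p G := by
  have h1 : cj x X ≤ Cfsg.pCore p G := (cj_mono hXQ).trans (cj_normal x _).le
  refine ⟨⟨h1.trans h.hQS, ?_, by rw [card_cj, hX.2.2]⟩, h1⟩
  rintro _ ⟨a, ha, rfl⟩ _ ⟨b, hb, rfl⟩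
  rw [← map_mul, ← map_mul, hX.2.1 a ha b hb]

theorem mem_cj_core {X : Subgroup G} (hX : Mem S f X) (h1 : X ≤ Cfsg.pCore p G) (h2 : vG p G ≤ X) (x : G) :
    Mem S f (cj x X) ∧ cS S (cj x X) = cj x (cS S X) := by
  have hle : cS S X ≤ Cfsg.pCore p G := h.V_spec.2 ▸ cS_anti h2
  have hxS : cj x X ≤ S := ((cj_mono h1).trans (cj_normal x _).le).trans h.hQS
  have h3 : cj x (cS S X) ≤ cS S (cj x X) := by
    refine fun y hy => mem_cS.2 ⟨h.hQS (((cj_mono hle).trans (cj_normal x _).le) hy), ?_⟩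
    rintro _ ⟨r, hr, rfl⟩
    obtain ⟨c, hc, rfl⟩ := hy
    rw [← map_mul, ← map_mul, comm_cS hc hr]
  have h4 := h.res.bound _ hxS
  have h5 : Nat.card ↥(cj x X) * Nat.card ↥(cj x (cS S X)) = f := by rw [card_cj, card_cj, hX.2]
  have h6 := (Subgroup.eq_of_le_of_card_ge h3
    (Nat.le_of_mul_le_mul_left (h4.trans h5.ge) Nat.card_pos)).symm
  exact ⟨⟨hxS, by rw [h6, h5]⟩, h6⟩

theorem member_normalises {A N : Subgroup G} (hA : Fam S f A) (hN : Mem S f N)
    (hUN : uu p A ≤ N) (hNQ : N ≤ Cfsg.pCore p G) :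
    A ≤ normalizer (N : Set G) := by
  have hb := h.res.bound
  have e : Cfsg.pCore p G ⊓ (N ⊔ A) = N := by
    rw [hN.modular hb (hA.mem hb).1 hNQ, inf_comm, sup_eq_left]
    exact hUN
  refine fun a ha => mem_normalizer_fintype fun x hx => ?_
  exact e.le ⟨(inferInstance : (Cfsg.pCore p G).Normal).conj_mem _ (hNQ hx) a,
    (N ⊔ A).mul_mem ((N ⊔ A).mul_mem (mem_sup_right ha) (mem_sup_left hx))
      ((N ⊔ A).inv_mem (mem_sup_right ha))⟩

end Base

namespace Frame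

variable {A : Subgroup G} {g : G} (h : Frame p F S φ f A g)
include h

theorem hb : Bound S f := h.base.res.bound

theorem hA : Fam S f A := h.opt.1

theorem exists_out : ∃ a ∈ A, a ∉ Cfsg.pCore p G := Set.not_subset.1 h.out

theorem famB : Fam S f (bb p A) := h.base.exchange h.hA h.out

theorem bb_le : bb p A ≤ Cfsg.pCore p G := sup_le inf_le_right fun _ hv => hv.1

theorem famB' : Fam S f (cj g (bb p A)) := (h.base.fam_cj h.famB h.bb_le g).1

theorem cjB_eq : cj g (bb p A) = cj g (uu p A) ⊔ vG p G := by rw [cj_sup, cj_normal g (vG p G)]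

theorem cjB_le : cj g (bb p A) ≤ Cfsg.pCore p G := (h.base.fam_cj h.famB h.bb_le g).2

theorem V_le_M : vG p G ≤ mm p A g := le_sup_right.trans le_sup_left

theorem M_le : mm p A g ≤ Cfsg.pCore p G := sup_le h.bb_le h.cjB_le

theorem M_mem : Mem S f (mm p A g) := (h.famB.mem h.hb).1.sup h.hb (h.famB'.mem h.hb).1

theorem cS_M : cS S (mm p A g) = zm p A g := by
  rw [cS_sup, (h.famB.mem h.hb).2, (h.famB'.mem h.hb).2]

theorem zm_le_M : zm p A g ≤ mm p A g := inf_le_left.trans le_sup_left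

theorem cS_zm : cS S (zm p A g) = mm p A g := by rw [← h.cS_M, (h.M_mem.cS h.hb).2]

theorem zm_mem : Mem S f (zm p A g) := h.cS_M ▸ (h.M_mem.cS h.hb).1

theorem zm_comm {z m : G} (hz : z ∈ zm p A g) (hm : m ∈ mm p A g) : m * z = z * m :=
  comm_cS (h.cS_M.ge hz) hm

theorem E_norm {N : Subgroup G} (hN : Mem S f N) (hMN : mm p A g ≤ N) (hNQ : N ≤ Cfsg.pCore p G) :
    ee A g ≤ normalizer (N : Set G) := by
  refine sup_le (h.base.member_normalises h.hA hN ((le_sup_left.trans le_sup_left).trans hMN) hNQ) ?_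
  have hVN : vG p G ≤ N := h.V_le_M.trans hMN
  have h1 := (h.base.mem_cj_core hN hNQ hVN g⁻¹).1
  have h2 : uu p A ≤ cj g⁻¹ N := by
    refine le_trans ?_ (cj_mono ((le_sup_right : cj g (bb p A) ≤ mm p A g).trans hMN))
    rw [cj_cj, inv_mul_cancel, cj_one]; exact le_sup_left
  have h3 := h.base.member_normalises h.hA h1 h2 ((cj_mono hNQ).trans (cj_normal _ _).le)
  refine fun y hy => mem_normalizer_fintype fun x hx => ?_
  obtain ⟨a, ha, rfl⟩ := hy
  have h4 : g⁻¹ * x * g ∈ cj g⁻¹ N := mem_cj.2 (by simpa [mul_assoc] using hx)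
  have h5 := mem_cj.1 ((mem_normalizer_iff.1 (h3 ha) _).1 h4)
  show MulAut.conj g a * x * (MulAut.conj g a)⁻¹ ∈ N
  simpa [mul_assoc] using h5

theorem E_sup_Q : ee A g ⊔ Cfsg.pCore p G = ⊤ := by
  rw [eq_top_iff, ← h.opp]
  refine sup_le ?_ ?_
  · rw [← h.base.sup_Q h.hA h.out]
    exact sup_le_sup_right le_sup_left _
  · conv_lhs => rw [← h.base.sup_Q h.hA h.out, cj_sup, cj_normal g (Cfsg.pCore p G)]
    exact sup_le_sup_right le_sup_right _

theorem dd_le_zm : dd p A g ≤ zm p A g :=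
  inf_le_inf le_sup_left (cj_mono le_sup_left)

theorem dd_comm_E {d x : G} (hd : d ∈ dd p A g) (hx : x ∈ ee A g) : x * d = d * x := by
  have : ee A g ≤ centralizer ({d} : Set G) := by
    refine sup_le (fun a ha => mem_centralizer_singleton_iff.2 (h.hA.2.1 a ha d hd.1.1)) ?_
    rintro _ ⟨a, ha, rfl⟩
    obtain ⟨⟨-, -⟩, u, hu, rfl⟩ := hd
    refine mem_centralizer_singleton_iff.2 ?_
    show MulAut.conj g a * MulAut.conj g u = MulAut.conj g u * MulAut.conj g a
    rw [← map_mul, ← map_mul, h.hA.2.1 a ha u hu.1]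
  exact mem_centralizer_singleton_iff.1 (this hx)

theorem dd_comm {d x : G} (hd : d ∈ dd p A g) (hx : x ∈ ee A g ⊔ mm p A g) : x * d = d * x := by
  have : ee A g ⊔ mm p A g ≤ centralizer ({d} : Set G) :=
    sup_le (fun y hy => mem_centralizer_singleton_iff.2 (h.dd_comm_E hd hy))
      fun y hy => mem_centralizer_singleton_iff.2 (h.zm_comm (h.dd_le_zm hd) hy)
  exact mem_centralizer_singleton_iff.1 (this hx)

theorem dd_inf_V : dd p A g ⊓ vG p G = v0 p G := by
  refine le_antisymm (fun x hx => ?_) fun x hx => ?_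
  · rw [h.base.v0_eq h.opp]
    refine ⟨(h.base.U_inf_V h.hA h.out).le ⟨hx.1.1, hx.2⟩, mem_cj.2 ((h.base.U_inf_V h.hA h.out).le
      ⟨mem_cj.1 hx.1.2, ?_⟩)⟩
    simpa using (inferInstance : (vG p G).Normal).conj_mem x hx.2 g⁻¹
  · have hZU : cS S S ≤ uu p A :=
      le_inf (h.base.center_le (h.hA.mem h.hb).1) (h.base.center_le_V.trans fun v hv => hv.1)
    have h0 := (h.base.v0_eq h.opp).le hx
    exact ⟨⟨hZU h0.1, cj_mono hZU h0.2⟩, (mem_v0.1 hx).1⟩

theorem uu_relIndex : (uu p A).relIndex (bb p A) = (Cfsg.pCore p G).relIndex S := by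
  have e1 := PushingUpCL.card_mul_relIndex (le_sup_left : uu p A ≤ bb p A)
  have e2 := PushingUpCL.card_mul_relIndex (inf_le_left : uu p A ≤ A)
  rw [inf_relIndex_left, ← relIndex_sup_right, h.base.sup_Q h.hA h.out] at e2
  have e3 : Nat.card ↥(bb p A) = Nat.card A :=
    Nat.mul_self_inj.1 (h.famB.2.2.trans h.hA.2.2.symm)
  exact Nat.eq_of_mul_eq_mul_left Nat.card_pos (e1.trans (e3.trans e2.symm))

theorem zm_eq : zm p A g = dd p A g ⊔ vG p G := by
  set q := (Cfsg.pCore p G).relIndex S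
  have hle : dd p A g ⊔ vG p G ≤ zm p A g :=
    sup_le h.dd_le_zm (le_inf le_sup_right (h.cjB_eq.symm ▸ le_sup_right))
  refine (Subgroup.eq_of_le_of_card_ge hle ?_).symm
  have h1 : (dd p A g).relIndex (zm p A g) ≤ q * q := by
    refine relIndex_inf_le.trans (Nat.mul_le_mul ?_ ?_)
    · exact (relIndex_le_of_le_right inf_le_left (PushingUpCL.relIndex_pos' _ _).ne').trans h.uu_relIndex.le
    · refine (relIndex_le_of_le_right inf_le_right (PushingUpCL.relIndex_pos' _ _).ne').trans (le_of_eq ?_)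
      have e1 := PushingUpCL.card_mul_relIndex
        (cj_mono (le_sup_left : uu p A ≤ bb p A) : cj g (uu p A) ≤ cj g (bb p A))
      have e2 := PushingUpCL.card_mul_relIndex (le_sup_left : uu p A ≤ bb p A)
      rw [card_cj, card_cj, ← e2, h.uu_relIndex] at e1
      exact Nat.eq_of_mul_eq_mul_left Nat.card_pos e1
  have e3 := PushingUpCL.card_mul_relIndex h.dd_le_zm
  have h2 := CharP.card_mul_le_card_sup_mul_card_inf (dd p A g) (vG p G)
  rw [h.dd_inf_V] at h2
  have hv0 : v0 p G ≤ vG p G := inf_le_left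
  have e4 := PushingUpCL.card_mul_relIndex hv0
  refine Nat.le_of_mul_le_mul_right ?_ (Nat.card_pos (α := ↥(v0 p G)))
  calc Nat.card ↥(zm p A g) * Nat.card ↥(v0 p G)
      ≤ Nat.card ↥(dd p A g) * (q * q) * Nat.card ↥(v0 p G) := by
        rw [← e3]; exact Nat.mul_le_mul_right _ (Nat.mul_le_mul_left _ h1)
    _ ≤ Nat.card ↥(dd p A g) * Nat.card ↥(vG p G) := by
        rw [mul_assoc, ← e4, mul_comm (q * q)]
        exact Nat.mul_le_mul_left _ (Nat.mul_le_mul_left _ h.base.fix_spec.2.2)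
    _ ≤ _ := h2

theorem mem_M_of_comm {x : G} (hx : x ∈ Cfsg.pCore p G) (hc : ∀ d ∈ dd p A g, d * x = x * d) :
    x ∈ mm p A g := by
  rw [← h.cS_zm, h.zm_eq]
  refine mem_cS.2 ⟨h.base.hQS hx, fun r hr => ?_⟩
  have : dd p A g ⊔ vG p G ≤ centralizer ({x} : Set G) :=
    sup_le (fun d hd => mem_centralizer_singleton_iff.2 (hc d hd))
      fun v hv => mem_centralizer_singleton_iff.2 (h.base.commV hv hx).symm
  exact mem_centralizer_singleton_iff.1 (this hr)

theorem EM_inf_Q : (ee A g ⊔ mm p A g) ⊓ Cfsg.pCore p G ≤ mm p A g :=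
  fun _ hx => h.mem_M_of_comm hx.2 fun _ hd => (h.dd_comm hd hx.1).symm

theorem nat_comm' {v b : G} (hv : v ∈ vG p G) (hb : b ∈ cj g S) (hbQ : b ∉ Cfsg.pCore p G)
    (hc : ⁅b, v⁆ ∈ v0 p G) : v ∈ cj g (cS S S) := by
  refine mem_cj.2 (h.base.nat_comm h.opp
    (by simpa using (inferInstance : (vG p G).Normal).conj_mem v hv g⁻¹) (mem_cj.1 hb)
    (fun hm => hbQ ?_) ?_)
  · have := (inferInstance : (Cfsg.pCore p G).Normal).conj_mem _ hm g
    simpa [mul_assoc] using this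
  · have e : ⁅g⁻¹ * b * g, g⁻¹ * v * g⁆ = g⁻¹ * ⁅b, v⁆ * g⁻¹⁻¹ := by
      simp only [commutatorElement_def]; group
    rw [e]; exact v0_normal.conj_mem _ hc _

theorem comm_V' {v b : G} (hv : v ∈ vG p G) (hb : b ∈ cj g S) : ⁅v, b⁆ ∈ cj g (cS S S) := by
  refine mem_cj.2 ?_
  have e : g⁻¹ * ⁅v, b⁆ * g = ⁅g⁻¹ * v * g, g⁻¹ * b * g⁆ := by
    simp only [commutatorElement_def]; group
  rw [e]
  exact h.base.comm_V (by simpa using (inferInstance : (vG p G).Normal).conj_mem v hv g⁻¹) (mem_cj.1 hb)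

theorem sweep {S' Z' N : Subgroup G} (hN : N ≤ vG p G) (hV0N : v0 p G ≤ N)
    (hV0Z : v0 p G ≤ Z') (hidx : (v0 p G).relIndex Z' = (Cfsg.pCore p G).relIndex S)
    {A' : Subgroup G} (hA'S : A' ≤ S')
    (hfixZ : ∀ w ∈ Z', ∀ b ∈ A', b * w = w * b)
    (hA'idx : (Cfsg.pCore p G).relIndex A' = (Cfsg.pCore p G).relIndex S)
    (hnat : ∀ v ∈ vG p G, ∀ b ∈ S', b ∉ Cfsg.pCore p G → ⁅b, v⁆ ∈ v0 p G → v ∈ Z')
    (hcom : ∀ v ∈ vG p G, ∀ b ∈ S', ⁅v, b⁆ ∈ Z')
    (hinv : ∀ a ∈ A', ∀ x ∈ N, a * x * a⁻¹ ∈ N)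
    {z : G} (hz : z ∈ N) (hzZ : z ∉ Z') : Z' ≤ N := by
  classical
  let ψ : A' →* G ⧸ v0 p G := MonoidHom.mk' (fun a => (⁅(a : G), z⁆ : G)) fun a b => by
    rw [← QuotientGroup.mk_mul]
    refine congrArg _ ?_
    have h1 : ⁅(b : G), z⁆ ∈ Z' := by
      rw [← commutatorElement_inv]; exact inv_mem (hcom z (hN hz) _ (hA'S b.2))
    have h2 : ⁅(a : G), z⁆ ∈ Z' := by
      rw [← commutatorElement_inv]; exact inv_mem (hcom z (hN hz) _ (hA'S a.2))
    have e : ⁅((a * b : A') : G), z⁆ = (a : G) * ⁅(b : G), z⁆ * (a : G)⁻¹ * ⁅(a : G), z⁆ := by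
      rw [Subgroup.coe_mul, commutatorElement_def, commutatorElement_def, commutatorElement_def]; group
    have hV : ∀ {w : G}, ⁅w, z⁆ ∈ vG p G := fun {w} => by
      rw [commutatorElement_def]
      exact mul_mem ((inferInstance : (vG p G).Normal).conj_mem _ (hN hz) w) (inv_mem (hN hz))
    rw [e, hfixZ _ h1 _ a.2, mul_inv_cancel_right]
    exact h.base.commV hV hV.1
  have hmem : ∀ a ∈ A', ⁅a, z⁆ ∈ N ⊓ Z' := fun a ha => ⟨by
      rw [commutatorElement_def]; exact N.mul_mem (hinv a ha z hz) (N.inv_mem hz), by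
      rw [← commutatorElement_inv]; exact Z'.inv_mem (hcom z (hN hz) _ (hA'S ha))⟩
  have hker : ψ.ker = (Cfsg.pCore p G).subgroupOf A' := by
    ext a
    rw [MonoidHom.mem_ker, mem_subgroupOf]
    constructor
    · intro ha
      by_contra hQ
      exact hzZ (hnat z (hN hz) _ (hA'S a.2) hQ ((QuotientGroup.eq_one_iff _).1 ha))
    · intro ha
      refine (QuotientGroup.eq_one_iff _).2 ?_
      rw [show ⁅(a : G), z⁆ = 1 from commutatorElement_eq_one_iff_mul_comm.2 (h.base.commV (hN hz) ha)]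
      exact one_mem _
  have h1 : Nat.card ψ.range = (Cfsg.pCore p G).relIndex S := by
    rw [← hA'idx, ← Nat.card_congr (QuotientGroup.quotientKerEquivRange ψ).toEquiv, hker]
    rfl
  have h2 : ψ.range ≤ (N ⊓ Z').map (QuotientGroup.mk' (v0 p G)) := by
    rintro _ ⟨a, rfl⟩
    exact ⟨_, hmem a a.2, rfl⟩
  have h3 : Nat.card ↥((N ⊓ Z').map (QuotientGroup.mk' (v0 p G))) = (v0 p G).relIndex (N ⊓ Z') := by
    rw [← relIndex_bot_left, ← relIndex_comap, MonoidHom.comap_bot, QuotientGroup.ker_mk']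
  have h4 := (h1.symm.trans_le (card_le_of_le h2)).trans h3.le
  have e5 := PushingUpCL.card_mul_relIndex (le_inf hV0N hV0Z)
  have e6 := PushingUpCL.card_mul_relIndex hV0Z
  have h7 : N ⊓ Z' = Z' := Subgroup.eq_of_le_of_card_ge inf_le_right (by
    rw [← e5, ← e6, hidx]; exact Nat.mul_le_mul_left _ h4)
  exact h7 ▸ inf_le_left

theorem irreducible {N : Subgroup G} (hV0 : v0 p G ≤ N) (hN : N ≤ vG p G)
    (hinv : ∀ a ∈ ee A g, ∀ x ∈ N, a * x * a⁻¹ ∈ N) : N = v0 p G ∨ N = vG p G := by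
  by_cases hle : N ≤ v0 p G
  · exact Or.inl (le_antisymm hle hV0)
  refine Or.inr ?_
  obtain ⟨v, hv, hvV0⟩ := Set.not_subset.1 hle
  set Q := Cfsg.pCore p G
  set Z := cS S S
  obtain ⟨hsup, hZi, hZ'i⟩ := h.base.zz_spec h.opp
  have hv0eq := h.base.v0_eq h.opp
  have hAi : Q.relIndex A = Q.relIndex S := by
    rw [← h.base.sup_Q h.hA h.out, relIndex_sup_right]
  have hA'i : Q.relIndex (cj g A) = Q.relIndex S := by
    rw [← hAi]
    conv_lhs => rw [← cj_normal g Q]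
    exact relIndex_map_map_of_injective _ _ (MulAut.conj g).injective
  have sA : ∀ z ∈ N, z ∉ Z → Z ≤ N := fun z hz hzZ =>
    h.sweep hN hV0 (hv0eq.trans_le inf_le_left) hZi h.hA.1 (fun w hw b hb => comm_cS hw (h.hA.1 hb)) hAi
      (fun v hv b hb hbQ hc => h.base.nat_comm h.opp hv hb hbQ hc)
      (fun v hv b hb => h.base.comm_V hv hb) (fun a ha => hinv a (mem_sup_left ha)) hz hzZ
  have sA' : ∀ z ∈ N, z ∉ cj g Z → cj g Z ≤ N := fun z hz hzZ => by
    refine h.sweep hN hV0 (hv0eq.trans_le inf_le_right) hZ'i (cj_mono h.hA.1) ?_ hA'i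
      (fun v hv b hb hbQ hc => h.nat_comm' hv hb hbQ hc) (fun v hv b hb => h.comm_V' hv hb)
      (fun a ha => hinv a (mem_sup_right ha)) hz hzZ
    rintro _ ⟨w, hw, rfl⟩ _ ⟨b, hb, rfl⟩
    rw [← map_mul, ← map_mul, comm_cS hw (h.hA.1 hb)]
  have hnot : ∀ z, z ∈ Z → z ∈ cj g Z → z ∈ v0 p G := fun z h1 h2 => hv0eq.ge ⟨h1, h2⟩
  have hne : ¬ Z ≤ v0 p G ∧ ¬ cj g Z ≤ v0 p G := by
    have hq : (Cfsg.pCore p G).relIndex S ≠ 1 := fun e => h.base.S_not_le (relIndex_eq_one.1 e)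
    exact ⟨fun e => hq (hZi ▸ relIndex_eq_one.2 e), fun e => hq (hZ'i ▸ relIndex_eq_one.2 e)⟩
  refine le_antisymm hN (hsup.symm.trans_le ?_)
  by_cases hvZ : v ∈ Z
  · have h1 := sA' v hv fun h2 => hvV0 (hnot v hvZ h2)
    obtain ⟨w, hw, hw0⟩ := Set.not_subset.1 hne.2
    exact sup_le (sA w (h1 hw) fun h2 => hw0 (hnot w h2 hw)) h1
  · have h1 := sA v hv hvZ
    obtain ⟨w, hw, hw0⟩ := Set.not_subset.1 hne.1
    exact sup_le h1 (sA' w (h1 hw) fun h2 => hw0 (hnot w hw h2))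

end Frame

end Cfsg.Agent.GenA.GN
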