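import Cfsg.Agent.Lib.CharP.PushOne.Sit

/-!
The words `u^k l^m u^k` in `PSL₂` for opposite root elements.
-/

set_option autoImplicit false
set_option linter.unusedSectionVars false

namespace Cfsg.Agent.GenA.GN

open Matrix Cfsg.Agent.Classical.GL2 Cfsg.Agent.CharP.PushOne
open scoped MatrixGroups

variable {F : Type} [Field F]

/-- A root element opposite to the upper group, in the position given by `x0`. -/
def oppEl (x0 t : F) : SL(2, F) := uniSL x0 * lowSL t * uniSL (-x0)

theorem uniSL_pow (x : F) (k : ℕ) : uniSL x ^ k = uniSL ((k : F) * x) := by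
  induction k with
  | zero => simp [uniSL_zero]
  | succ k ih => rw [pow_succ, ih, uniSL_mul]; congr 1; push_cast; ring

theorem lowSL_pow (x : F) (k : ℕ) : lowSL x ^ k = lowSL ((k : F) * x) := by
  induction k with
  | zero => simp [lowSL_zero]
  | succ k ih => rw [pow_succ, ih, lowSL_mul]; congr 1; push_cast; ring

theorem oppEl_pow (x0 t : F) (k : ℕ) : oppEl x0 t ^ k = oppEl x0 ((k : F) * t) := by
  rw [oppEl, ← uniSL_inv, conj_pow, lowSL_pow, uniSL_inv]; rfl

/-- `u l u` with `b c = -1`. -/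
def monEl (b c : F) : SL(2, F) := uniSL b * lowSL c * uniSL b

theorem coe_monEl {b c : F} (h : b * c = -1) :
    (monEl b c : Matrix (Fin 2) (Fin 2) F) = !![0, b; c, 0] := by
  simp only [monEl, Matrix.SpecialLinearGroup.coe_mul, coe_uniSL, coe_lowSL]
  ext i j
  fin_cases i <;> fin_cases j <;> simp [Matrix.mul_apply, Fin.sum_univ_two] <;> grind

theorem monEl_conj {b c : F} (h : b * c = -1) (t : F) :
    (monEl b c)⁻¹ * lowSL t * monEl b c = uniSL (-(t * b * b)) := by
  rw [mul_assoc, inv_mul_eq_iff_eq_mul]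
  refine Matrix.SpecialLinearGroup.ext _ _ fun i j => ?_
  fin_cases i <;> fin_cases j <;>
    simp [Matrix.SpecialLinearGroup.coe_mul, coe_monEl h, coe_uniSL, coe_lowSL, Matrix.mul_apply,
      Fin.sum_univ_two] <;> grind

theorem monEl_neg {b c : F} (h : b * c = -1) :
    (monEl b c)⁻¹ * monEl (-b) (-c) ∈ Subgroup.center SL(2, F) := by
  refine Subgroup.mem_center_iff.2 fun A => ?_
  refine Matrix.SpecialLinearGroup.ext _ _ fun i j => ?_
  have h' : (-b) * (-c) = -1 := by rw [neg_mul_neg, h]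
  fin_cases i <;> fin_cases j <;>
    simp [Matrix.SpecialLinearGroup.coe_mul, Matrix.SpecialLinearGroup.coe_inv, coe_monEl h, coe_monEl h',
      Matrix.adjugate_fin_two_of, Matrix.mul_apply, Fin.sum_univ_two] <;> grind

theorem word_eq (x y x0 : F) (k m : ℕ) :
    uniSL x ^ k * oppEl x0 y ^ m * uniSL x ^ k =
      uniSL x0 * monEl ((k : F) * x) ((m : F) * y) * uniSL (-x0) := by
  rw [oppEl_pow, uniSL_pow, oppEl, monEl]
  set a := (k : F) * x
  have e1 : uniSL a * uniSL x0 = uniSL x0 * uniSL a := by rw [uniSL_mul, uniSL_mul, add_comm]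
  have e2 : uniSL (-x0) * uniSL a = uniSL a * uniSL (-x0) := by rw [uniSL_mul, uniSL_mul, add_comm]
  calc uniSL a * (uniSL x0 * lowSL ((m : F) * y) * uniSL (-x0)) * uniSL a
      = (uniSL a * uniSL x0) * lowSL ((m : F) * y) * (uniSL (-x0) * uniSL a) := by group
    _ = _ := by rw [e1, e2]; group

/-- The word moves the opposite root group into the upper one. -/
theorem word_conj {x y x0 : F} {k m : ℕ} (h : (k : F) * x * ((m : F) * y) = -1) (t : F) :
    (pr (uniSL x) ^ k * pr (oppEl x0 y) ^ m * pr (uniSL x) ^ k)⁻¹ * pr (oppEl x0 t) *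
      (pr (uniSL x) ^ k * pr (oppEl x0 y) ^ m * pr (uniSL x) ^ k) ∈ upperP F := by
  rw [← map_pow, ← map_pow, ← map_mul, ← map_mul, word_eq, ← map_inv, ← map_mul, ← map_mul, oppEl]
  set W := monEl ((k : F) * x) ((m : F) * y) with hW
  refine mem_upperP.2 ⟨x0 + -(t * ((k : F) * x) * ((k : F) * x)) + -x0, congrArg pr ?_⟩
  rw [show (uniSL x0 * W * uniSL (-x0))⁻¹ * (uniSL x0 * lowSL t * uniSL (-x0)) *
      (uniSL x0 * W * uniSL (-x0)) = (uniSL (-x0))⁻¹ * (W⁻¹ * lowSL t * W) * uniSL (-x0) by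
    rw [← uniSL_inv]; group, hW, monEl_conj h, uniSL_inv, neg_neg, uniSL_mul, uniSL_mul]

/-- The two extreme words agree. -/
theorem word_neg {x y x0 : F} {n : ℕ} (hn : (n : F) = -1) (h : x * y = 1) :
    pr (uniSL x) ^ n * pr (oppEl x0 y) * pr (uniSL x) ^ n =
      pr (uniSL x) * pr (oppEl x0 y) ^ n * pr (uniSL x) := by
  have e1 := congrArg pr (word_eq x y x0 n 1)
  have e2 := congrArg pr (word_eq x y x0 1 n)
  rw [pow_one, hn, neg_one_mul, Nat.cast_one, one_mul] at e1 e2
  rw [← map_pow, ← map_pow, ← map_mul, ← map_mul, ← map_mul, ← map_mul, e1, e2]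
  have hc : x * -y = -1 := by rw [mul_neg, h]
  have e3 : pr (monEl x (-y)) = pr (monEl (-x) y) := by
    refine QuotientGroup.eq.2 ?_
    have := monEl_neg hc
    rwa [neg_neg] at this
  rw [map_mul, map_mul, map_mul pr (uniSL x0 * _), map_mul, e3]

end Cfsg.Agent.GenA.GN
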