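import Cfsg.Agent.GenA.GN.Quot
import Cfsg.Agent.GenA.GN.Kill
import Cfsg.Agent.GenA.GN.Cubic
import Cfsg.Agent.GenA.GN.Psl

/-!
For `p ≥ 5` the member acts quadratically on the core modulo the kernel.
-/

set_option autoImplicit false
set_option linter.unusedSectionVars false
set_option linter.style.haveILetI false

namespace Cfsg.Agent.GenA.GN

open Subgroup Cfsg.Agent.Classical.GL2 Cfsg.Agent.CharP Cfsg.Agent.CharP.PushOne
open scoped MatrixGroups commutatorElement Pointwise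

variable {G : Type*} [Group G] [Finite G] {p : ℕ} [hp : Fact p.Prime]

/-- The elements acting trivially on `X` modulo a normal subgroup. -/
def fixMod (N : Subgroup G) [hN : N.Normal] (X : Set G) : Subgroup G where
  carrier := {l | ∀ x ∈ X, ⁅l, x⁆ ∈ N}
  one_mem' := fun x _ => by simp
  mul_mem' := fun {a b} ha hb x hx => by
    rw [commutatorElement_mul_left_eq_conj_mul]
    exact mul_mem (hN.conj_mem _ (hb x hx) a) (ha x hx)
  inv_mem' := fun {a} ha x hx => by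
    rw [show ⁅a⁻¹, x⁆ = a⁻¹ * ⁅a, x⁆⁻¹ * a⁻¹⁻¹ by simp only [commutatorElement_def]; group]
    exact hN.conj_mem _ (inv_mem (ha x hx)) _

theorem mem_fixMod {N : Subgroup G} [N.Normal] {X : Set G} {l : G} :
    l ∈ fixMod N X ↔ ∀ x ∈ X, ⁅l, x⁆ ∈ N := Iff.rfl

instance fixMod_normal (N X : Subgroup G) [hN : N.Normal] [hX : X.Normal] : (fixMod N (X : Set G)).Normal :=
  ⟨fun l hl y x hx => by
    have h1 := hN.conj_mem _ (hl _ (hX.conj_mem x hx y⁻¹)) y
    rwa [show y * ⁅l, y⁻¹ * x * y⁻¹⁻¹⁆ * y⁻¹ = ⁅y * l * y⁻¹, x⁆ by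
      simp only [commutatorElement_def]; group] at h1⟩

theorem natCast_p {F : Type} [Field F] [Fintype F] {n : ℕ} (hF : Fintype.card F = p ^ n) : (p : F) = 0 := by
  have h : ((Fintype.card F : ℕ) : F) = 0 := FiniteField.cast_card_eq_zero F
  rw [hF, Nat.cast_pow] at h
  exact eq_zero_of_pow_eq_zero h

variable {F : Type} [Field F] [Fintype F] {S : Subgroup G} {φ : G →* PSL(2, F)} {f : ℕ}

namespace Frame2

variable {A : Subgroup G} {g : G} (h : Frame2 p F S φ f A g)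
include h

theorem MT_normal : (mm p A g ⊔ tt p G).Normal := by
  rw [← h.core_sup_tt]
  haveI := h.core_normal
  infer_instance

theorem MT_le : mm p A g ⊔ tt p G ≤ Cfsg.pCore p G := sup_le h.M_le inf_le_left

theorem exists_a0 {s : G} (hs : s ∈ S) : ∃ a ∈ A, a ^ p = 1 ∧ φ a = φ s := by
  obtain ⟨a, ha, hap, hq⟩ := (h.base.opt_spec h.opt h.out).2 s hs
  refine ⟨a, ha, hap, ?_⟩
  have h1 := h.base.dat.coreKer hq
  rwa [MonoidHom.mem_ker, map_mul, map_inv, inv_mul_eq_one] at h1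

theorem Q_le_fixM (hsep : Sep p S f) {N : Subgroup G} [N.Normal] (hN : tt p G ≤ N) {X : Set G}
    (hX : X ⊆ Cfsg.pCore p G) : Cfsg.pCore p G ≤ fixMod N X :=
  fun _ hl _ hx => hN (h.comm_QQ hsep hl (hX hx))

/-- The kernel of the quotient commutes with the member modulo the action on `M T / T`. -/
theorem ker_comm (hsep : Sep p S f) (hp5 : 5 ≤ p) {a n : G} (ha : a ∈ A) (hap : a ^ p = 1) (hn : φ n = 1) :
    ⁅n, a⁆ ∈ fixMod (tt p G) ((mm p A g ⊔ tt p G : Subgroup G) : Set G) := by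
  set Q := Cfsg.pCore p G
  set V := vG p G
  set l := ⁅n, a⁆
  haveI := h.MT_normal
  have hp2 : p ≠ 2 := by omega
  have hp3 : p ≠ 3 := by omega
  have hap' : a ^ p ^ 1 = 1 := by rw [pow_one]; exact hap
  have hl1 : l ∈ centralizer (V : Set G) := by
    refine quad_kill V PushingUpCL.omegaCore_elementary hp2 hp3 φ.ker (fun y hy hyp => ?_) hap' (fun v hv => ?_)
      n hn
    · obtain ⟨k, hk⟩ := hyp ⟨y, mem_zpowers y⟩
      intro v hv
      exact (h.base.commV hv (h.base.ker_pelt (congrArg Subtype.val hk) hy)).symm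
    · have h1 : ⁅a, v⁆ ∈ cS S S := by
        rw [← commutatorElement_inv]; exact inv_mem (h.base.comm_V hv (h.hA.1 ha))
      exact comm_cS h1 (h.hA.1 ha)
  set N2 := V ⊔ tt p G
  have hN2Q : N2 ≤ Q := sup_le (fun v hv => hv.1) inf_le_left
  set q := QuotientGroup.mk' N2
  haveI : ((mm p A g ⊔ tt p G).map q).Normal := Normal.map inferInstance q (QuotientGroup.mk'_surjective _)
  haveI : (φ.ker.map q).Normal := Normal.map inferInstance q (QuotientGroup.mk'_surjective _)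
  have hel : Cfsg.IsElementaryAbelian p ((mm p A g ⊔ tt p G).map q) := by
    refine ⟨⟨⟨?_⟩⟩, ?_⟩
    · rintro ⟨_, x, hx, rfl⟩ ⟨_, y, hy, rfl⟩
      refine Subtype.ext ?_
      show q x * q y = q y * q x
      rw [← commutatorElement_eq_one_iff_mul_comm, ← map_commutatorElement]
      exact (QuotientGroup.eq_one_iff _).2 (mem_sup_right (h.comm_QQ hsep (h.MT_le hx) (h.MT_le hy)))
    · rintro _ ⟨x, hx, rfl⟩
      rw [← map_pow]
      exact (QuotientGroup.eq_one_iff _).2 (mem_sup_right (h.pow_Q hsep (h.MT_le hx)))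
  have hl2 : q l ∈ centralizer ((mm p A g ⊔ tt p G).map q : Set (G ⧸ N2)) := by
    rw [map_commutatorElement]
    refine quad_kill _ hel hp2 hp3 (φ.ker.map q) ?_ (i := 1) (by rw [← map_pow, hap', map_one]) ?_ _
      (mem_map_of_mem q hn)
    · rintro _ ⟨y, hy, rfl⟩ hyp
      obtain ⟨j, m, hjm, hc, he⟩ := exists_parts (p := p) y
      refine mem_of_parts hjm ?_ ?_
      · obtain ⟨k, hk⟩ := hyp ⟨q y, mem_zpowers _⟩
        have h2 : (q (y ^ p ^ j)) ^ p ^ k = 1 := by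
          rw [map_pow, ← pow_mul, mul_comm, pow_mul, show (q y) ^ p ^ k = 1 from congrArg Subtype.val hk, one_pow]
        have h3 : (q (y ^ p ^ j)) ^ orderOf (y ^ p ^ j) = 1 := by
          rw [← map_pow, pow_orderOf_eq_one, map_one]
        have := pow_gcd_eq_one.mpr ⟨h3, h2⟩
        rw [(Nat.Coprime.pow_right k hc).gcd_eq_one, pow_one, map_pow] at this
        rw [this]
        exact one_mem _
      · rw [← map_pow]
        have hyQ := h.base.ker_pelt he (by rw [map_pow, MonoidHom.mem_ker.1 hy, one_pow])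
        rintro _ ⟨x, hx, rfl⟩
        rw [← commutatorElement_eq_one_iff_mul_comm, ← map_commutatorElement]
        exact (QuotientGroup.eq_one_iff _).2 (mem_sup_right (h.comm_QQ hsep (h.MT_le hx) hyQ))
    · rintro _ ⟨x, hx, rfl⟩
      rw [← map_commutatorElement, ← commutatorElement_eq_one_iff_commute, ← map_commutatorElement]
      refine (QuotientGroup.eq_one_iff _).2 ?_
      obtain ⟨b, hb, t, ht, e⟩ := mem_sup_normal (h.comm_bb hsep (h.MT_le hx) ha)
      rw [e, show ⁅a, b * t⁆ = ⁅a, b⁆ * (b * (a * t * a⁻¹ * t⁻¹) * b⁻¹) by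
        simp only [commutatorElement_def]; group]
      refine mul_mem (mem_sup_left (h.base.center_le_V ?_)) ((inferInstance : N2.Normal).conj_mem _
        (mem_sup_right (mul_mem ((inferInstance : (tt p G).Normal).conj_mem t ht a) (inv_mem ht))) b)
      rw [← commutatorElement_inv]
      exact inv_mem (h.comm_zm hb ha)
  have hl2' : l ∈ fixMod N2 ((mm p A g ⊔ tt p G : Subgroup G) : Set G) := fun x hx => by
    refine (QuotientGroup.eq_one_iff _).1 (?_ : q ⁅l, x⁆ = 1)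
    rw [map_commutatorElement, commutatorElement_eq_one_iff_mul_comm]
    exact (hl2 _ (mem_map_of_mem q hx)).symm
  have hl3 : φ l = 1 := by rw [map_commutatorElement, hn]; simp
  refine h.base.ker_mem (h.Q_le_fixM hsep le_rfl h.MT_le) hl3 fun y hy hyc => ?_
  have hy1 : y ∈ centralizer (V : Set G) := zpowers_le.2 hl1 hy
  have hy2 : y ∈ fixMod N2 ((mm p A g ⊔ tt p G : Subgroup G) : Set G) := zpowers_le.2 hl2' hy
  intro x hx
  have hyx := hy2 x hx
  refine stability (p := p) (N := tt p G) (by rw [normalizer_eq_top]; exact mem_top _)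
    (by rw [normalizer_eq_top]; exact mem_top _) hyc (h.base.exists_pow (h.base.hQS (hN2Q hyx))) ?_
  obtain ⟨v, hv, t, ht, e⟩ := mem_sup_normal hyx
  rw [e, show ⁅y, v * t⁆ = ⁅y, v⁆ * (v * (y * t * y⁻¹ * t⁻¹) * v⁻¹) by
    simp only [commutatorElement_def]; group,
    commutatorElement_eq_one_iff_mul_comm.2 (hy1 v hv).symm, one_mul]
  exact (inferInstance : (tt p G).Normal).conj_mem _
    (mul_mem ((inferInstance : (tt p G).Normal).conj_mem t ht y) (inv_mem ht)) v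

/-- Fixed points of the member on `M` modulo the kernel. -/
theorem fixA (hsep : Sep p S f) {x : G} (hx : x ∈ mm p A g)
    (hc : ∀ a ∈ A, a ^ p = 1 → ⁅a, x⁆ ∈ tt p G) : x ∈ uu p A := by
  have hall : ∀ a ∈ A, ⁅a, x⁆ ∈ tt p G := by
    intro a ha
    obtain ⟨a0, ha0, hap, hq⟩ := (h.base.opt_spec h.opt h.out).2 a (h.hA.1 ha)
    rw [show a = a0 * (a0⁻¹ * a) by group, commutatorElement_mul_left_eq_conj_mul]
    exact mul_mem ((inferInstance : (tt p G).Normal).conj_mem _ (h.comm_QQ hsep hq (h.M_le hx)) a0)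
      (hc a0 ha0 hap)
  have hxB : x ∈ bb p A := h.mem_bb hx fun a ha => by
    rw [← commutatorElement_inv]
    refine inv_mem (h.dd_le_zm (h.tt_inf_M.le ⟨hall a ha, ?_⟩))
    rw [commutatorElement_def]
    exact (mm p A g).mul_mem ((mem_normalizer_iff.1 (h.norm_M (mem_sup_left ha)) x).1 hx) ((mm p A g).inv_mem hx)
  obtain ⟨a, ha, haQ⟩ := h.exists_out
  obtain ⟨u, hu, t, ht, rfl⟩ := mem_sup_normal (h.quad_of_comm (mem_sup_left hxB) ha haQ (hall a ha))
  refine mul_mem hu (h.tt_inf_M.le ⟨ht, ?_⟩).1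
  have := (mm p A g).mul_mem ((mm p A g).inv_mem (mem_sup_left (mem_sup_left hu))) hx
  rwa [inv_mul_cancel_left] at this

theorem fixA' (hsep : Sep p S f) {x : G} (hx : x ∈ mm p A g)
    (hc : ∀ a ∈ A, a ^ p = 1 → ⁅g * a * g⁻¹, x⁆ ∈ tt p G) : x ∈ cj g (uu p A) := by
  refine mem_cj.2 (h.fixA hsep (mem_cj.1 (h.cj_M.ge hx)) fun a ha hap => ?_)
  have := (inferInstance : (tt p G).Normal).conj_mem _ (hc a ha hap) g⁻¹
  rwa [show g⁻¹ * ⁅g * a * g⁻¹, x⁆ * g⁻¹⁻¹ = ⁅a, g⁻¹ * x * g⁆ by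
    simp only [commutatorElement_def]; group] at this

/-- A `p`-element over the upper group fixes `U` modulo the kernel. -/
theorem pelt_fix (hsep : Sep p S f) (hp5 : 5 ≤ p) {e u : G} {k : ℕ} (he : e ^ p ^ k = 1)
    (heu : φ e ∈ upperP F) (hu : u ∈ uu p A) : ⁅e, u⁆ ∈ tt p G := by
  haveI := h.MT_normal
  set X : Set G := ((mm p A g ⊔ tt p G : Subgroup G) : Set G) with hX
  set fM := fixMod (tt p G) X
  obtain ⟨s, hs, es⟩ : φ e ∈ S.map φ := h.base.dat.upper.symm ▸ heu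
  obtain ⟨a, ha, hap, ea⟩ := h.exists_a0 hs
  set n := a⁻¹ * e with hn
  have hnk : φ n = 1 := by rw [hn, map_mul, map_inv, ea, es, inv_mul_cancel]
  have hna := h.ker_comm hsep hp5 ha hap hnk
  set q := QuotientGroup.mk' fM
  have hcm : Commute (q n) (q a) := by
    rw [← commutatorElement_eq_one_iff_commute, ← map_commutatorElement]
    exact (QuotientGroup.eq_one_iff _).2 hna
  have hqn : (q n) ^ p ^ (k + 1) = 1 := by
    have hce : Commute (q a)⁻¹ (q e) := by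
      rw [show q e = q a * q n by rw [← map_mul, hn, mul_inv_cancel_left]]
      exact ((Commute.refl _).mul_right hcm.symm).inv_left
    have e1 : (q a) ^ p ^ (k + 1) = 1 := by
      rw [pow_succ', pow_mul, ← map_pow q a, hap, map_one, one_pow]
    have e2 : (q e) ^ p ^ (k + 1) = 1 := by
      rw [pow_succ, pow_mul, ← map_pow q e, he, map_one, one_pow]
    rw [show q n = (q a)⁻¹ * q e by rw [← map_inv, ← map_mul], hce.mul_pow, inv_pow, e1, e2, inv_one, mul_one]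
  obtain ⟨j, m, hjm, hc, hm⟩ := exists_parts (p := p) n
  have hnM : n ∈ fM := by
    refine mem_of_parts hjm ((QuotientGroup.eq_one_iff _).1 (?_ : q (n ^ p ^ j) = 1)) ?_
    · have h2 : (q (n ^ p ^ j)) ^ p ^ (k + 1) = 1 := by
        rw [map_pow, ← pow_mul, mul_comm, pow_mul, hqn, one_pow]
      have h3 : (q (n ^ p ^ j)) ^ orderOf (n ^ p ^ j) = 1 := by rw [← map_pow, pow_orderOf_eq_one, map_one]
      have := pow_gcd_eq_one.mpr ⟨h3, h2⟩
      rwa [(Nat.Coprime.pow_right (k + 1) hc).gcd_eq_one, pow_one] at this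
    · exact h.Q_le_fixM hsep le_rfl h.MT_le (h.base.ker_pelt hm (by rw [map_pow, hnk, one_pow]))
  rw [show e = a * n by rw [hn, mul_inv_cancel_left], commutatorElement_mul_left_eq_conj_mul,
    commutatorElement_eq_one_iff_mul_comm.2 (h.hA.2.1 a ha u hu.1), mul_one]
  exact (inferInstance : (tt p G).Normal).conj_mem _
    (hnM u (mem_sup_left (mem_sup_left (mem_sup_left hu)))) a

theorem move (hsep : Sep p S f) (hp5 : 5 ≤ p) {w u : G}
    (hw : ∀ a ∈ A, a ^ p = 1 → φ (w⁻¹ * (g * a * g⁻¹) * w) ∈ upperP F) (hu : u ∈ uu p A) :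
    w * u * w⁻¹ ∈ cj g (uu p A) ⊔ tt p G := by
  haveI := h.MT_normal
  have hwu : w * u * w⁻¹ ∈ mm p A g ⊔ tt p G :=
    (inferInstance : (mm p A g ⊔ tt p G).Normal).conj_mem u (mem_sup_left (mem_sup_left (mem_sup_left hu))) w
  obtain ⟨m, hm, t, ht, e⟩ := mem_sup_normal hwu
  rw [e]
  refine mul_mem (mem_sup_left (h.fixA' hsep hm fun a ha hap => ?_)) (mem_sup_right ht)
  set a' := g * a * g⁻¹ with ha'
  have hep : (w⁻¹ * a' * w) ^ p ^ 1 = 1 := by
    rw [pow_one, show w⁻¹ * a' * w = w⁻¹ * a' * w⁻¹⁻¹ by group, conj_pow, ha', conj_pow, hap]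
    group
  have h1 := (inferInstance : (tt p G).Normal).conj_mem _ (h.pelt_fix hsep hp5 hep (hw a ha hap) hu) w
  rw [show w * ⁅w⁻¹ * a' * w, u⁆ * w⁻¹ = ⁅a', w * u * w⁻¹⁆ by simp only [commutatorElement_def]; group, e,
    show ⁅a', m * t⁆ = ⁅a', m⁆ * (m * (a' * t * a'⁻¹ * t⁻¹) * m⁻¹) by
      simp only [commutatorElement_def]; group] at h1
  exact ((tt p G).mul_mem_cancel_right ((inferInstance : (tt p G).Normal).conj_mem _
    (mul_mem ((inferInstance : (tt p G).Normal).conj_mem t ht a') (inv_mem ht)) m)).1 h1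

/-- The two conclusions for a pair of opposite elements. -/
theorem pair_quad (hsep : Sep p S f) (hp5 : 5 ≤ p) {a a1 : G} (ha : a ∈ A) (ha1 : a1 ∈ A) {x y x0 : F}
    (hxy : x * y = 1) (hφa : φ a = pr (uniSL x)) (hφb : φ (g * a1 * g⁻¹) = pr (oppEl x0 y))
    (hopp : ∀ b ∈ A, ∃ t, φ (g * b * g⁻¹) = pr (oppEl x0 t)) :
    (∀ u ∈ uu p A, ⁅g * a1 * g⁻¹, u⁆ ∈ cj g (uu p A) ⊔ tt p G) ∧
      ∀ z ∈ cS S S, ((a * (g * a1 * g⁻¹) ^ (p - 1) * a)⁻¹ *
          (a ^ (p - 1) * (g * a1 * g⁻¹) * a ^ (p - 1))) * z *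
        ((a * (g * a1 * g⁻¹) ^ (p - 1) * a)⁻¹ * (a ^ (p - 1) * (g * a1 * g⁻¹) * a ^ (p - 1)))⁻¹ * z ∈
          tt p G := by
  classical
  haveI := h.MT_normal
  obtain ⟨n, hn, hF⟩ := h.base.dat.cardF
  have hchar := natCast_p (p := p) hF
  set b := g * a1 * g⁻¹
  set MT := mm p A g ⊔ tt p G
  set q := QuotientGroup.mk' (tt p G)
  set Mb := MT.map q
  have hcomm : IsMulCommutative ↥Mb := ⟨⟨by
    rintro ⟨_, x, hx, rfl⟩ ⟨_, y, hy, rfl⟩
    refine Subtype.ext ?_
    show q x * q y = q y * q x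
    rw [← commutatorElement_eq_one_iff_mul_comm, ← map_commutatorElement]
    exact (QuotientGroup.eq_one_iff _).2 (h.comm_QQ hsep (h.MT_le hx) (h.MT_le hy))⟩⟩
  letI : CommGroup ↥Mb :=
    { (inferInstance : Group ↥Mb) with mul_comm := fun x y => hcomm.is_comm.comm x y }
  haveI iM : Module (ZMod p) (Additive ↥Mb) := AddCommGroup.zmodModule fun w => by
    obtain ⟨x, hx, e⟩ := (Additive.toMul w).2
    refine Additive.toMul.injective (Subtype.ext ?_)
    show (((Additive.toMul w : ↥Mb) ^ p : ↥Mb) : G ⧸ tt p G) = 1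
    rw [Subgroup.coe_pow, ← e, ← map_pow]
    exact (QuotientGroup.eq_one_iff _).2 (h.pow_Q hsep (h.MT_le hx))
  let cw : G → Additive ↥Mb →+ Additive ↥Mb := fun l => MonoidHom.toAdditive (MonoidHom.mk'
    (fun w : ↥Mb => (⟨q l * (w : G ⧸ tt p G) * (q l)⁻¹, by
      obtain ⟨a, ha, e⟩ := w.2
      exact ⟨l * a * l⁻¹, (inferInstance : MT.Normal).conj_mem a ha l, by simp [← e]⟩⟩ : ↥Mb))
    fun a b => Subtype.ext (by simp [mul_assoc]))
  let ρ : G →* Module.End (ZMod p) (Additive ↥Mb) :=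
    { toFun := fun l => (cw l).toZModLinearMap p
      map_one' := LinearMap.ext fun w => Additive.toMul.injective (Subtype.ext (by
        show q 1 * ((Additive.toMul w : ↥Mb) : G ⧸ tt p G) * (q 1)⁻¹ = ((Additive.toMul w : ↥Mb) : G ⧸ tt p G)
        rw [map_one, one_mul, inv_one, mul_one]))
      map_mul' := fun k l => LinearMap.ext fun w => Additive.toMul.injective (Subtype.ext (by
        show q (k * l) * _ * (q (k * l))⁻¹ = q k * (q l * _ * (q l)⁻¹) * (q k)⁻¹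
        rw [map_mul]; group)) }
  let el : ∀ x : G, x ∈ MT → Additive ↥Mb := fun x hx => Additive.ofMul ⟨q x, mem_map_of_mem q hx⟩
  have hsurj : ∀ w : Additive ↥Mb, ∃ x hx, w = el x hx := fun w => by
    obtain ⟨x, hx, e⟩ := (Additive.toMul w).2
    exact ⟨x, hx, Additive.toMul.injective (Subtype.ext e.symm)⟩
  have hρ : ∀ l x hx, ρ l (el x hx) = el (l * x * l⁻¹) ((inferInstance : MT.Normal).conj_mem x hx l) :=
    fun l x hx => Additive.toMul.injective (Subtype.ext (by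
      show q l * q x * (q l)⁻¹ = q (l * x * l⁻¹)
      simp))
  have hadd : ∀ x hx y hy, el x hx + el y hy = el (x * y) (mul_mem hx hy) := fun x hx y hy =>
    Additive.toMul.injective (Subtype.ext (map_mul q x y).symm)
  have hel : ∀ x hx y hy, q x = q y → el x hx = el y hy := fun x hx y hy e =>
    Additive.toMul.injective (Subtype.ext e)
  let sub : Subgroup G → Submodule (ZMod p) (Additive ↥Mb) := fun X =>
    AddSubgroup.toZModSubmodule p (Subgroup.toAddSubgroup ((X.map q).subgroupOf Mb))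
  have hmem : ∀ (X : Subgroup G) x hx, (el x hx ∈ sub X ↔ x ∈ X ⊔ tt p G) := fun X x hx => by
    refine Iff.trans (b := q x ∈ X.map q) Iff.rfl ?_
    rw [← mem_comap, comap_map_eq, QuotientGroup.ker_mk']
  have hmono : ∀ {X Y : Subgroup G}, X ≤ Y → sub X ≤ sub Y := by
    intro X Y hle w hw
    obtain ⟨x, hx, rfl⟩ := hsurj w
    exact (hmem Y x hx).2 (sup_le_sup_right hle _ ((hmem X x hx).1 hw))
  have hUM : uu p A ≤ MT := (le_sup_left.trans le_sup_left).trans le_sup_left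
  have hU'M : cj g (uu p A) ≤ MT :=
    ((cj_mono le_sup_left).trans (le_sup_right : cj g (bb p A) ≤ mm p A g)).trans le_sup_left
  have hZU : cS S S ≤ uu p A := le_inf (h.base.center_le (h.hA.mem h.hb).1)
    (h.base.center_le_V.trans fun v hv => hv.1)
  have hZU' : cj g (cS S S) ≤ cj g (uu p A) := cj_mono hZU
  have hsplit : ∀ v ∈ vG p G, ∃ z ∈ cS S S, ∃ z' ∈ cj g (cS S S), v = z * z' := by
    intro v hv
    have hv' : v ∈ cS S S ⊔ cj g (cS S S) := (h.base.zz_spec h.opp).1.ge hv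
    rw [← SetLike.mem_coe, coe_mul_of_left_le_normalizer_right] at hv'
    swap
    · intro z hz
      exact centralizer_le_normalizer _ fun w hw => h.base.commV (h.base.center_le_V hz) (h.base.cjZ_le_V h.opp hw).1
    obtain ⟨z, hz, z', hz', e⟩ := hv'
    exact ⟨z, hz, z', hz', e.symm⟩
  have hword : ∀ k m : ℕ, ((m * k : ZMod p) = -1) → ∀ u ∈ uu p A,
      a ^ k * b ^ m * a ^ k * u * (a ^ k * b ^ m * a ^ k)⁻¹ ∈ cj g (uu p A) ⊔ tt p G := by
    intro k m hmk u hu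
    refine h.move hsep hp5 (fun c hc _ => ?_) hu
    obtain ⟨t, ht⟩ := hopp c hc
    rw [map_mul, map_mul, map_inv, ht, map_mul, map_mul, map_pow, map_pow, hφa, hφb]
    refine word_conj ?_ t
    have h1 : ((m * k + 1 : ℕ) : ZMod p) = 0 := by push_cast; rw [hmk, neg_add_cancel]
    obtain ⟨c', hc'⟩ := (ZMod.natCast_eq_zero_iff _ p).1 h1
    have h2 := congrArg (fun j : ℕ => (j : F)) hc'
    push_cast at h2
    rw [hchar, zero_mul] at h2
    linear_combination (((k : F) * (m : F))) * hxy + h2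
  obtain ⟨c1, c2⟩ : (∀ u ∈ sub (uu p A), ρ b u - u ∈ sub (cj g (uu p A))) ∧ ∀ z ∈ sub (cS S S),
      (ρ a ^ (p - 1) * ρ b * ρ a ^ (p - 1)) z = -((ρ a * ρ b ^ (p - 1) * ρ a) z) := by
    refine cubic hp5 (ρ a) (ρ b) (sub (uu p A)) (sub (cj g (uu p A))) (sub (cS S S))
      (sub (cj g (cS S S))) ?_ (hmono hZU) (hmono hZU') ?_ ?_ ?_ ?_ ?_ ?_ ?_
    · refine (Submodule.eq_bot_iff _).2 fun w hw => ?_
      obtain ⟨x, hx, rfl⟩ := hsurj w
      obtain ⟨u, hu, t, ht, e1⟩ := mem_sup_normal ((hmem _ x hx).1 hw.1)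
      obtain ⟨u', hu', t', ht', e2⟩ := mem_sup_normal ((hmem _ x hx).1 hw.2)
      have hd : u⁻¹ * u' ∈ dd p A g := h.tt_inf_M.le ⟨by
        rw [show u⁻¹ * u' = t * t'⁻¹ by rw [eq_mul_inv_iff_mul_eq, mul_assoc, ← e2, e1, inv_mul_cancel_left]]
        exact (tt p G).mul_mem ht ((tt p G).inv_mem ht'),
        (mm p A g).mul_mem ((mm p A g).inv_mem (mem_sup_left (mem_sup_left hu))) (mem_sup_right (cj_mono le_sup_left hu'))⟩
      have hu'U : u' ∈ uu p A := by
        have := (uu p A).mul_mem hu hd.1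
        rwa [mul_inv_cancel_left] at this
      refine Additive.toMul.injective (Subtype.ext ?_)
      show q x = 1
      rw [e2]
      exact (QuotientGroup.eq_one_iff _).2 (mul_mem (h.dd_le_tt ⟨hu'U, hu'⟩) ht')
    · intro w hw
      obtain ⟨x, hx, rfl⟩ := hsurj w
      obtain ⟨u, hu, t, ht, e1⟩ := mem_sup_normal ((hmem _ x hx).1 hw)
      have hex : el x hx = el u (hUM hu) := hel x hx u (hUM hu) (by
        rw [e1, map_mul, show q t = 1 from (QuotientGroup.eq_one_iff _).2 ht, mul_one])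
      rw [hex, hρ _ u (hUM hu)]
      refine Additive.toMul.injective (Subtype.ext ?_)
      show q _ = q _
      rw [h.hA.2.1 a ha u hu.1, mul_inv_cancel_right]
    · intro w hw
      obtain ⟨x, hx, rfl⟩ := hsurj w
      obtain ⟨u, hu, t, ht, e1⟩ := mem_sup_normal ((hmem _ x hx).1 hw)
      have hex : el x hx = el u (hU'M hu) := hel x hx u (hU'M hu) (by
        rw [e1, map_mul, show q t = 1 from (QuotientGroup.eq_one_iff _).2 ht, mul_one])
      rw [hex, hρ _ u (hU'M hu)]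
      refine Additive.toMul.injective (Subtype.ext ?_)
      show q _ = q _
      obtain ⟨u0, hu0, rfl⟩ := hu
      congr 1
      show g * a1 * g⁻¹ * (g * u0 * g⁻¹) * (g * a1 * g⁻¹)⁻¹ = g * u0 * g⁻¹
      calc _ = g * (a1 * u0) * a1⁻¹ * g⁻¹ := by group
        _ = _ := by rw [h.hA.2.1 a1 ha1 u0 hu0.1]; group
    · intro w hw
      obtain ⟨x, hx, rfl⟩ := hsurj w
      obtain ⟨u, hu, t, ht, e1⟩ := mem_sup_normal ((hmem _ x hx).1 hw)
      have hex : el x hx = el u (hU'M hu) := hel x hx u (hU'M hu) (by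
        rw [e1, map_mul, show q t = 1 from (QuotientGroup.eq_one_iff _).2 ht, mul_one])
      obtain ⟨u1, hu1, v, hv, e2⟩ := mem_sup_normal
        (h.comm_mem_bb (mem_sup_right (cj_mono le_sup_left hu) : u ∈ mm p A g) ha)
      obtain ⟨z, hz, z', hz', e3⟩ := hsplit v hv
      have hc : u1 * z ∈ uu p A := mul_mem hu1 (hZU hz)
      refine ⟨el (u1 * z) (hUM hc), (hmem _ (u1 * z) (hUM hc)).2 (mem_sup_left hc), el z' (hU'M (hZU' hz')),
        (hmem _ z' (hU'M (hZU' hz'))).2 (mem_sup_left hz'), ?_⟩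
      rw [hex, hρ _ u (hU'M hu), add_comm (el u _), hadd, hadd]
      refine Additive.toMul.injective (Subtype.ext ?_)
      show q _ = q _
      refine congrArg q ?_
      rw [mul_assoc u1, ← e3, ← e2, commutatorElement_def, inv_mul_cancel_right]
      all_goals first | exact hU'M hu | exact hUM hc | exact hU'M (hZU' hz') |
        exact mul_mem (hUM hc) (hU'M (hZU' hz'))
    · intro w hw
      obtain ⟨x, hx, rfl⟩ := hsurj w
      obtain ⟨u, hu, t, ht, e1⟩ := mem_sup_normal ((hmem _ x hx).1 hw)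
      have hex : el x hx = el u (hUM hu) := hel x hx u (hUM hu) (by
        rw [e1, map_mul, show q t = 1 from (QuotientGroup.eq_one_iff _).2 ht, mul_one])
      have hb' : ⁅b, u⁆ ∈ cj g (uu p A) ⊔ vG p G := by
        rw [← h.cjB_eq, mem_cj, show g⁻¹ * ⁅b, u⁆ * g = ⁅a1, g⁻¹ * u * g⁆ by
          simp only [b, commutatorElement_def]; group]
        exact h.comm_mem_bb (mem_cj.1 (h.cj_M.ge (mem_sup_left (mem_sup_left hu)))) ha1
      obtain ⟨u1, hu1, v, hv, e2⟩ := mem_sup_normal hb'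
      obtain ⟨z, hz, z', hz', e3⟩ := hsplit v hv
      have hc : u1 * z' ∈ cj g (uu p A) := mul_mem hu1 (hZU' hz')
      refine ⟨el (u1 * z') (hU'M hc), (hmem _ (u1 * z') (hU'M hc)).2 (mem_sup_left hc), el z (hUM (hZU hz)),
        (hmem _ z (hUM (hZU hz))).2 (mem_sup_left hz), ?_⟩
      rw [hex, hρ _ u (hUM hu), add_comm (el u _), hadd, hadd]
      refine Additive.toMul.injective (Subtype.ext ?_)
      show q _ = q _
      refine congrArg q ?_
      have hzz : z' * z = z * z' := h.base.commV (h.base.center_le_V hz) (h.base.cjZ_le_V h.opp hz').1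
      rw [mul_assoc u1, hzz, ← e3, ← e2, commutatorElement_def, inv_mul_cancel_right]
      all_goals first | exact hUM hu | exact hU'M hc | exact hUM (hZU hz) |
        exact mul_mem (hU'M hc) (hUM (hZU hz))
    · intro w hw
      obtain ⟨x, hx, rfl⟩ := hsurj w
      obtain ⟨r, hr, t, ht, e1⟩ := mem_sup_normal ((hmem _ x hx).1 hw)
      have hrV := h.base.cjZ_le_V h.opp hr
      have hex : el x hx = el r (hU'M (hZU' hr)) := hel x hx r (hU'M (hZU' hr)) (by
        rw [e1, map_mul, show q t = 1 from (QuotientGroup.eq_one_iff _).2 ht, mul_one])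
      have hc : ⁅a, r⁆ ∈ cS S S := by
        rw [← commutatorElement_inv]; exact inv_mem (h.base.comm_V hrV (h.hA.1 ha))
      refine ⟨el ⁅a, r⁆ (hUM (hZU hc)), (hmem _ ⁅a, r⁆ (hUM (hZU hc))).2 (mem_sup_left hc), ?_⟩
      rw [hex, hρ _ r (hU'M (hZU' hr)), add_comm, hadd]
      exact Additive.toMul.injective <| Subtype.ext <| (congrArg q (by rw [commutatorElement_def, inv_mul_cancel_right]))
      exact hUM (hZU hc)
      exact hU'M (hZU' hr)
    · intro w hw
      obtain ⟨x, hx, rfl⟩ := hsurj w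
      obtain ⟨r, hr, t, ht, e1⟩ := mem_sup_normal ((hmem _ x hx).1 hw)
      have hrV := h.base.center_le_V hr
      have hex : el x hx = el r (hUM (hZU hr)) := hel x hx r (hUM (hZU hr)) (by
        rw [e1, map_mul, show q t = 1 from (QuotientGroup.eq_one_iff _).2 ht, mul_one])
      have hc : ⁅b, r⁆ ∈ cj g (cS S S) := by
        rw [← commutatorElement_inv]
        exact inv_mem (h.comm_V' hrV (conj_mem_cj (h.hA.1 ha1)))
      refine ⟨el ⁅b, r⁆ (hU'M (hZU' hc)), (hmem _ ⁅b, r⁆ (hU'M (hZU' hc))).2 (mem_sup_left hc), ?_⟩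
      rw [hex, hρ _ r (hUM (hZU hr)), add_comm, hadd]
      exact Additive.toMul.injective <| Subtype.ext <| (congrArg q (by rw [commutatorElement_def, inv_mul_cancel_right]))
      exact hU'M (hZU' hc)
      exact hUM (hZU hr)
    · intro k m hmk w hw
      obtain ⟨x, hx, rfl⟩ := hsurj w
      obtain ⟨u, hu, t, ht, e1⟩ := mem_sup_normal ((hmem _ x hx).1 hw)
      have hex : el x hx = el u (hUM hu) := hel x hx u (hUM hu) (by
        rw [e1, map_mul, show q t = 1 from (QuotientGroup.eq_one_iff _).2 ht, mul_one])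
      rw [hex, ← map_pow, ← map_pow, ← map_mul, ← map_mul, hρ _ u (hUM hu)]
      exact (hmem _ _ ((inferInstance : MT.Normal).conj_mem u (hUM hu) _)).2 (hword k m hmk u hu)
  refine ⟨fun u hu => ?_, fun z hz => ?_⟩
  · have h1 := c1 (el u (hUM hu)) ((hmem _ u (hUM hu)).2 (mem_sup_left hu))
    have hb : ⁅b, u⁆ ∈ MT := mul_mem ((inferInstance : MT.Normal).conj_mem u (hUM hu) b) (inv_mem (hUM hu))
    rw [hρ b u (hUM hu), show el (b * u * b⁻¹) ((inferInstance : MT.Normal).conj_mem u (hUM hu) b) =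
      el ⁅b, u⁆ hb + el u (hUM hu) by
        rw [hadd ⁅b, u⁆ hb u (hUM hu)]; exact Additive.toMul.injective <| Subtype.ext <| (congrArg q (by rw [commutatorElement_def, inv_mul_cancel_right])),
      add_sub_cancel_right] at h1
    exact (hmem _ ⁅b, u⁆ hb).1 h1
  · have h1 := c2 (el z (hUM (hZU hz))) ((hmem _ z (hUM (hZU hz))).2 (mem_sup_left hz))
    rw [← map_pow, ← map_pow, ← map_mul, ← map_mul, ← map_mul, ← map_mul, hρ _ z (hUM (hZU hz)), hρ _ z (hUM (hZU hz)), eq_neg_iff_add_eq_zero,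
      hadd _ ((inferInstance : MT.Normal).conj_mem z (hUM (hZU hz)) _) _ ((inferInstance : MT.Normal).conj_mem z (hUM (hZU hz)) _)] at h1
    have h2 := congrArg (fun w : Additive ↥Mb => ((Additive.toMul w : ↥Mb) : G ⧸ tt p G)) h1
    set w1 := a * b ^ (p - 1) * a
    set w2 := a ^ (p - 1) * b * a ^ (p - 1)
    have h3 := (inferInstance : (tt p G).Normal).conj_mem _ ((QuotientGroup.eq_one_iff _).1 h2) w1⁻¹
    rwa [show w1⁻¹ * (w2 * z * w2⁻¹ * (w1 * z * w1⁻¹)) * w1⁻¹⁻¹ = w1⁻¹ * w2 * z * (w1⁻¹ * w2)⁻¹ * z by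
      group] at h3

theorem exists_x0 : ∃ c x0 : F, c ≠ 0 ∧
    ∀ a (_ : a ∈ S) (s : F), φ a = pr (uniSL s) → φ (g * a * g⁻¹) = pr (oppEl x0 (-(c * c * s))) := by
  obtain ⟨A0, hA0⟩ := QuotientGroup.mk'_surjective (Subgroup.center SL(2, F)) (φ g)
  have hc := h.base.dat.conj_upper_ne (g := g) h.opp A0 hA0.symm
  refine ⟨_, (A0 : Matrix (Fin 2) (Fin 2) F) 0 0 / (A0 : Matrix (Fin 2) (Fin 2) F) 1 0, hc,
    fun a _ s hs => ?_⟩
  have h1 := conj_uni_lower A0 rfl rfl hc s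
  rw [map_mul, map_mul, map_inv, hs, ← hA0, ← map_inv, ← map_mul, ← map_mul]
  refine congrArg _ ?_
  rw [oppEl, ← h1, ← uniSL_inv]
  group

theorem quad_M (hsep : Sep p S f) (hp5 : 5 ≤ p) {a1 x : G} (ha1 : a1 ∈ A) (hap : a1 ^ p = 1)
    (hx : x ∈ mm p A g) : ⁅a1, x⁆ ∈ uu p A ⊔ tt p G := by
  by_cases haQ : a1 ∈ Cfsg.pCore p G
  · exact mem_sup_right (h.comm_QQ hsep haQ (h.M_le hx))
  obtain ⟨c, x0, hc, hco⟩ := h.exists_x0
  obtain ⟨s, hs⟩ := h.base.dat.exists_x (h.hA.1 ha1)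
  have hs0 : s ≠ 0 := fun e => haQ (h.base.dat.kerS a1 (h.hA.1 ha1) (by rw [hs, e, uniSL_zero, map_one]))
  set y := -(c * c * s)
  have hy : y ≠ 0 := neg_ne_zero.2 (mul_ne_zero (mul_ne_zero hc hc) hs0)
  obtain ⟨s1, hs1, es1⟩ := h.base.dat.exists_u y⁻¹
  obtain ⟨a, ha, -, ea⟩ := h.exists_a0 hs1
  have hopp : ∀ b ∈ A, ∃ t, φ (g * b * g⁻¹) = pr (oppEl x0 t) := fun b hb => by
    obtain ⟨t, ht⟩ := h.base.dat.exists_x (h.hA.1 hb)
    exact ⟨_, hco b (h.hA.1 hb) t ht⟩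
  have key := (h.pair_quad hsep hp5 ha ha1 (x := y⁻¹) (y := y) (inv_mul_cancel₀ hy)
    (ea.trans es1) (hco a1 (h.hA.1 ha1) s hs) hopp).1
  set b := g * a1 * g⁻¹
  set Y := cj g (uu p A) ⊔ tt p G
  have hYQ : Y ≤ Cfsg.pCore p G := sup_le ((cj_mono le_sup_left).trans h.cjB_le) inf_le_left
  have hcomb : ∀ {w : G}, w ∈ Cfsg.pCore p G → ∀ {y : G}, y ∈ Y → w * y * w⁻¹ ∈ Y := fun {w} hw {y} hy => by
    rw [show w * y * w⁻¹ = ⁅w, y⁆ * y by simp only [commutatorElement_def]; group]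
    exact mul_mem (mem_sup_right (h.comm_QQ hsep hw (hYQ hy))) hy
  let H : Subgroup G :=
    { carrier := {w | w ∈ Cfsg.pCore p G ∧ ⁅b, w⁆ ∈ Y}
      one_mem' := ⟨one_mem _, by simp⟩
      mul_mem' := fun {c d} hc hd => ⟨mul_mem hc.1 hd.1, by
        rw [show ⁅b, c * d⁆ = ⁅b, c⁆ * (c * ⁅b, d⁆ * c⁻¹) by simp only [commutatorElement_def]; group]
        exact mul_mem hc.2 (hcomb hc.1 hd.2)⟩
      inv_mem' := fun {c} hc => ⟨inv_mem hc.1, by
        rw [show ⁅b, c⁻¹⁆ = c⁻¹ * ⁅b, c⁆⁻¹ * c⁻¹⁻¹ by simp only [commutatorElement_def]; group]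
        exact hcomb (inv_mem hc.1) (inv_mem hc.2)⟩ }
  have hU : uu p A ≤ H := fun u hu => ⟨hu.2, key u hu⟩
  have hU' : cj g (uu p A) ≤ H := by
    rintro _ ⟨u, hu, rfl⟩
    refine ⟨(inferInstance : (Cfsg.pCore p G).Normal).conj_mem u hu.2 g, ?_⟩
    show ⁅g * a1 * g⁻¹, g * u * g⁻¹⁆ ∈ Y
    rw [show ⁅g * a1 * g⁻¹, g * u * g⁻¹⁆ = g * ⁅a1, u⁆ * g⁻¹ by simp only [commutatorElement_def]; group,
      commutatorElement_eq_one_iff_mul_comm.2 (h.hA.2.1 a1 ha1 u hu.1), mul_one, mul_inv_cancel]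
    exact one_mem _
  have hZU : cS S S ≤ uu p A := le_inf (h.base.center_le (h.hA.mem h.hb).1)
    (h.base.center_le_V.trans fun v hv => hv.1)
  have hV : vG p G ≤ H := (h.base.zz_spec h.opp).1.ge.trans (sup_le (hZU.trans hU) ((cj_mono hZU).trans hU'))
  have hM : mm p A g ≤ H := sup_le (sup_le hU hV) (h.cjB_eq.le.trans (sup_le hU' hV))
  have h1 := (hM (h.cj_M.le (conj_mem_cj (g := g) hx))).2
  rw [show ⁅b, g * x * g⁻¹⁆ = g * ⁅a1, x⁆ * g⁻¹ by simp only [b, commutatorElement_def]; group] at h1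
  have h2 : ⁅a1, x⁆ ∈ cj g⁻¹ Y := mem_cj.2 (by rwa [inv_inv])
  rwa [cj_sup, cj_cj, inv_mul_cancel, cj_one, cj_normal] at h2

/-- Quadratic action for `p ≥ 5`. -/
theorem quad_big (hsep : Sep p S f) (hp5 : 5 ≤ p) {x a : G} (hx : x ∈ Cfsg.pCore p G) (ha : a ∈ A)
    (hap : a ^ p = 1) : ⁅a, x⁆ ∈ uu p A ⊔ tt p G := by
  by_cases haQ : a ∈ Cfsg.pCore p G
  · exact mem_sup_right (h.comm_QQ hsep haQ hx)
  haveI := h.MT_normal
  obtain ⟨n, hn, hF⟩ := h.base.dat.cardF
  obtain ⟨c0, x0, hc0, hco⟩ := h.exists_x0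
  obtain ⟨x1, hx1⟩ := h.base.dat.exists_x (h.hA.1 ha)
  have hx10 : x1 ≠ 0 := fun e => haQ (h.base.dat.kerS a (h.hA.1 ha) (by rw [hx1, e, uniSL_zero, map_one]))
  obtain ⟨s1, hs1, es1⟩ := h.base.dat.exists_u (-(x1⁻¹ / (c0 * c0)))
  obtain ⟨a1, ha1, -, ea1⟩ := h.exists_a0 hs1
  have hφb : φ (g * a1 * g⁻¹) = pr (oppEl x0 x1⁻¹) := by
    rw [hco a1 (h.hA.1 ha1) _ (ea1.trans es1)]
    congr 2
    field_simp
  have hopp : ∀ b ∈ A, ∃ t, φ (g * b * g⁻¹) = pr (oppEl x0 t) := fun b hb => by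
    obtain ⟨t, ht⟩ := h.base.dat.exists_x (h.hA.1 hb)
    exact ⟨_, hco b (h.hA.1 hb) t ht⟩
  have key := (h.pair_quad hsep hp5 ha ha1 (mul_inv_cancel₀ hx10) hx1 hφb hopp).2
  set b := g * a1 * g⁻¹ with hb
  set t0 := (a * b ^ (p - 1) * a)⁻¹ * (a ^ (p - 1) * b * a ^ (p - 1)) with ht0
  have hp1 : ((p - 1 : ℕ) : F) = -1 := by
    rw [Nat.cast_sub hp.out.pos, natCast_p (p := p) hF, Nat.cast_one, zero_sub]
  have hφt : φ t0 = 1 := by
    rw [ht0, map_mul, map_inv, map_mul, map_mul, map_mul, map_mul, map_pow, map_pow, hx1, hφb,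
      word_neg hp1 (mul_inv_cancel₀ hx10), inv_mul_cancel]
  set Q := Cfsg.pCore p G
  set T := tt p G
  set fW := fixMod (mm p A g ⊔ T) (Q : Set G)
  have haW : ∀ e ∈ S, e ∈ fW := fun e he y hy =>
    sup_le_sup_right h.rr_le _ (h.act_W hsep hy he)
  have hbW : b ∈ fW := (inferInstance : fW.Normal).conj_mem _ (haW a1 (h.hA.1 ha1)) g
  have haW' := haW a (h.hA.1 ha)
  have ht0W : t0 ∈ fW := mul_mem (inv_mem (mul_mem (mul_mem haW' (pow_mem hbW _)) haW'))
    (mul_mem (mul_mem (pow_mem haW' _) hbW) (pow_mem haW' _))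
  set l := ⁅t0, a⁆ with hl
  have hlM := h.ker_comm hsep hp5 ha hap hφt
  have hlk : φ l = 1 := by rw [map_commutatorElement, hφt]; simp
  have hlQ : l ∈ fixMod T (Q : Set G) := by
    obtain ⟨j, m, hjm, hcj', hm⟩ := exists_parts (p := p) l
    refine mem_of_parts hjm ?_ (h.Q_le_fixM hsep le_rfl subset_rfl
      (h.base.ker_pelt hm (by rw [map_pow, hlk, one_pow])))
    intro y hy
    have hyM : ⁅l ^ p ^ j, y⁆ ∈ mm p A g := by
      rw [← commutatorElement_inv]
      exact inv_mem (h.comm_QL hy (Transfer.NormalPComplement.mem_pResidual_of_coprime hcj'))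
    exact stability (p := p) (N := T) (by rw [normalizer_eq_top]; exact mem_top _)
      (by rw [normalizer_eq_top]; exact mem_top _) hcj' (h.base.exists_pow (h.M_mem.1 hyM))
      (pow_mem hlM (p ^ j) _ (mem_sup_left hyM))
  set q := QuotientGroup.mk' T
  have hQQ : ∀ {y z : G}, y ∈ Q → z ∈ Q → q y * q z = q z * q y := fun hy hz => by
    rw [← commutatorElement_eq_one_iff_mul_comm, ← map_commutatorElement]
    exact (QuotientGroup.eq_one_iff _).2 (h.comm_QQ hsep hy hz)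
  have hcQ : ∀ {y : G} (e : G), y ∈ Q → ⁅e, y⁆ ∈ Q := fun e hy => by
    rw [commutatorElement_def]
    exact mul_mem ((inferInstance : Q.Normal).conj_mem _ hy e) (inv_mem hy)
  have heq : ∀ y ∈ Q, q (t0 * ⁅a, y⁆ * t0⁻¹) = q ⁅a, t0 * y * t0⁻¹⁆ := by
    intro y hy
    have hy' : t0 * y * t0⁻¹ ∈ Q := (inferInstance : Q.Normal).conj_mem y hy t0
    have h1 : q ⁅l, ⁅a, t0 * y * t0⁻¹⁆⁆ = 1 := (QuotientGroup.eq_one_iff _).2 (hlQ _ (hcQ a hy'))
    have h2 : q ⁅l, t0 * y * t0⁻¹⁆ = 1 := (QuotientGroup.eq_one_iff _).2 (hlQ _ hy')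
    rw [show t0 * ⁅a, y⁆ * t0⁻¹ = ⁅l, ⁅a, t0 * y * t0⁻¹⁆⁆ * ⁅a, t0 * y * t0⁻¹⁆ * ⁅l, t0 * y * t0⁻¹⁆ by
      simp only [hl, commutatorElement_def]; group, map_mul, map_mul, h1, h2, one_mul, mul_one]
  have hlin : ∀ {y z : G}, y ∈ Q → z ∈ Q → q ⁅a, y * z⁆ = q ⁅a, y⁆ * q ⁅a, z⁆ := fun {y z} hy hz => by
    rw [show ⁅a, y * z⁆ = ⁅a, y⁆ * (y * ⁅a, z⁆ * y⁻¹) by simp only [commutatorElement_def]; group, map_mul,
      map_mul, map_mul, map_inv, hQQ hy (hcQ a hz), mul_inv_cancel_right]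
  set μ := ⁅t0, x⁆
  have hμ : μ ∈ mm p A g ⊔ T := ht0W x hx
  have hμ2 : q ⁅a, ⁅a, μ⁆⁆ = 1 := by
    obtain ⟨m, hm, t, ht, e⟩ := mem_sup_normal hμ
    have e1 : q ⁅a, μ⁆ = q ⁅a, m⁆ := by
      rw [e, map_commutatorElement, map_mul, show q t = 1 from (QuotientGroup.eq_one_iff _).2 ht, mul_one,
        ← map_commutatorElement]
    obtain ⟨u, hu, t', ht', e2⟩ := mem_sup_normal (h.quad_M hsep hp5 ha hap hm)
    rw [map_commutatorElement, e1, e2, map_mul, show q t' = 1 from (QuotientGroup.eq_one_iff _).2 ht', mul_one,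
      ← map_commutatorElement, commutatorElement_eq_one_iff_mul_comm.2 (h.hA.2.1 a ha u hu.1), map_one]
  have hc := h.comm_bb hsep hx ha
  refine h.quad_of_comm hc ha haQ ((QuotientGroup.eq_one_iff _).1 (?_ : q ⁅a, ⁅a, x⁆⁆ = 1))
  set ζ := ⁅a, ⁅a, x⁆⁆
  have hinv : q (t0 * ζ * t0⁻¹) = q ζ := by
    have hμQ : μ ∈ Q := h.MT_le hμ
    rw [heq _ (hcQ a hx), map_commutatorElement, heq x hx,
      show t0 * x * t0⁻¹ = μ * x by simp only [μ, commutatorElement_def]; group, hlin hμQ hx, ← map_mul,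
      ← map_commutatorElement, hlin (hcQ a hμQ) (hcQ a hx), hμ2, one_mul]
  obtain ⟨b0, hb0, t, ht, e⟩ := mem_sup_normal hc
  set z := ⁅a, b0⁆
  have hz : z ∈ cS S S := by
    rw [show z = ⁅b0, a⁆⁻¹ from (commutatorElement_inv _ _).symm]
    exact inv_mem (h.comm_zm hb0 ha)
  have eζ : q ζ = q z := by
    rw [map_commutatorElement, e, map_mul, show q t = 1 from (QuotientGroup.eq_one_iff _).2 ht, mul_one,
      ← map_commutatorElement]
  have h1 : q (t0 * z * t0⁻¹ * z) = 1 := (QuotientGroup.eq_one_iff _).2 (key z hz)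
  rw [map_mul, map_mul, map_mul, map_inv, ← eζ, ← map_inv, ← map_mul, ← map_mul, hinv, eζ, ← map_mul,
    ← pow_two] at h1
  rw [eζ]
  refine (QuotientGroup.eq_one_iff _).2 (mem_of_parts ((Nat.coprime_primes Nat.prime_two hp.out).2 (by omega))
    ((QuotientGroup.eq_one_iff _).1 h1) ?_)
  rw [h.base.res.center z hz]
  exact one_mem _

end Frame2

end Cfsg.Agent.GenA.GN
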