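import Cfsg.Agent.GenA.GN.Star
import Cfsg.Agent.Lib.Classical.Linear

/-!
The action of a member on the core modulo the kernel: commutators lie in the exchanged member, and the
action is quadratic for `p = 2`.
-/

set_option autoImplicit false
set_option linter.unusedSectionVars false
set_option linter.style.haveILetI false

namespace Cfsg.Agent.GenA.GN

open Subgroup Cfsg.Agent.Classical.GL2 Cfsg.Agent.CharP Cfsg.Agent.CharP.PushOne
open scoped MatrixGroups commutatorElement Pointwise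

variable {G : Type*} [Group G] [Finite G] {p : ℕ} [hp : Fact p.Prime]

/-- `[O_p(G), O^p(G)] V`. -/
abbrev rr (p : ℕ) (G : Type*) [Group G] : Subgroup G :=
  ⁅Cfsg.pCore p G, Cfsg.pResidual p G⁆ ⊔ vG p G

/-- The largest power of `p` in an order, and the two parts of an element. -/
theorem exists_parts (x : G) : ∃ k m : ℕ, (p ^ k).Coprime m ∧ (orderOf (x ^ p ^ k)).Coprime p ∧
    (x ^ m) ^ p ^ k = 1 := by
  obtain ⟨k, m, hm, e⟩ := Nat.exists_eq_pow_mul_and_not_dvd (orderOf_pos x).ne' p hp.out.one_lt.ne'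
  refine ⟨k, m, Nat.Coprime.pow_left k (hp.out.coprime_iff_not_dvd.2 hm), ?_, ?_⟩
  · rw [orderOf_pow' x (pow_ne_zero _ hp.out.pos.ne'), e, Nat.gcd_eq_right (dvd_mul_right _ _),
      Nat.mul_div_cancel_left _ (pow_pos hp.out.pos _)]
    exact (hp.out.coprime_iff_not_dvd.2 hm).symm
  · rw [← pow_mul, mul_comm, ← e, pow_orderOf_eq_one]

theorem mem_of_parts {H : Subgroup G} {x : G} {a b : ℕ} (hab : a.Coprime b) (ha : x ^ a ∈ H)
    (hb : x ^ b ∈ H) : x ∈ H := by
  have h1 : ((Nat.gcd a b : ℕ) : ℤ) = a * Nat.gcdA a b + b * Nat.gcdB a b := Nat.gcd_eq_gcd_ab a b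
  rw [hab.gcd_eq_one, Nat.cast_one] at h1
  rw [← zpow_one x, h1, zpow_add, zpow_mul, zpow_mul, zpow_natCast, zpow_natCast]
  exact mul_mem (zpow_mem ha _) (zpow_mem hb _)

variable {F : Type} [Field F] [Fintype F] {S : Subgroup G} {φ : G →* PSL(2, F)} {f : ℕ}

namespace Base

variable (h : Base p F S φ f)
include h

/-- A `p`-element is conjugate into `S`. -/
theorem exists_conj_mem {e : G} {k : ℕ} (he : e ^ p ^ k = 1) : ∃ y : G, y⁻¹ * e * y ∈ S := by
  obtain ⟨P, hP⟩ := id h.dat.situation.2.1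
  have hz : IsPGroup p ↥(zpowers e) := by
    rw [IsPGroup.iff_card]
    obtain ⟨i, -, hi⟩ := (Nat.dvd_prime_pow hp.out).1 (orderOf_dvd_of_pow_eq_one he)
    exact ⟨i, by rw [Nat.card_zpowers, hi]⟩
  obtain ⟨P', hP'⟩ := hz.exists_le_sylow
  obtain ⟨y, hy⟩ := MulAction.exists_smul_eq G P P'
  refine ⟨y, ?_⟩
  have h1 : e ∈ (P' : Subgroup G) := hP' (mem_zpowers e)
  rw [← hy, Sylow.coe_subgroup_smul, hP] at h1
  obtain ⟨s, hs, rfl⟩ := h1
  show y⁻¹ * (y * s * y⁻¹) * y ∈ S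
  simpa [mul_assoc] using hs

/-- `p`-elements of the kernel of the quotient lie in the core. -/
theorem ker_pelt {e : G} {k : ℕ} (he : e ^ p ^ k = 1) (hk : φ e = 1) : e ∈ Cfsg.pCore p G := by
  obtain ⟨y, hy⟩ := h.exists_conj_mem he
  have h1 := h.dat.kerS _ hy (by rw [map_mul, map_mul, hk, mul_one, map_inv, inv_mul_cancel])
  simpa [mul_assoc] using (inferInstance : (Cfsg.pCore p G).Normal).conj_mem _ h1 y

theorem ker_mem {H : Subgroup G} (hQ : Cfsg.pCore p G ≤ H) {x : G} (hx : φ x = 1)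
    (hH : ∀ y : G, y ∈ zpowers x → (orderOf y).Coprime p → y ∈ H) : x ∈ H := by
  obtain ⟨k, m, hkm, hc, he⟩ := exists_parts (p := p) x
  exact mem_of_parts hkm (hH _ (pow_mem (mem_zpowers x) _) hc)
    (hQ (h.ker_pelt he (by rw [map_pow, hx, one_pow])))

end Base

namespace Frame2

variable {A : Subgroup G} {g : G} (h : Frame2 p F S φ f A g)
include h

theorem rr_le : rr p G ≤ mm p A g :=
  sup_le (commutator_le.2 fun _ hx _ hl => h.comm_QL hx hl) h.V_le_M

theorem rr_comm_tt : rr p G ≤ centralizer (tt p G : Set G) := by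
  refine sup_le ?_ fun v hv t ht => h.base.commV hv (mem_tt.1 ht).1
  refine commutator_eq_bot_iff_le_centralizer.1 (commutator_commutator_eq_bot_of_rotate ?_ ?_)
  · rw [(commutator_eq_bot_iff_le_centralizer (H₁ := Cfsg.pResidual p G) (H₂ := tt p G)).2
      (fun l hl t ht => ((mem_tt.1 ht).2 l hl).symm), commutator_bot_left]
  · refine commutator_eq_bot_iff_le_centralizer.2 ?_
    refine (commutator_le_left (tt p G) (Cfsg.pCore p G)).trans ?_
    exact inf_le_right

theorem W_le_Q : rr p G ⊔ tt p G ≤ Cfsg.pCore p G := sup_le (h.rr_le.trans h.M_le) inf_le_left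

theorem comm_L_rr {x l : G} (hx : x ∈ Cfsg.pCore p G) (hl : l ∈ Cfsg.pResidual p G) : ⁅l, x⁆ ∈ rr p G := by
  rw [← commutatorElement_inv]
  exact inv_mem (mem_sup_left (commutator_mem_commutator hx hl))

/-- When the residual has small index the core is `[Q, L] V T`. -/
theorem Q_le_W (hsep : Sep p S f) (hS : ¬ S ≤ Cfsg.pResidual p G ⊔ Cfsg.pCore p G) :
    Cfsg.pCore p G ≤ rr p G ⊔ tt p G := by
  classical
  set Q := Cfsg.pCore p G
  set L := Cfsg.pResidual p G
  obtain ⟨n, hn, hF⟩ := h.base.dat.cardF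
  have hsmall : Fintype.card F < 4 := by
    by_contra hge
    push Not at hge
    apply hS
    haveI hs : IsSimpleGroup PSL(2, F) := Classical.Linear.isSimpleGroup_PSL_fin le_rfl fun _ => hge
    haveI : (L.map φ).Normal := Normal.map inferInstance φ h.base.dat.surj
    have htop : L.map φ = ⊤ := (‹(L.map φ).Normal›).eq_bot_or_eq_top.resolve_left fun e => by
      have h1 : φ g = 1 := mem_bot.1 (e ▸ mem_map_of_mem φ h.g_L)
      exact h.base.dat.conj_upper_ne (g := g) h.opp 1 (by rw [h1, map_one]) (by simp)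
    intro s hs
    obtain ⟨l, hl, e⟩ := htop.ge (mem_top (φ s))
    rw [show s = l * (l⁻¹ * s) by group]
    refine mul_mem (mem_sup_left hl) (h.base.ker_mem le_sup_right ?_ fun y _ hy =>
      mem_sup_left (Transfer.NormalPComplement.mem_pResidual_of_coprime hy))
    rw [map_mul, map_inv, e, inv_mul_cancel]
  have hq : Fintype.card F = p := by
    rw [hF] at hsmall ⊢
    have h1 : p ^ n < 2 ^ 2 := hsmall
    rcases Nat.lt_or_ge n 2 with h2 | h2
    · rw [show n = 1 by omega, pow_one]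
    · exact absurd h1 (not_lt.2 ((Nat.pow_le_pow_left hp.out.two_le 2).trans
        (Nat.pow_le_pow_right hp.out.pos h2)))
  have hSQ : S ⊓ (L ⊔ Q) ≤ Q := by
    have hle : Q ≤ S ⊓ (L ⊔ Q) := le_inf h.base.hQS le_sup_right
    have e1 := PushingUpCL.card_mul_relIndex hle
    have e2 := PushingUpCL.card_mul_relIndex (inf_le_left : S ⊓ (L ⊔ Q) ≤ S)
    rw [h.base.dat.card_S, Nat.card_eq_fintype_card (α := F), hq, ← e1, mul_assoc, mul_comm p] at e2
    have h3 := Nat.eq_of_mul_eq_mul_left Nat.card_pos e2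
    rcases hp.out.eq_one_or_self_of_dvd _ (Dvd.intro _ h3) with h4 | h4
    · exact relIndex_eq_one.1 h4
    · rw [h4] at h3
      exact absurd (relIndex_eq_one.1 ((Nat.mul_eq_left hp.out.ne_zero).1 h3)) fun hSi => hS (hSi.trans inf_le_right)
  have hLp : ∀ e ∈ L, ∀ k : ℕ, e ^ p ^ k = 1 → e ∈ Q := by
    intro e he k hk
    obtain ⟨y, hy⟩ := h.base.exists_conj_mem hk
    have h1 : y⁻¹ * e * y ∈ L ⊔ Q :=
      mem_sup_left (by simpa using (inferInstance : L.Normal).conj_mem e he y⁻¹)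
    simpa [mul_assoc] using (inferInstance : Q.Normal).conj_mem _ (hSQ ⟨hy, h1⟩) y
  intro x hx
  set N0 := Q.subgroupOf L with hN0
  haveI : Fintype (↥L ⧸ N0) := Fintype.ofFinite _
  have hcop : (Nat.card (↥L ⧸ N0)).Coprime p := by
    refine (Nat.Prime.coprime_iff_not_dvd hp.out).2 ?_ |>.symm
    intro hdvd
    obtain ⟨c, hc⟩ := exists_prime_orderOf_dvd_card' p hdvd
    obtain ⟨y, rfl⟩ := QuotientGroup.mk'_surjective N0 c
    obtain ⟨k, m, hkm, hcp, he⟩ := exists_parts (p := p) (y : G)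
    have hy1 : (QuotientGroup.mk' N0 y) ^ m = 1 := by
      rw [← map_pow]
      exact (QuotientGroup.eq_one_iff _).2 (mem_subgroupOf.2 (by
        simpa using hLp _ (pow_mem y.2 m) k he))
    have hpm : p ∣ m := hc ▸ orderOf_dvd_of_pow_eq_one hy1
    rcases Nat.eq_zero_or_pos k with rfl | hk
    · rw [pow_zero, pow_one] at hcp
      refine hp.out.coprime_iff_not_dvd.1 hcp.symm ?_
      rw [orderOf_coe, ← hc]
      exact orderOf_map_dvd _ _
    · exact hp.out.coprime_iff_not_dvd.1 (Nat.Coprime.coprime_dvd_left (dvd_pow_self p hk.ne') hkm) hpm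
  set q := QuotientGroup.mk' (tt p G)
  have hcomm : IsMulCommutative ↥(Q.map q) := ⟨⟨by
    rintro ⟨_, a, ha, rfl⟩ ⟨_, b, hb, rfl⟩
    refine Subtype.ext ?_
    show q a * q b = q b * q a
    rw [← commutatorElement_eq_one_iff_mul_comm, ← map_commutatorElement]
    exact (QuotientGroup.eq_one_iff _).2 (h.comm_QQ hsep ha hb)⟩⟩
  letI : CommGroup ↥(Q.map q) := { (inferInstance : Group ↥(Q.map q)) with mul_comm := fun a b => hcomm.is_comm.comm a b }
  let Ψ : L → (↥(Q.map q) →* ↥(Q.map q)) := fun l => MonoidHom.mk'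
    (fun w => ⟨q l * (w : G ⧸ tt p G) * (q l)⁻¹, by
      obtain ⟨a, ha, e⟩ := w.2
      exact ⟨l * a * (l : G)⁻¹, (inferInstance : Q.Normal).conj_mem a ha l, by simp [← e]⟩⟩)
    fun a b => Subtype.ext (by simp [mul_assoc])
  let xb : ↥(Q.map q) := ⟨q x, mem_map_of_mem q hx⟩
  let Fn : ↥L ⧸ N0 → ↥(Q.map q) := fun c => Ψ c.out xb
  set y := ∏ c, Fn c
  have hfix : ∀ l : L, Ψ l y = y := by
    intro l
    rw [map_prod]
    refine Fintype.prod_equiv (Equiv.mulLeft (l : ↥L ⧸ N0)) _ _ fun c => ?_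
    have hn : ((l * c.out)⁻¹ * ((l : ↥L ⧸ N0) * c).out : ↥L) ∈ N0 := by
      rw [← QuotientGroup.eq, QuotientGroup.out_eq', QuotientGroup.mk_mul, QuotientGroup.out_eq']
    set n0 := (l * c.out)⁻¹ * ((l : ↥L ⧸ N0) * c).out with hn0
    have e : ((l : ↥L ⧸ N0) * c).out = l * c.out * n0 := by rw [hn0]; group
    have h1 : q (n0 : G) * q x * (q (n0 : G))⁻¹ = q x := by
      rw [mul_inv_eq_iff_eq_mul, ← commutatorElement_eq_one_iff_mul_comm, ← map_commutatorElement]
      exact (QuotientGroup.eq_one_iff _).2 (h.comm_QQ hsep (mem_subgroupOf.1 hn) hx)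
    refine Subtype.ext ?_
    show q l * (q (c.out : G) * q x * (q (c.out : G))⁻¹) * (q l)⁻¹ =
      q (((l : ↥L ⧸ N0) * c).out : G) * q x * (q (((l : ↥L ⧸ N0) * c).out : G))⁻¹
    rw [e]
    simp only [Subgroup.coe_mul, map_mul, _root_.mul_inv_rev]
    nth_rewrite 1 [← h1]
    group
  obtain ⟨y0, hy0, hy1⟩ := y.2
  have hyT : y0 ∈ tt p G := h.mem_tt_of_comm hy0 fun l hl => by
    refine (QuotientGroup.eq_one_iff _).1 (?_ : q ⁅l, y0⁆ = 1)
    rw [map_commutatorElement, hy1, commutatorElement_def, mul_inv_eq_one]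
    exact congrArg Subtype.val (hfix ⟨l, hl⟩)
  set Wb := ((rr p G ⊔ tt p G).map q).subgroupOf (Q.map q)
  have hdiff : ∏ c, (Fn c * xb⁻¹) ∈ Wb := prod_mem fun c _ => by
    refine mem_subgroupOf.2 ⟨⁅((c.out : L) : G), x⁆, mem_sup_left (h.comm_L_rr hx c.out.2), ?_⟩
    simp [Fn, Ψ, xb, commutatorElement_def]
  rw [Finset.prod_mul_distrib, Finset.prod_const, Finset.card_univ, ← Nat.card_eq_fintype_card,
    show ∏ c, Fn c = 1 from Subtype.ext (by
      show (y : G ⧸ tt p G) = 1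
      rw [← hy1]; exact (QuotientGroup.eq_one_iff _).2 hyT), one_mul,
    inv_pow, inv_mem_iff] at hdiff
  obtain ⟨w, hw, e⟩ := mem_subgroupOf.1 hdiff
  have hxn : x ^ Nat.card (↥L ⧸ N0) ∈ rr p G ⊔ tt p G := by
    have e' : q w = q (x ^ Nat.card (↥L ⧸ N0)) := by rw [e, map_pow]; rfl
    have h2 := mul_mem hw (mem_sup_right (QuotientGroup.eq.1 e'))
    rwa [mul_inv_cancel_left] at h2
  exact mem_of_parts hcop hxn (mem_sup_right (h.pow_Q hsep hx))

/-- `S` acts trivially modulo `[Q, L] V T`. -/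
theorem act_W (hsep : Sep p S f) {x a : G} (hx : x ∈ Cfsg.pCore p G) (ha : a ∈ S) :
    ⁅a, x⁆ ∈ rr p G ⊔ tt p G := by
  by_cases hS : S ≤ Cfsg.pResidual p G ⊔ Cfsg.pCore p G
  · obtain ⟨l, hl, w, hw, rfl⟩ := mem_sup_normal (hS ha)
    rw [commutatorElement_mul_left_eq_conj_mul]
    refine mul_mem ((inferInstance : (rr p G ⊔ tt p G).Normal).conj_mem _
      (mem_sup_right (h.comm_QQ hsep hw hx)) l) (mem_sup_left (h.comm_L_rr hx hl))
  · refine h.Q_le_W hsep hS ?_
    rw [commutatorElement_def]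
    exact mul_mem ((inferInstance : (Cfsg.pCore p G).Normal).conj_mem x hx a) (inv_mem hx)

/-- Commutators of the core with the member lie in the exchanged member modulo the kernel. -/
theorem comm_bb (hsep : Sep p S f) {x a : G} (hx : x ∈ Cfsg.pCore p G) (ha : a ∈ A) :
    ⁅a, x⁆ ∈ bb p A ⊔ tt p G := by
  obtain ⟨m, hm, t, ht, e⟩ := mem_sup_normal (h.act_W hsep hx (h.hA.1 ha))
  rw [e]
  refine mul_mem (mem_sup_left ?_) (mem_sup_right ht)
  have hmM := h.rr_le hm
  -- `m` centralises the part of `[A, M]` in `rr`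
  have key : ∀ c ∈ bb p A, c ∈ rr p G ⊔ tt p G → c * m = m * c := by
    intro c hc hcW
    obtain ⟨r, hr, d, hd, rfl⟩ := mem_sup_normal hcW
    have hd' : d ∈ dd p A g := h.tt_inf_M.le ⟨hd, by
      have := mul_mem (inv_mem (h.rr_le hr)) (mem_sup_left hc : r * d ∈ mm p A g)
      rwa [inv_mul_cancel_left] at this⟩
    have hrB : r ∈ bb p A := by
      have := mul_mem hc (inv_mem (mem_sup_left hd'.1 : d ∈ bb p A))
      rwa [mul_inv_cancel_right] at this
    obtain ⟨u, hu, v, hv, e2⟩ := mem_sup_normal hrB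
    have huR : u ∈ rr p G := by
      have := mul_mem hr (inv_mem (mem_sup_right hv : v ∈ rr p G))
      rwa [e2, mul_inv_cancel_right] at this
    have huM : u ∈ mm p A g := h.rr_le huR
    set d0 := ⁅x, u⁆
    have hd0R : d0 ∈ rr p G := by
      rw [show d0 = (x * u * x⁻¹) * u⁻¹ from rfl]
      exact mul_mem ((inferInstance : (rr p G).Normal).conj_mem u huR x) (inv_mem huR)
    have hd0 : d0 ∈ dd p A g := h.tt_inf_M.le ⟨by
      have := inv_mem (h.comm_MQ hsep huM hx)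
      rwa [commutatorElement_inv] at this, h.rr_le hd0R⟩
    have hau : a * u * a⁻¹ = u := by rw [h.hA.2.1 a ha u hu.1]; group
    have h1 : ⁅m * t * x, u⁆ = d0 := by
      have e3 : a * x * a⁻¹ = m * t * x := by rw [← e, commutatorElement_def]; group
      calc ⁅m * t * x, u⁆ = ⁅a * x * a⁻¹, a * u * a⁻¹⁆ := by rw [e3, hau]
        _ = a * d0 * a⁻¹ := by simp only [d0, commutatorElement_def]; group
        _ = _ := by rw [h.dd_comm hd0 (mem_sup_left (mem_sup_left ha))]; group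
    have htd : t * d0 = d0 * t := (h.rr_comm_tt hd0R) t ht
    have htu : ⁅t, u⁆ = 1 := commutatorElement_eq_one_iff_mul_comm.2 ((h.rr_comm_tt huR) t ht)
    rw [commutatorElement_mul_left_eq_conj_mul, commutatorElement_mul_left_eq_conj_mul, htu, mul_one,
      mul_inv_cancel, one_mul, mul_assoc m t, htd, ← mul_assoc m d0, h.dd_comm hd0 (mem_sup_right hmM)] at h1
    have h2 : ⁅m, u⁆ = 1 := by
      have e4 : d0 * m * t * (m * t)⁻¹ * ⁅m, u⁆ = d0 := h1
      rwa [show d0 * m * t * (m * t)⁻¹ = d0 by group, mul_eq_left] at e4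
    have hum : Commute u m := (commutatorElement_eq_one_iff_mul_comm.1 h2).symm
    have hvm : Commute v m := (h.base.commV hv (h.M_le hmM)).symm
    have hdm : Commute d m := (h.dd_comm hd' (mem_sup_right hmM)).symm
    rw [e2]
    exact (((hum.mul_left hvm).mul_left hdm).eq)
  refine h.mem_bb hmM fun b hb => ?_
  set w := ⁅m, b⁆
  have hwM : w ∈ mm p A g := by
    rw [show w = m * (b * m⁻¹ * b⁻¹) by simp only [w, commutatorElement_def]; group]
    exact mul_mem hmM ((mem_normalizer_iff.1 (h.norm_M (mem_sup_left hb)) _).1 (inv_mem hmM))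
  rw [← h.cS_M]
  refine mem_cS.2 ⟨h.M_mem.1 hwM, fun z hz => ?_⟩
  set y := b⁻¹ * z * b
  have hy : y ∈ mm p A g := by simpa [y] using (mem_normalizer_iff.1 (inv_mem (h.norm_M (mem_sup_left hb))) z).1 hz
  have hcy := key _ (h.comm_mem_bb hy hb) (h.act_W hsep (h.M_le hy) (h.hA.1 hb))
  have hzc : z = ⁅b, y⁆ * y := by simp only [y, commutatorElement_def]; group
  have hd : ⁅y, m⁆ ∈ dd p A g := h.derived_le_dd y hy m hmM
  have h1 : ⁅z, b * m * b⁻¹⁆ = ⁅y, m⁆ := by
    rw [show ⁅z, b * m * b⁻¹⁆ = b * ⁅y, m⁆ * b⁻¹ by simp only [y, commutatorElement_def]; group,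
      h.dd_comm hd (mem_sup_left (mem_sup_left hb))]
    group
  have h2 : ⁅z, m⁆ = ⁅y, m⁆ := by
    rw [hzc, commutatorElement_mul_left_eq_conj_mul, commutatorElement_eq_one_iff_mul_comm.2 hcy, mul_one,
      h.dd_comm hd (mem_sup_right (mem_sup_left (h.comm_mem_bb hy hb))), mul_inv_cancel_right]
  have e5 : ⁅z, b * m * b⁻¹⁆ = ⁅z, w⁻¹ * m⁆ := by
    simp only [w, commutatorElement_def]; group
  rw [e5, ← h2, show ⁅z, w⁻¹ * m⁆ = ⁅z, w⁻¹⁆ * (w⁻¹ * ⁅z, m⁆ * w⁻¹⁻¹) by
      simp only [commutatorElement_def]; group,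
    h.dd_comm (h.derived_le_dd z hz m hmM) (mem_sup_right (inv_mem hwM)), mul_inv_cancel_right, mul_eq_right,
    commutatorElement_eq_one_iff_commute] at h1
  have h3 := h1.inv_right
  rw [inv_inv] at h3
  exact h3.eq

theorem bb_comm_tt {c : G} (hc : c ∈ bb p A ⊔ tt p G) {x : G} (hx : x ∈ Cfsg.pCore p G) (hsep : Sep p S f) :
    ⁅c, x⁆ ∈ tt p G := by
  obtain ⟨b, hb, t, ht, rfl⟩ := mem_sup_normal hc
  exact h.comm_QQ hsep (mul_mem (h.bb_le hb) ht.1) hx

/-- The centre part of a commutator is visible in the second commutator. -/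
theorem quad_of_comm {c a : G} (hc : c ∈ bb p A ⊔ tt p G) (ha : a ∈ A) (haQ : a ∉ Cfsg.pCore p G)
    (h2 : ⁅a, c⁆ ∈ tt p G) : c ∈ uu p A ⊔ tt p G := by
  obtain ⟨b, hb, t, ht, rfl⟩ := mem_sup_normal hc
  obtain ⟨u, hu, v, hv, rfl⟩ := mem_sup_normal hb
  refine mul_mem (mem_sup_left (mul_mem hu ⟨h.base.center_le (h.hA.mem h.hb).1 ?_, hv.1⟩)) (mem_sup_right ht)
  refine h.base.nat_comm h.opp hv (h.hA.1 ha) haQ (h.tt_inf_Z ?_ ?_)
  · have := inv_mem (h.base.comm_V hv (h.hA.1 ha))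
    rwa [commutatorElement_inv] at this
  · set q := QuotientGroup.mk' (tt p G)
    refine (QuotientGroup.eq_one_iff _).1 (?_ : q ⁅a, v⁆ = 1)
    have h3 : q ⁅a, u * v * t⁆ = 1 := (QuotientGroup.eq_one_iff _).2 h2
    rw [map_commutatorElement, map_mul, map_mul, show q t = 1 from (QuotientGroup.eq_one_iff _).2 ht, mul_one,
      ← map_mul, ← map_commutatorElement] at h3
    have hvV : ⁅a, v⁆ ∈ vG p G := by
      rw [commutatorElement_def]
      exact mul_mem ((inferInstance : (vG p G).Normal).conj_mem v hv a) (inv_mem hv)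
    have e : ⁅a, u * v⁆ = ⁅a, v⁆ := by
      rw [show ⁅a, u * v⁆ = ⁅a, u⁆ * (u * ⁅a, v⁆ * u⁻¹) by simp only [commutatorElement_def]; group,
        commutatorElement_eq_one_iff_mul_comm.2 (h.hA.2.1 a ha u hu.1), one_mul,
        h.base.commV hvV hu.2, mul_inv_cancel_right]
    rwa [e] at h3

/-- Quadratic action for `p = 2`. -/
theorem quad_two (hsep : Sep p S f) (hp2 : p = 2) {x a : G} (hx : x ∈ Cfsg.pCore p G) (ha : a ∈ A)
    (hap : a ^ p = 1) : ⁅a, x⁆ ∈ uu p A ⊔ tt p G := by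
  by_cases haQ : a ∈ Cfsg.pCore p G
  · exact mem_sup_right (h.comm_QQ hsep haQ hx)
  have hc := h.comm_bb hsep hx ha
  refine h.quad_of_comm hc ha haQ ?_
  subst hp2
  have ha' : a⁻¹ = a := inv_eq_of_mul_eq_one_right (by rw [← pow_two]; exact hap)
  have hcQ : ⁅a, x⁆ ∈ Cfsg.pCore 2 G := by
    rw [commutatorElement_def]
    exact mul_mem ((inferInstance : (Cfsg.pCore 2 G).Normal).conj_mem x hx a) (inv_mem hx)
  have e : ⁅a, ⁅a, x⁆⁆ = (⁅a, x⁆ ^ 2)⁻¹ := by
    have e1 : a * ⁅a, x⁆ * a⁻¹ = ⁅a, x⁆⁻¹ := by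
      simp only [commutatorElement_def, _root_.mul_inv_rev, inv_inv, ha']
      calc a * (a * x * a * x⁻¹) * a = (a * a) * x * a * x⁻¹ * a := by group
        _ = x * (a * x⁻¹ * a) := by rw [show a * a = 1 by rw [← pow_two]; exact hap]; group
        _ = _ := by group
    rw [commutatorElement_def a, e1, pow_two, _root_.mul_inv_rev]
  rw [e]
  exact inv_mem (h.pow_Q hsep hcQ)

end Frame2

end Cfsg.Agent.GenA.GN
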