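import Cfsg.Agent.GenA.GN.Pair
import Cfsg.Agent.Lib.Transfer.NormalPComplement

/-!
The `p`-residual of the whole group lies in the subgroup generated by two opposite members and their lattice
member, so that it centralises the common part.
-/

set_option autoImplicit false
set_option linter.unusedSectionVars false
set_option linter.style.haveILetI false

namespace Cfsg.Agent.GenA.GN

open Subgroup Cfsg.Agent.Classical.GL2 Cfsg.Agent.CharP Cfsg.Agent.CharP.PushOne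
open scoped MatrixGroups commutatorElement Pointwise

variable {G : Type*} [Group G] [Finite G] {p : ℕ} [hp : Fact p.Prime]

/-- The elements of order prime to `p` of a subgroup. -/
def copGen (p : ℕ) (X : Subgroup G) : Set G := {x | x ∈ X ∧ (orderOf x).Coprime p}

/-- The subgroup generated by the elements of order prime to `p` of a subgroup. -/
def res (p : ℕ) (X : Subgroup G) : Subgroup G := closure (copGen p X)

theorem res_le (X : Subgroup G) : res p X ≤ X := (closure_le _).2 fun _ hx => hx.1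

theorem mem_res {X : Subgroup G} {x : G} (hx : x ∈ X) (hc : (orderOf x).Coprime p) : x ∈ res p X :=
  subset_closure ⟨hx, hc⟩

theorem normalizer_le_res (X : Subgroup G) : normalizer (X : Set G) ≤ normalizer (res p X : Set G) := by
  intro e he
  refine mem_normalizer_fintype fun x hx => ?_
  induction hx using closure_induction with
  | mem x hx =>
    refine subset_closure ⟨(mem_normalizer_iff.1 he x).1 hx.1, ?_⟩
    rw [show orderOf (e * x * e⁻¹) = orderOf x from orderOf_injective (MulAut.conj e).toMonoidHom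
      (MulAut.conj e).injective x]
    exact hx.2
  | one => simp
  | mul a b _ _ ha hb =>
    simpa [mul_assoc] using mul_mem ha hb
  | inv a _ ha => simpa [mul_assoc] using inv_mem ha

theorem pow_mem_res {X : Subgroup G} {x : G} (hx : x ∈ X) : ∃ k : ℕ, x ^ p ^ k ∈ res p X := by
  obtain ⟨k, m, hm, e⟩ := Nat.exists_eq_pow_mul_and_not_dvd (orderOf_pos x).ne' p hp.out.one_lt.ne'
  refine ⟨k, mem_res (pow_mem hx _) ?_⟩
  rw [orderOf_pow' x (pow_ne_zero _ hp.out.pos.ne'), e, Nat.gcd_eq_right (dvd_mul_right _ _),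
    Nat.mul_div_cancel_left _ (pow_pos hp.out.pos _)]
  exact (hp.out.coprime_iff_not_dvd.2 hm).symm

/-- An element of order prime to `p` of `Y L` lies in `L` when the `p`-group `Y` normalises `L`. -/
theorem coprime_mem {Y L : Subgroup G} (hY : IsPGroup p Y) (hn : Y ≤ normalizer (L : Set G)) {x : G}
    (hx : x ∈ Y ⊔ L) (hc : (orderOf x).Coprime p) : x ∈ L := by
  rw [← SetLike.mem_coe, coe_mul_of_left_le_normalizer_right _ _ hn] at hx
  obtain ⟨y, hy, l, hl, rfl⟩ := hx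
  obtain ⟨k, hk⟩ := hY ⟨y, hy⟩
  have key : ∀ m : ℕ, (y * l) ^ m * (y ^ m)⁻¹ ∈ L := by
    intro m
    induction m with
    | zero => simp
    | succ m ih =>
      have h2 : y ^ (m + 1) * l * (y ^ (m + 1))⁻¹ ∈ L :=
        (mem_normalizer_iff.1 (hn (pow_mem hy _)) l).1 hl
      have e : (y * l) ^ (m + 1) * (y ^ (m + 1))⁻¹ =
          ((y * l) ^ m * (y ^ m)⁻¹) * (y ^ (m + 1) * l * (y ^ (m + 1))⁻¹) := by
        rw [pow_succ, pow_succ]; group
      rw [e]; exact mul_mem ih h2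
  have h1 := key (p ^ k)
  rw [show y ^ p ^ k = 1 from congrArg Subtype.val hk, inv_one, mul_one] at h1
  obtain ⟨j, hj⟩ := exists_pow_eq_self_of_coprime (Nat.Coprime.pow_left k hc.symm)
  rw [← hj]
  exact pow_mem h1 j

theorem card_map_mk (N X : Subgroup G) [N.Normal] :
    Nat.card ↥(X.map (QuotientGroup.mk' N)) = N.relIndex X := by
  have h := relIndex_comap (⊥ : Subgroup (G ⧸ N)) (QuotientGroup.mk' N) X
  rw [MonoidHom.comap_bot, QuotientGroup.ker_mk', relIndex_bot_left] at h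
  exact h.symm

theorem relIndex_comap_mk (N : Subgroup G) [N.Normal] (R : Subgroup (G ⧸ N)) :
    N.relIndex (R.comap (QuotientGroup.mk' N)) = Nat.card R := by
  rw [← card_map_mk, map_comap_eq_self_of_surjective (QuotientGroup.mk'_surjective N)]

variable {F : Type} [Field F] [Fintype F] {S : Subgroup G} {φ : G →* PSL(2, F)} {f : ℕ}

theorem Base.pgroup (h : Base p F S φ f) {X : Subgroup G} (hX : X ≤ S) : IsPGroup p X :=
  h.dat.isPGroup.to_le hX

theorem Base.exists_pow (h : Base p F S φ f) {x : G} (hx : x ∈ S) : ∃ k : ℕ, x ^ p ^ k = 1 := by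
  obtain ⟨k, hk⟩ := h.dat.isPGroup ⟨x, hx⟩
  exact ⟨k, congrArg Subtype.val hk⟩

namespace Frame

variable {A : Subgroup G} {g : G} (h : Frame p F S φ f A g)
include h

theorem dH_inf {H : Subgroup G} (hHQ : H ≤ Cfsg.pCore p G) :
    (dd p A g ⊓ centralizer (H : Set G)) ⊓ vG p G = v0 p G := by
  refine le_antisymm (fun x hx => h.dd_inf_V.le ⟨hx.1.1, hx.2⟩) fun x hx => ?_
  exact ⟨⟨(h.dd_inf_V.ge hx).1, fun r _ => (mem_v0.1 hx).2 r⟩, (mem_v0.1 hx).1⟩

theorem cS_above {H : Subgroup G} (hH : Mem S f H) (hMH : mm p A g ≤ H) (hHQ : H ≤ Cfsg.pCore p G) :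
    cS S H = (dd p A g ⊓ centralizer (H : Set G)) ⊔ vG p G := by
  have hVH : vG p G ≤ cS S H := fun v hv =>
    ⟨h.base.hVS hv, centralizer_le (SetLike.coe_subset_coe.2 hHQ) hv.2.1⟩
  refine le_antisymm (fun x hx => ?_) (sup_le (fun d hd => ⟨?_, hd.2⟩) hVH)
  · have hx' : x ∈ dd p A g ⊔ vG p G := h.zm_eq ▸ h.cS_M ▸ cS_anti hMH hx
    obtain ⟨d, hd, v, hv, rfl⟩ := mem_sup_normal hx'
    refine mul_mem_sup ⟨hd, fun r hr => ?_⟩ hv
    have h1 := comm_cS hx hr
    have h2 := h.base.commV hv (hHQ hr)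
    calc r * d = r * (d * v) * v⁻¹ := by group
      _ = d * (v * r) * v⁻¹ := by rw [h1]; group
      _ = d * (r * v) * v⁻¹ := by rw [h2]
      _ = d * r := by group
  · exact h.base.hQS (h.bb_le (mem_sup_left hd.1.1))

/-- The elements of order prime to `p` act trivially on a cover above `mm`. -/
theorem cover_trivial {H N1 : Subgroup G} (hcov : Cover S f H N1) (hMH : mm p A g ≤ H)
    (hN1 : N1 ≤ Cfsg.pCore p G) :
    ∀ y ∈ N1, ∀ l ∈ copGen p (ee A g ⊔ mm p A g), ⁅l, y⁆ ∈ H := by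
  classical
  have hb := h.hb
  obtain ⟨hH, hN, hlt, -⟩ := id hcov
  have hHQ : H ≤ Cfsg.pCore p G := hlt.le.trans hN1
  have hnormH : N1 ≤ normalizer (H : Set G) := hcov.normal hb
  have hEM : ∀ {N : Subgroup G}, Mem S f N → mm p A g ≤ N → N ≤ Cfsg.pCore p G →
      ee A g ⊔ mm p A g ≤ normalizer (N : Set G) := fun hN hMN hNQ =>
    sup_le (h.E_norm hN hMN hNQ) (hMN.trans le_normalizer)
  set EM := ee A g ⊔ mm p A g
  by_contra hne
  obtain ⟨Y, ⟨hHY, hYN, hYn, hYnt⟩, hmin⟩ := Set.Finite.exists_minimal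
    (Set.toFinite {Y : Subgroup G | H ≤ Y ∧ Y ≤ N1 ∧ EM ≤ normalizer (Y : Set G) ∧
      ¬ ∀ y ∈ Y, ∀ l ∈ copGen p EM, ⁅l, y⁆ ∈ H})
    ⟨N1, hlt.le, le_rfl, hEM hN (hMH.trans hlt.le) hN1, hne⟩
  have hYQ : Y ≤ Cfsg.pCore p G := hYN.trans hN1
  set K0 := closure ((H : Set G) ∪ {c | ∃ y ∈ Y, ∃ l ∈ copGen p EM, ⁅l, y⁆ = c}) with hK0
  have hcY : ∀ y ∈ Y, ∀ l ∈ EM, ⁅l, y⁆ ∈ Y := fun y hy l hl => by
    rw [commutatorElement_def]
    exact mul_mem ((mem_normalizer_iff.1 (hYn hl) y).1 hy) (inv_mem hy)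
  have hK0Y : K0 ≤ Y := (closure_le _).2 (by
    rintro x (hx | ⟨y, hy, l, hl, rfl⟩)
    · exact hHY hx
    · exact hcY y hy l hl.1)
  have hHn := hEM hH hMH hHQ
  have hK0n : EM ≤ normalizer (K0 : Set G) := by
    intro e he
    refine mem_normalizer_fintype fun x hx => ?_
    induction hx using closure_induction with
    | mem x hx =>
      rcases hx with hx | ⟨y, hy, l, hl, rfl⟩
      · exact subset_closure (Or.inl ((mem_normalizer_iff.1 (hHn he) x).1 hx))
      · refine subset_closure (Or.inr ⟨e * y * e⁻¹, (mem_normalizer_iff.1 (hYn he) y).1 hy,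
          e * l * e⁻¹, ⟨mul_mem (mul_mem he hl.1) (inv_mem he), ?_⟩, ?_⟩)
        · rw [show orderOf (e * l * e⁻¹) = orderOf l from orderOf_injective (MulAut.conj e).toMonoidHom
            (MulAut.conj e).injective l]
          exact hl.2
        · simp only [commutatorElement_def]; group
    | one => simp
    | mul a b _ _ ha hb => simpa [mul_assoc] using mul_mem ha hb
    | inv a _ ha => simpa [mul_assoc] using inv_mem ha
  have hYK : K0 = Y := by
    by_contra hne0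
    apply hYnt
    have h0 : ∀ y ∈ K0, ∀ l ∈ copGen p EM, ⁅l, y⁆ ∈ H := by
      by_contra h2
      exact hne0 (le_antisymm hK0Y (hmin ⟨fun x hx => subset_closure (Or.inl hx),
        hK0Y.trans hYN, hK0n, h2⟩ hK0Y))
    intro y hy l hl
    refine stability (hHn hl.1) (hnormH (hYN hy)) hl.2
      (h.base.exists_pow (h.base.hQS (hYQ (hcY y hy l hl.1)))) ?_
    exact h0 _ (subset_closure (Or.inr ⟨y, hy, l, hl, rfl⟩)) l hl
  set DH := dd p A g ⊓ centralizer (H : Set G) with hDH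
  have hZH : cS S H = DH ⊔ vG p G := h.cS_above hH hMH hHQ
  have hZHn : ∀ y ∈ Y, ∀ z ∈ cS S H, y * z * y⁻¹ ∈ cS S H := by
    intro y hy z hz
    refine mem_cS.2 ⟨mul_mem (mul_mem (h.base.hQS (hYQ hy)) hz.1) (inv_mem (h.base.hQS (hYQ hy))), fun r hr => ?_⟩
    have hr' : y⁻¹ * r * y ∈ H := by simpa using (mem_normalizer_iff.1 (inv_mem (hnormH (hYN hy))) r).1 hr
    calc r * (y * z * y⁻¹) = y * ((y⁻¹ * r * y) * z) * y⁻¹ := by group
      _ = y * (z * (y⁻¹ * r * y)) * y⁻¹ := by rw [comm_cS hz hr']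
      _ = _ := by group
  -- `Y` acts trivially on `Z_H / V`
  let G0 : Subgroup G :=
    { carrier := {y | y ∈ Y ∧ ∀ d ∈ DH, ⁅y, d⁆ ∈ vG p G}
      one_mem' := ⟨one_mem _, fun d _ => by simp⟩
      mul_mem' := fun {a b} ha hb => ⟨mul_mem ha.1 hb.1, fun d hd => by
        rw [commutatorElement_mul_left_eq_conj_mul]
        exact mul_mem ((inferInstance : (vG p G).Normal).conj_mem _ (hb.2 d hd) a) (ha.2 d hd)⟩
      inv_mem' := fun {a} ha => ⟨inv_mem ha.1, fun d hd => by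
        rw [show ⁅a⁻¹, d⁆ = a⁻¹ * ⁅a, d⁆⁻¹ * a⁻¹⁻¹ by simp only [commutatorElement_def]; group]
        exact (inferInstance : (vG p G).Normal).conj_mem _ (inv_mem (ha.2 d hd)) a⁻¹⟩ }
  have hG0 : Y ≤ G0 := by
    rw [← hYK]
    refine (closure_le _).2 ?_
    rintro x (hx | ⟨y, hy, l, hl, rfl⟩)
    · exact ⟨hHY hx, fun d hd => by
        rw [commutatorElement_eq_one_iff_mul_comm.2 (hd.2 x hx)]; exact one_mem _⟩
    refine ⟨hcY y hy l hl.1, fun d hd => ?_⟩
    -- `[l, y]` fixes `d` modulo `V`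
    obtain ⟨d1, hd1, v1, hv1, e1⟩ := mem_sup_normal
      (hZH ▸ (by simpa using hZHn _ (inv_mem hy) d (hZH.ge (mem_sup_left hd))) : y⁻¹ * d * y ∈ DH ⊔ vG p G)
    have hl' : l⁻¹ ∈ EM := inv_mem hl.1
    have hcd : ∀ e ∈ DH, l * e * l⁻¹ = e := fun e he => by
      rw [h.dd_comm he.1 hl.1]; group
    have e2 : ⁅l, y⁆⁻¹ * d * ⁅l, y⁆ = (y * d1 * y⁻¹) * (y * (l * v1 * l⁻¹) * y⁻¹) := by
      have e4 : l⁻¹ * d * l = d := by rw [mul_assoc, ← h.dd_comm hd.1 hl.1]; group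
      calc ⁅l, y⁆⁻¹ * d * ⁅l, y⁆ = y * (l * (y⁻¹ * (l⁻¹ * d * l) * y) * l⁻¹) * y⁻¹ := by
            rw [commutatorElement_def]; group
        _ = y * (l * (y⁻¹ * d * y) * l⁻¹) * y⁻¹ := by rw [e4]
        _ = y * ((l * d1 * l⁻¹) * (l * v1 * l⁻¹)) * y⁻¹ := by rw [e1]; group
        _ = _ := by rw [hcd d1 hd1]; group
    have e3 : d = (y * d1 * y⁻¹) * (y * v1 * y⁻¹) := by
      calc d = y * (y⁻¹ * d * y) * y⁻¹ := by group
        _ = _ := by rw [e1]; group
    have hVn : ∀ x : G, ∀ v ∈ vG p G, x * v * x⁻¹ ∈ vG p G := fun x v hv =>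
      (inferInstance : (vG p G).Normal).conj_mem v hv x
    have h5 : d⁻¹ * (⁅l, y⁆⁻¹ * d * ⁅l, y⁆) ∈ vG p G := by
      rw [e2]; nth_rewrite 1 [e3]
      rw [show ((y * d1 * y⁻¹) * (y * v1 * y⁻¹))⁻¹ * ((y * d1 * y⁻¹) * (y * (l * v1 * l⁻¹) * y⁻¹)) =
        (y * v1 * y⁻¹)⁻¹ * (y * (l * v1 * l⁻¹) * y⁻¹) by group]
      exact mul_mem (inv_mem (hVn y v1 hv1)) (hVn y _ (hVn l v1 hv1))
    have := hVn (⁅l, y⁆ * d) _ (inv_mem h5)
    rwa [show ⁅l, y⁆ * d * (d⁻¹ * (⁅l, y⁆⁻¹ * d * ⁅l, y⁆))⁻¹ * (⁅l, y⁆ * d)⁻¹ = ⁅⁅l, y⁆, d⁆ by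
      simp only [commutatorElement_def]; group] at this
  have hcv : ∀ y ∈ Y, ∀ d ∈ DH, ⁅y, d⁆ ∈ vG p G := fun y hy d hd => (hG0 hy).2 d hd
  have hmulY : ∀ y1 ∈ Y, ∀ y2 ∈ Y, ∀ d ∈ DH, ⁅y1 * y2, d⁆ = ⁅y1, d⁆ * ⁅y2, d⁆ := by
    intro y1 h1 y2 h2 d hd
    have hc1 := h.base.commV (hcv y2 h2 d hd) (hYQ h1)
    rw [commutatorElement_mul_left_eq_conj_mul, hc1, mul_inv_cancel_right]
    exact h.base.commV (hcv y1 h1 d hd) (hcv y2 h2 d hd).1
  have hmulD : ∀ y ∈ Y, ∀ d1 ∈ DH, ∀ d2 ∈ DH, ⁅y, d1 * d2⁆ = ⁅y, d1⁆ * ⁅y, d2⁆ := by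
    intro y hy d1 h1 d2 h2
    have hd1Q : d1 ∈ Cfsg.pCore p G := h.bb_le (mem_sup_left h1.1.1)
    calc ⁅y, d1 * d2⁆ = ⁅y, d1⁆ * (d1 * ⁅y, d2⁆ * d1⁻¹) := by simp only [commutatorElement_def]; group
      _ = _ := by rw [h.base.commV (hcv y hy d2 h2) hd1Q, mul_inv_cancel_right]
  have hequiv : ∀ e ∈ EM, ∀ y ∈ Y, ∀ d ∈ DH, ⁅e * y * e⁻¹, d⁆ = e * ⁅y, d⁆ * e⁻¹ := by
    intro e he y _ d hd
    have hc : e * d * e⁻¹ = d := by rw [h.dd_comm hd.1 he]; group
    nth_rewrite 1 [← hc]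
    simp only [commutatorElement_def]; group
  -- the annihilator modulo `V₀`
  let C' : Subgroup G → Subgroup G := fun Y' =>
    { carrier := {d | d ∈ DH ∧ ∀ y ∈ Y' ⊓ Y, ⁅y, d⁆ ∈ v0 p G}
      one_mem' := ⟨one_mem _, fun y _ => by simp⟩
      mul_mem' := fun {a b} ha hb => ⟨mul_mem ha.1 hb.1, fun y hy => by
        rw [hmulD y hy.2 a ha.1 b hb.1]; exact mul_mem (ha.2 y hy) (hb.2 y hy)⟩
      inv_mem' := fun {a} ha => ⟨inv_mem ha.1, fun y hy => by
        have e := hmulD y hy.2 a ha.1 a⁻¹ (inv_mem ha.1)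
        rw [mul_inv_cancel, commutatorElement_one_right] at e
        rw [eq_inv_of_mul_eq_one_right e.symm]
        exact inv_mem (ha.2 y hy)⟩ }
  have claim : ∀ Y' : Subgroup G, H ≤ Y' → Y' ≤ Y → ee A g ≤ normalizer (Y' : Set G) →
      (C' Y').relIndex DH * (C' Y').relIndex DH ≤ H.relIndex Y' := by
    intro Y'
    induction Y' using WellFoundedLT.induction with
    | _ Y' ih =>
    intro hHY' hY'Y hY'n
    by_cases hall : DH ≤ C' Y'
    · rw [relIndex_eq_one.2 hall, one_mul]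
      exact PushingUpCL.relIndex_pos' _ _
    obtain ⟨d, hd, hdC⟩ := Set.not_subset.1 hall
    let ψ : Y' →* G ⧸ v0 p G := MonoidHom.mk' (fun y => (⁅(y : G), d⁆ : G)) fun a b => by
      rw [← QuotientGroup.mk_mul, Subgroup.coe_mul, hmulY a (hY'Y a.2) b (hY'Y b.2) d hd]
    set Im := ψ.range.comap (QuotientGroup.mk' (v0 p G))
    have hImV : Im ≤ vG p G := by
      intro x hx
      obtain ⟨y, hy⟩ := hx
      have h1 : (⁅(y : G), d⁆)⁻¹ * x ∈ v0 p G := QuotientGroup.eq.1 hy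
      have h2 := mul_mem (hcv y (hY'Y y.2) d hd) (mem_v0.1 h1).1
      rwa [mul_inv_cancel_left] at h2
    have hV0Im : v0 p G ≤ Im := fun x hx => ⟨1, by rw [map_one]; exact ((QuotientGroup.eq_one_iff x).2 hx).symm⟩
    have hImn : ∀ e ∈ ee A g, ∀ x ∈ Im, e * x * e⁻¹ ∈ Im := by
      intro e he x hx
      obtain ⟨y, hy⟩ := hx
      refine ⟨⟨e * y * e⁻¹, (mem_normalizer_iff.1 (hY'n he) _).1 y.2⟩, ?_⟩
      show ((⁅e * (y : G) * e⁻¹, d⁆ : G) : G ⧸ v0 p G) = QuotientGroup.mk' _ (e * x * e⁻¹)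
      rw [hequiv e (mem_sup_left he) y (hY'Y y.2) d hd, map_mul, map_mul, ← hy]
      rfl
    rcases h.irreducible hV0Im hImV hImn with hIm | hIm
    · exfalso
      refine hdC ⟨hd, fun y hy => hIm.le ⟨⟨y, hy.1⟩, rfl⟩⟩
    set Y'' := ψ.ker.map Y'.subtype
    have hrk : Y''.relIndex Y' = (v0 p G).relIndex (vG p G) := by
      have e0 : Y''.subgroupOf Y' = ψ.ker := comap_map_eq_self_of_injective Y'.subtype_injective _
      rw [show Y''.relIndex Y' = (Y''.subgroupOf Y').index from rfl, e0, index_ker, ← hIm]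
      exact (relIndex_comap_mk (v0 p G) ψ.range).symm
    have hY''le : Y'' ≤ Y' := map_subtype_le _
    have hmemY'' : ∀ {y : G}, y ∈ Y'' ↔ y ∈ Y' ∧ ⁅y, d⁆ ∈ v0 p G := by
      intro y
      constructor
      · rintro ⟨z, hz, rfl⟩; exact ⟨z.2, (QuotientGroup.eq_one_iff _).1 hz⟩
      · rintro ⟨h1, h2⟩; exact ⟨⟨y, h1⟩, (QuotientGroup.eq_one_iff _).2 h2, rfl⟩
    have hHY'' : H ≤ Y'' := fun y hy => hmemY''.2 ⟨hHY' hy, by
      rw [commutatorElement_eq_one_iff_mul_comm.2 (hd.2 y hy)]; exact one_mem _⟩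
    have hY''n : ee A g ≤ normalizer (Y'' : Set G) := fun e he => mem_normalizer_fintype fun y hy => by
      obtain ⟨h1, h2⟩ := hmemY''.1 hy
      refine hmemY''.2 ⟨(mem_normalizer_iff.1 (hY'n he) y).1 h1, ?_⟩
      rw [hequiv e (mem_sup_left he) y (hY'Y h1) d hd]
      exact v0_normal.conj_mem _ h2 e
    set q := (Cfsg.pCore p G).relIndex S
    obtain ⟨-, hZi, -⟩ := h.base.zz_spec h.opp
    have hne : Y'' < Y' := lt_of_le_of_ne hY''le fun e => hdC ⟨hd, fun y hy => (hmemY''.1 (e.ge hy.1)).2⟩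
    have ih' := ih Y'' hne hHY'' (hY''le.trans hY'Y) hY''n
    obtain ⟨z, hzZ, hz0⟩ : ∃ z ∈ cS S S, z ∉ v0 p G := Set.not_subset.1 fun e =>
      h.base.S_not_le (relIndex_eq_one.1 (hZi.symm.trans (relIndex_eq_one.2 e)))
    obtain ⟨yz, hyz⟩ := (hIm.ge (h.base.center_le_V hzZ) : z ∈ Im)
    have hyz' : (⁅(yz : G), d⁆)⁻¹ * z ∈ v0 p G := QuotientGroup.eq.1 hyz
    obtain ⟨a, haA, haQ⟩ := h.exists_out
    have hC''DH : C' Y'' ≤ DH := fun x hx => hx.1
    let θ : C' Y'' →* G ⧸ v0 p G := MonoidHom.mk' (fun e => (⁅(yz : G), (e : G)⁆ : G)) fun a b => by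
      rw [← QuotientGroup.mk_mul, Subgroup.coe_mul, hmulD yz (hY'Y yz.2) a a.2.1 b b.2.1]
    have hrange : θ.range ≤ (cS S S).map (QuotientGroup.mk' (v0 p G)) := by
      rintro _ ⟨e, rfl⟩
      refine ⟨⁅(yz : G), (e : G)⁆, ?_, rfl⟩
      refine h.base.nat_comm h.opp (hcv yz (hY'Y yz.2) e e.2.1) (h.hA.1 haA) haQ ?_
      set w := ⁅(yz : G), (e : G)⁆
      have hyY : a * (yz : G) * a⁻¹ ∈ Y' := (mem_normalizer_iff.1 (hY'n (mem_sup_left haA)) _).1 yz.2
      set y'' := (yz : G)⁻¹ * (a * (yz : G) * a⁻¹)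
      have hy'' : y'' ∈ Y'' := by
        refine hmemY''.2 ⟨mul_mem (inv_mem yz.2) hyY, ?_⟩
        have e1 := hmulY yz (hY'Y yz.2) y'' (hY'Y (mul_mem (inv_mem yz.2) hyY)) d hd
        rw [show (yz : G) * y'' = a * (yz : G) * a⁻¹ from mul_inv_cancel_left _ _,
          hequiv a (mem_sup_left (mem_sup_left haA)) yz (hY'Y yz.2) d hd] at e1
        have e2 : a * ⁅(yz : G), d⁆ * a⁻¹ = ⁅(yz : G), d⁆ := by
          have h0 : ⁅(yz : G), d⁆ = z * ((⁅(yz : G), d⁆)⁻¹ * z)⁻¹ := by group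
          rw [h0]
          have c1 := comm_cS hzZ (h.hA.1 haA)
          have c2 := (mem_v0.1 (inv_mem hyz')).2 a
          calc a * (z * ((⁅(yz : G), d⁆)⁻¹ * z)⁻¹) * a⁻¹
              = (a * z) * ((⁅(yz : G), d⁆)⁻¹ * z)⁻¹ * a⁻¹ := by group
            _ = z * (a * ((⁅(yz : G), d⁆)⁻¹ * z)⁻¹) * a⁻¹ := by rw [c1]; group
            _ = _ := by rw [c2]; group
        rw [e2, left_eq_mul] at e1
        rw [e1]; exact one_mem _
      have h1 := e.2.2 y'' ⟨hy'', hY'Y (hY''le hy'')⟩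
      have e1 := hmulY yz (hY'Y yz.2) y'' (hY'Y (hY''le hy'')) e e.2.1
      rw [show (yz : G) * y'' = a * (yz : G) * a⁻¹ from mul_inv_cancel_left _ _,
        hequiv a (mem_sup_left (mem_sup_left haA)) yz (hY'Y yz.2) e e.2.1] at e1
      rw [commutatorElement_def, e1, (mem_v0.1 h1).2 w, mul_inv_cancel_right]
      exact h1
    have hker : θ.ker.map (C' Y'').subtype ≤ C' Y' := by
      rintro _ ⟨e, he, rfl⟩
      refine ⟨e.2.1, fun y hy => ?_⟩
      let K' : Subgroup G :=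
        { carrier := {y | y ∈ Y' ∧ ⁅y, (e : G)⁆ ∈ v0 p G}
          one_mem' := ⟨one_mem _, by simp⟩
          mul_mem' := fun {a b} ha hb => ⟨mul_mem ha.1 hb.1, by
            rw [hmulY a (hY'Y ha.1) b (hY'Y hb.1) e e.2.1]; exact mul_mem ha.2 hb.2⟩
          inv_mem' := fun {a} ha => ⟨inv_mem ha.1, by
            have e' := hmulY a (hY'Y ha.1) a⁻¹ (hY'Y (inv_mem ha.1)) e e.2.1
            rw [mul_inv_cancel, commutatorElement_one_left] at e'
            rw [eq_inv_of_mul_eq_one_right e'.symm]; exact inv_mem ha.2⟩ }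
      set Im' := ((K'.subgroupOf Y').map ψ).comap (QuotientGroup.mk' (v0 p G))
      have hle' : Im' ≤ Im := comap_mono (map_le_range _ _)
      rcases h.irreducible (N := Im')
          (fun x hx => by
            rw [mem_comap, show QuotientGroup.mk' (v0 p G) x = 1 from (QuotientGroup.eq_one_iff x).2 hx]
            exact one_mem _)
          (hle'.trans hImV) (by
            intro x hx w hw
            obtain ⟨k, hk, hk'⟩ := hw
            have hk1 : (k : G) ∈ Y' ∧ ⁅(k : G), (e : G)⁆ ∈ v0 p G := hk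
            refine ⟨⟨x * k * x⁻¹, (mem_normalizer_iff.1 (hY'n hx) _).1 k.2⟩, ⟨?_, ?_⟩, ?_⟩
            · exact (mem_normalizer_iff.1 (hY'n hx) _).1 k.2
            · show ⁅x * (k : G) * x⁻¹, (e : G)⁆ ∈ v0 p G
              rw [hequiv x (mem_sup_left hx) k (hY'Y k.2) e e.2.1]
              exact v0_normal.conj_mem _ hk1.2 x
            · show ((⁅x * (k : G) * x⁻¹, d⁆ : G) : G ⧸ v0 p G) = QuotientGroup.mk' _ (x * w * x⁻¹)
              rw [hequiv x (mem_sup_left hx) k (hY'Y k.2) d hd, map_mul, map_mul, ← hk']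
              rfl) with h2 | h2
      · exfalso
        exact hz0 (h2.le ⟨yz, ⟨yz.2, (QuotientGroup.eq_one_iff _).1 he⟩, hyz⟩)
      · have hy' : (⁅y, d⁆ : G) ∈ Im' := h2.ge (hcv y hy.2 d hd)
        obtain ⟨k, hk, hk'⟩ := hy'
        have hk1 : (k : G) ∈ Y' ∧ ⁅(k : G), (e : G)⁆ ∈ v0 p G := hk
        have hy0 : (k : G)⁻¹ * y ∈ Y'' := by
          refine hmemY''.2 ⟨mul_mem (inv_mem k.2) hy.1, ?_⟩
          have e' := hmulY k (hY'Y k.2) ((k : G)⁻¹ * y) (mul_mem (inv_mem (hY'Y k.2)) hy.2) d hd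
          rw [mul_inv_cancel_left] at e'
          have := QuotientGroup.eq.1 hk'
          rwa [e', inv_mul_cancel_left] at this
        rw [show y = k * ((k : G)⁻¹ * y) by group]
        have h3 := e.2.2 _ ⟨hy0, Y.mul_mem (Y.inv_mem (hY'Y k.2)) hy.2⟩
        exact hmulY k (hY'Y k.2) _ (mul_mem (inv_mem (hY'Y k.2)) hy.2) e e.2.1 ▸ mul_mem hk1.2 h3
    have hidx : (C' Y').relIndex (C' Y'') ≤ q := by
      refine (Nat.le_of_dvd (PushingUpCL.relIndex_pos' _ _) (relIndex_dvd_of_le_left _ hker)).trans ?_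
      have e0 : (θ.ker.map (C' Y'').subtype).subgroupOf (C' Y'') = θ.ker :=
        comap_map_eq_self_of_injective (C' Y'').subtype_injective _
      rw [show (θ.ker.map (C' Y'').subtype).relIndex (C' Y'') =
        ((θ.ker.map (C' Y'').subtype).subgroupOf (C' Y'')).index from rfl, e0, index_ker]
      exact (Subgroup.card_le_of_le hrange).trans (((card_map_mk _ _).trans hZi).le)
    have hC : (C' Y').relIndex DH = (C' Y').relIndex (C' Y'') * (C' Y'').relIndex DH := by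
      rw [relIndex_mul_relIndex]
      · exact fun e he => ⟨he.1, fun y hy => he.2 y ⟨hY''le hy.1, hy.2⟩⟩
      · exact hC''DH
    rw [hC, ← relIndex_mul_relIndex H Y'' Y' hHY'' hY''le, hrk]
    calc _ = (C' Y').relIndex (C' Y'') * (C' Y').relIndex (C' Y'') *
          ((C' Y'').relIndex DH * (C' Y'').relIndex DH) := by ring
      _ ≤ q * q * H.relIndex Y'' := Nat.mul_le_mul (Nat.mul_le_mul hidx hidx) ih'
      _ = H.relIndex Y'' * (q * q) := by ring
      _ ≤ _ := Nat.mul_le_mul_left _ h.base.fix_spec.2.2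
  -- the annihilator modulo `V₀` is the centraliser
  have hCC : C' Y ≤ DH ⊓ centralizer (Y : Set G) := by
    intro d hd
    refine ⟨hd.1, fun y hy => ?_⟩
    have : Y ≤ centralizer ({d} : Set G) := by
      rw [← hYK]
      refine (closure_le _).2 ?_
      rintro x (hx | ⟨w, hw, l, hl, rfl⟩)
      · exact mem_centralizer_singleton_iff.2 (hd.1.2 x hx)
      · refine mem_centralizer_singleton_iff.2 (commutatorElement_eq_one_iff_mul_comm.1 ?_)
        have h0 := hd.2 w ⟨hw, hw⟩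
        have hlw : l * w * l⁻¹ ∈ Y := (mem_normalizer_iff.1 (hYn hl.1) w).1 hw
        rw [show ⁅l, w⁆ = (l * w * l⁻¹) * w⁻¹ from rfl, hmulY _ hlw _ (inv_mem hw) d hd.1,
          hequiv l hl.1 w hw d hd.1, (mem_v0.1 h0).2 l, mul_inv_cancel_right,
          ← hmulY w hw _ (inv_mem hw) d hd.1, mul_inv_cancel, commutatorElement_one_left]
    exact mem_centralizer_singleton_iff.1 (this hy)
  have hle := claim Y hHY le_rfl (le_sup_left.trans hYn)
  -- the bound
  have hbnd : H.relIndex Y ≤ (DH ⊓ centralizer (Y : Set G)).relIndex DH := by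
    set CY := DH ⊓ centralizer (Y : Set G)
    have hV0CY : v0 p G ≤ CY := fun x hx =>
      ⟨((h.dH_inf hHQ).ge hx).1, fun r _ => (mem_v0.1 hx).2 r⟩
    have hV0DH : v0 p G ≤ DH := fun x hx => ((h.dH_inf hHQ).ge hx).1
    have hVcY : CY ⊔ vG p G ≤ cS S Y := sup_le
      (fun x hx => ⟨h.base.hQS (h.bb_le (mem_sup_left hx.1.1.1)), hx.2⟩)
      fun v hv => ⟨h.base.hVS hv, centralizer_le (SetLike.coe_subset_coe.2 hYQ) hv.2.1⟩
    have hcard : ∀ X : Subgroup G, X ⊓ vG p G = v0 p G →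
        Nat.card ↥(X ⊔ vG p G) = Nat.card ↥(vG p G) * (v0 p G).relIndex X := fun X hX => by
      rw [← PushingUpCL.card_mul_relIndex (le_sup_right : vG p G ≤ X ⊔ vG p G), relIndex_sup_right,
        ← inf_relIndex_left, hX]
    have h1 := h.base.res.bound Y (hYQ.trans h.base.hQS)
    rw [← hH.2, hZH, hcard _ (h.dH_inf hHQ), ← PushingUpCL.card_mul_relIndex hHY] at h1
    have h2 := Subgroup.card_le_of_le hVcY
    rw [hcard CY (le_antisymm (fun x hx => (h.dH_inf hHQ).le ⟨hx.1.1, hx.2⟩)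
      fun x hx => ⟨hV0CY hx, (mem_v0.1 hx).1⟩)] at h2
    have h3 := (Nat.mul_le_mul_left _ h2).trans h1
    rw [← relIndex_mul_relIndex (v0 p G) CY DH hV0CY inf_le_left] at h3
    refine Nat.le_of_mul_le_mul_left ?_ (Nat.mul_pos (Nat.mul_pos (Nat.card_pos (α := ↥H))
      (Nat.card_pos (α := ↥(vG p G)))) (PushingUpCL.relIndex_pos' (v0 p G) CY))
    calc _ = Nat.card H * H.relIndex Y * (Nat.card ↥(vG p G) * (v0 p G).relIndex CY) := by ring
      _ ≤ _ := h3
      _ = _ := by ring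
  have h4 : (DH ⊓ centralizer (Y : Set G)).relIndex DH ≤ (C' Y).relIndex DH :=
    Nat.le_of_dvd (PushingUpCL.relIndex_pos' _ _) (relIndex_dvd_of_le_left _ hCC)
  have h5 : H.relIndex Y = 1 := by
    have hpos : 0 < (C' Y).relIndex DH := PushingUpCL.relIndex_pos' _ _
    have hc1 : (C' Y).relIndex DH ≤ 1 :=
      Nat.le_of_mul_le_mul_left (hle.trans (hbnd.trans (h4.trans (mul_one _).ge))) hpos
    have := PushingUpCL.relIndex_pos' H Y
    omega
  exact hYnt fun y hy l hl => relIndex_eq_one.1 h5 (hcY y hy l hl.1)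

/-- The `p`-residual of `G` lies in `⟨A, A^g⟩M`. -/
theorem pResidual_le : Cfsg.pResidual p G ≤ ee A g ⊔ mm p A g := by
  classical
  set EM := ee A g ⊔ mm p A g with hEMd
  set L1 := res p EM with hL1
  set Q := Cfsg.pCore p G
  obtain ⟨H, ⟨hH, hMH, hHQ, hHn⟩, hmax⟩ := Set.Finite.exists_maximal
    (Set.toFinite {H : Subgroup G | Mem S f H ∧ mm p A g ≤ H ∧ H ≤ Q ∧ H ≤ normalizer (L1 : Set G)})
    ⟨_, h.M_mem, le_rfl, h.M_le, (le_sup_right.trans (le_normalizer (H := EM))).trans (normalizer_le_res EM)⟩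
  have hHeq : H = Q := by
    by_contra hne
    obtain ⟨N1, hcov, hN1⟩ := exists_cover hH h.base.Q_mem (lt_of_le_of_ne hHQ hne)
    have htriv := h.cover_trivial hcov hMH hN1
    have hN1n : N1 ≤ normalizer (L1 : Set G) := by
      intro n hn
      refine mem_normalizer_fintype fun x hx => ?_
      induction hx using closure_induction with
      | mem x hx =>
        have h1 := htriv n hn x hx
        refine coprime_mem (h.base.pgroup (hHQ.trans h.base.hQS)) hHn ?_ ?_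
        · have e1 : n * x * n⁻¹ = ⁅x, n⁆⁻¹ * x := by
            simp only [commutatorElement_def]; group
          rw [e1]
          exact mul_mem (mem_sup_left (inv_mem h1)) (mem_sup_right (subset_closure hx))
        · rw [show orderOf (n * x * n⁻¹) = orderOf x from orderOf_injective (MulAut.conj n).toMonoidHom
            (MulAut.conj n).injective x]
          exact hx.2
      | one => simp
      | mul a b _ _ ha hb => simpa [mul_assoc] using mul_mem ha hb
      | inv a _ ha => simpa [mul_assoc] using inv_mem ha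
    exact hcov.2.2.1.not_ge (hmax ⟨hcov.2.1, hMH.trans hcov.2.2.1.le, hN1, hN1n⟩ hcov.2.2.1.le)
  subst hHeq
  haveI : L1.Normal := by
    rw [← normalizer_eq_top_iff, eq_top_iff, ← h.E_sup_Q]
    exact sup_le (((le_sup_left : ee A g ≤ EM).trans le_normalizer).trans (normalizer_le_res EM)) hHn
  refine (Transfer.NormalPComplement.pResidual_le (N := L1) ?_).trans (res_le EM)
  have hsurj : ∀ x : G, x ∈ EM ⊔ Q := fun x =>
    (sup_le_sup_right le_sup_left Q : ee A g ⊔ Q ≤ EM ⊔ Q) (h.E_sup_Q.ge (mem_top x))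
  set π := QuotientGroup.mk' L1
  have h1 : IsPGroup p (EM.map π) := by
    rintro ⟨_, e, he, rfl⟩
    obtain ⟨k, hk⟩ := pow_mem_res (p := p) he
    exact ⟨k, Subtype.ext (by
      show π e ^ p ^ k = 1
      rw [← map_pow]; exact (QuotientGroup.eq_one_iff _).2 hk)⟩
  have h2 : IsPGroup p (Q.map π) := (h.base.pgroup h.base.hQS).map π
  haveI : (Q.map π).Normal := Normal.map inferInstance π (QuotientGroup.mk'_surjective L1)
  have h3 := h1.to_sup_of_normal_right h2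
  intro x
  obtain ⟨w, rfl⟩ := QuotientGroup.mk'_surjective L1 x
  have hw : π w ∈ EM.map π ⊔ Q.map π := by
    rw [← Subgroup.map_sup]; exact mem_map_of_mem π (hsurj w)
  obtain ⟨k, hk⟩ := h3 ⟨π w, hw⟩
  exact ⟨k, congrArg Subtype.val hk⟩

end Frame

end Cfsg.Agent.GenA.GN
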