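import Cfsg.Agent.GenA.GN.QuadBig
import Cfsg.Agent.Lib.CharP.Basic

/-!
The characteristic subgroup built from the Frattini subgroup lies in the kernel.
-/

set_option autoImplicit false
set_option linter.unusedSectionVars false
set_option linter.style.haveILetI false

namespace Cfsg.Agent.GenA.GN

open Subgroup Cfsg.Agent.Classical.GL2 Cfsg.Agent.CharP Cfsg.Agent.CharP.PushOne
open scoped MatrixGroups commutatorElement Pointwise

/-- `[Φ, X] Φ(Φ)`, `[Φ, X, X] Φ(Φ)`, `[Φ, X] ℧¹`, for `p = 2`, `p = 3`, `p > 3`. -/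
def s0Sub (p : ℕ) (X : Type*) [Group X] : Subgroup X :=
  if p = 2 then ⁅frattini X, (⊤ : Subgroup X)⁆ ⊔ (frattini ↥(frattini X)).map (frattini X).subtype
  else if p = 3 then
    ⁅⁅frattini X, (⊤ : Subgroup X)⁆, (⊤ : Subgroup X)⁆ ⊔ (frattini ↥(frattini X)).map (frattini X).subtype
  else ⁅frattini X, (⊤ : Subgroup X)⁆ ⊔ Cfsg.powerClosure p 1 (⊤ : Subgroup X)

/-- A power of a product of two elements whose commutator commutes with both. -/
theorem mul_pow_class_two {H : Type*} [Group H] {a b : H} (ha : Commute ⁅b, a⁆ a) (hb : Commute ⁅b, a⁆ b)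
    (n : ℕ) : (a * b) ^ n = a ^ n * b ^ n * ⁅b, a⁆ ^ n.choose 2 := by
  set c := ⁅b, a⁆ with hc
  have key : ∀ m : ℕ, b ^ m * a = a * b ^ m * c ^ m := by
    intro m
    induction m with
    | zero => simp
    | succ m ih =>
      calc b ^ (m + 1) * a = b ^ m * (b * a) := by rw [pow_succ, mul_assoc]
        _ = b ^ m * (a * (b * c)) := by
          congr 1
          rw [show b * a = c * (a * b) by rw [hc, commutatorElement_def]; group, ← mul_assoc a b c,
            (ha.mul_right hb).eq]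
        _ = (b ^ m * a) * (b * c) := by group
        _ = a * b ^ m * (c ^ m * b) * c := by rw [ih]; group
        _ = a * b ^ m * (b * c ^ m) * c := by rw [(hb.pow_left m).eq]
        _ = _ := by rw [pow_succ, pow_succ]; group
  induction n with
  | zero => simp
  | succ n ih =>
    have hca : Commute (c ^ n.choose 2) a := ha.pow_left _
    have hcb : Commute (c ^ n) b := hb.pow_left _
    have hcb2 : Commute (c ^ n.choose 2) b := hb.pow_left _
    calc (a * b) ^ (n + 1) = a ^ n * b ^ n * (c ^ n.choose 2 * (a * b)) := by rw [pow_succ, ih]; group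
      _ = a ^ n * b ^ n * (a * b * c ^ n.choose 2) := by rw [(hca.mul_right hcb2).eq]
      _ = a ^ n * (b ^ n * a) * b * c ^ n.choose 2 := by group
      _ = a ^ n * a * b ^ n * (c ^ n * b) * c ^ n.choose 2 := by rw [key n]; group
      _ = a ^ n * a * (b ^ n * b) * (c ^ n * c ^ n.choose 2) := by rw [hcb.eq]; group
      _ = _ := by
        rw [← pow_succ, ← pow_succ, ← pow_add,
          show (n + 1).choose 2 = n + n.choose 2 by rw [Nat.choose_succ_succ, Nat.choose_one_right]]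

variable {G : Type*} [Group G] [Finite G] {p : ℕ} [hp : Fact p.Prime]
variable {F : Type} [Field F] [Fintype F] {S : Subgroup G} {φ : G →* PSL(2, F)} {f : ℕ}

namespace Frame2

variable {A : Subgroup G} {g : G} (h : Frame2 p F S φ f A g)
include h

theorem split_S {s : G} (hs : s ∈ S) :
    ∃ a ∈ A, a ^ p = 1 ∧ ∃ x ∈ Cfsg.pCore p G, s = a * x := by
  obtain ⟨a, ha, hap, hq⟩ := (h.base.opt_spec h.opt h.out).2 s hs
  exact ⟨a, ha, hap, _, hq, (mul_inv_cancel_left _ _).symm⟩

theorem conj_bb' {a : G} (ha : a ∈ A) {W : Subgroup G} (hW : ∀ b ∈ W, a * b * a⁻¹ ∈ W ⊔ tt p G) :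
    ∀ b ∈ W ⊔ tt p G, a * b * a⁻¹ ∈ W ⊔ tt p G := by
  intro b hb
  obtain ⟨w, hw, t, ht, rfl⟩ := mem_sup_normal hb
  rw [show a * (w * t) * a⁻¹ = (a * w * a⁻¹) * (a * t * a⁻¹) by group]
  exact mul_mem (hW w hw) (mem_sup_right ((inferInstance : (tt p G).Normal).conj_mem t ht a))

/-- A subgroup between the kernel and the core holding the commutators holds the Frattini subgroup. -/
theorem phi_le (hsep : Sep p S f) {W : Subgroup G} (hWQ : W ≤ Cfsg.pCore p G)
    (hWA : ∀ a ∈ A, ∀ b ∈ W, a * b * a⁻¹ ∈ W ⊔ tt p G)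
    (hcomm : ∀ a ∈ A, a ^ p = 1 → ∀ x ∈ Cfsg.pCore p G, ⁅a, x⁆ ∈ W ⊔ tt p G) :
    ∀ s ∈ frattini ↥S, (s : G) ∈ W ⊔ tt p G := by
  set N := W ⊔ tt p G
  have hNQ : N ≤ Cfsg.pCore p G := sup_le hWQ inf_le_left
  have hSn : S ≤ normalizer (N : Set G) := fun s hs => mem_normalizer_fintype fun b hb => by
    obtain ⟨a, ha, -, x, hx, rfl⟩ := h.split_S hs
    rw [show a * x * b * (a * x)⁻¹ = a * (⁅x, b⁆ * b) * a⁻¹ by simp only [commutatorElement_def]; group]
    exact h.conj_bb' ha (hWA a ha) _ (mul_mem (mem_sup_right (h.comm_QQ hsep hx (hNQ hb))) hb)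
  let q : ↥S →* ↥(normalizer (N : Set G)) ⧸ N.subgroupOf (normalizer (N : Set G)) :=
    (QuotientGroup.mk' _).comp (Subgroup.inclusion hSn)
  have hq1 : ∀ s : S, q s = 1 ↔ (s : G) ∈ N := fun s => (QuotientGroup.eq_one_iff _).trans mem_subgroupOf
  have hqc : ∀ s t : S, ⁅(s : G), (t : G)⁆ ∈ N → Commute (q s) (q t) := fun s t hst => by
    rw [← commutatorElement_eq_one_iff_commute, ← map_commutatorElement, hq1]
    exact hst
  have hsplit : ∀ s : S, ∃ a x : S, (a : G) ∈ A ∧ (a : G) ^ p = 1 ∧ (x : G) ∈ Cfsg.pCore p G ∧ s = a * x := by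
    rintro ⟨s, hs⟩
    obtain ⟨a, ha, hap, x, hx, rfl⟩ := h.split_S hs
    exact ⟨⟨a, h.hA.1 ha⟩, ⟨x, h.base.hQS hx⟩, ha, hap, hx, rfl⟩
  have hAA : ∀ a b : S, (a : G) ∈ A → (b : G) ∈ A → Commute (q a) (q b) := fun a b ha hb =>
    hqc a b (by rw [commutatorElement_eq_one_iff_mul_comm.2 (h.hA.2.1 _ ha _ hb)]; exact one_mem _)
  have hAQ : ∀ a x : S, (a : G) ∈ A → (a : G) ^ p = 1 → (x : G) ∈ Cfsg.pCore p G → Commute (q a) (q x) :=
    fun a x ha hap hx => hqc a x (hcomm _ ha hap _ hx)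
  have hQQ : ∀ x y : S, (x : G) ∈ Cfsg.pCore p G → (y : G) ∈ Cfsg.pCore p G → Commute (q x) (q y) :=
    fun x y hx hy => hqc x y (mem_sup_right (h.comm_QQ hsep hx hy))
  intro s hs
  refine (hq1 s).1 (CharP.frattini_le_ker (p := p) q (fun s t => ?_) (fun s => ?_) hs)
  · obtain ⟨a, x, ha, hap, hx, rfl⟩ := hsplit s
    obtain ⟨b, y, hb, hbp, hy, rfl⟩ := hsplit t
    rw [map_mul, map_mul]
    exact ((hAA a b ha hb).mul_right (hAQ a y ha hap hy)).mul_left
      ((hAQ b x hb hbp hx).symm.mul_right (hQQ x y hx hy))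
  · obtain ⟨a, x, ha, hap, hx, rfl⟩ := hsplit s
    rw [map_mul, (hAQ a x ha hap hx).mul_pow, ← map_pow, ← map_pow, (hq1 _).2, (hq1 _).2, one_mul]
    · rw [Subgroup.coe_pow]; exact mem_sup_right (h.pow_Q hsep hx)
    · rw [Subgroup.coe_pow, hap]; exact one_mem _

theorem phi_le_bb (hsep : Sep p S f) : ∀ s ∈ frattini ↥S, (s : G) ∈ bb p A ⊔ tt p G :=
  h.phi_le hsep h.bb_le (fun _ ha _ hb => mem_sup_left (h.conj_bb hb ha))
    fun _ ha _ _ hx => h.comm_bb hsep hx ha

theorem phi_le_uu (hsep : Sep p S f) (hp3 : p ≠ 3) : ∀ s ∈ frattini ↥S, (s : G) ∈ uu p A ⊔ tt p G :=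
  h.phi_le hsep inf_le_right
    (fun a ha b hb => mem_sup_left (by rwa [h.hA.2.1 a ha b hb.1, mul_inv_cancel_right]))
    fun a ha hap x hx => by
      by_cases hp2 : p = 2
      · exact h.quad_two hsep hp2 hx ha hap
      · exact h.quad_big hsep (by
          have := hp.out.two_le
          rcases Nat.lt_or_ge p 5 with h5 | h5
          · interval_cases p <;> first | omega | exact absurd hp.out (by decide)
          · exact h5) hx ha hap

theorem frattini_frattini (hsep : Sep p S f) :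
    (frattini ↥(frattini ↥S)).map (frattini ↥S).subtype ≤ (tt p G).subgroupOf S := by
  rintro _ ⟨x, hx, rfl⟩
  have hQ : ∀ y : ↥(frattini ↥S), ((y : S) : G) ∈ Cfsg.pCore p G := fun y =>
    (sup_le h.bb_le inf_le_left : bb p A ⊔ tt p G ≤ Cfsg.pCore p G) (h.phi_le_bb hsep _ y.2)
  set q := ((QuotientGroup.mk' (tt p G)).comp S.subtype).comp (frattini ↥S).subtype
  have h1 : x ∈ q.ker := CharP.frattini_le_ker (p := p) q (fun a b => by
    rw [← commutatorElement_eq_one_iff_commute, ← map_commutatorElement]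
    exact (QuotientGroup.eq_one_iff _).2 (h.comm_QQ hsep (hQ a) (hQ b))) (fun a => by
    rw [← map_pow]
    exact (QuotientGroup.eq_one_iff _).2 (h.pow_Q hsep (hQ a))) hx
  exact mem_subgroupOf.2 ((QuotientGroup.eq_one_iff _).1 h1)

theorem phi_comm (hsep : Sep p S f) (hp3 : p ≠ 3) :
    ⁅frattini ↥S, (⊤ : Subgroup ↥S)⁆ ≤ (tt p G).subgroupOf S := by
  refine commutator_le.2 fun w hw s _ => mem_subgroupOf.2 ?_
  obtain ⟨u, hu, t, ht, e⟩ := mem_sup_normal (h.phi_le_uu hsep hp3 w hw)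
  obtain ⟨a, ha, -, x, hx, e'⟩ := h.split_S s.2
  show ⁅(w : G), (s : G)⁆ ∈ tt p G
  set q := QuotientGroup.mk' (tt p G)
  refine (QuotientGroup.eq_one_iff _).1 (?_ : q _ = 1)
  rw [map_commutatorElement, e, e', map_mul, map_mul, show q t = 1 from (QuotientGroup.eq_one_iff _).2 ht,
    mul_one, commutatorElement_eq_one_iff_commute]
  refine Commute.mul_right ?_ ?_
  · rw [← commutatorElement_eq_one_iff_commute, ← map_commutatorElement,
      commutatorElement_eq_one_iff_mul_comm.2 (h.hA.2.1 u hu.1 a ha), map_one]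
  · rw [← commutatorElement_eq_one_iff_commute, ← map_commutatorElement]
    exact (QuotientGroup.eq_one_iff _).2 (h.comm_QQ hsep hu.2 hx)

theorem phi_comm_comm (hsep : Sep p S f) :
    ⁅⁅frattini ↥S, (⊤ : Subgroup ↥S)⁆, (⊤ : Subgroup ↥S)⁆ ≤ (tt p G).subgroupOf S := by
  set q := QuotientGroup.mk' (tt p G)
  have h1 : ⁅frattini ↥S, (⊤ : Subgroup ↥S)⁆ ≤ (cS S S ⊔ tt p G).subgroupOf S := by
    refine commutator_le.2 fun w hw s _ => mem_subgroupOf.2 ?_
    obtain ⟨b, hb, t, ht, e⟩ := mem_sup_normal (h.phi_le_bb hsep w hw)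
    obtain ⟨a, ha, -, x, hx, e'⟩ := h.split_S s.2
    show ⁅(w : G), (s : G)⁆ ∈ cS S S ⊔ tt p G
    have hz := h.comm_zm hb ha
    have e2 : q ⁅(w : G), (s : G)⁆ = q ⁅b, a⁆ := by
      rw [map_commutatorElement, e, e', map_mul, map_mul, show q t = 1 from (QuotientGroup.eq_one_iff _).2 ht,
        mul_one, show ⁅q b, q a * q x⁆ = ⁅q b, q a⁆ * (q a * ⁅q b, q x⁆ * (q a)⁻¹) by
          simp only [commutatorElement_def]; group,
        ← map_commutatorElement, ← map_commutatorElement,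
        show q ⁅b, x⁆ = 1 from (QuotientGroup.eq_one_iff _).2 (h.comm_QQ hsep (h.bb_le hb) hx), mul_one,
        mul_inv_cancel, mul_one]
    have h2 := QuotientGroup.eq.1 e2.symm
    have := mul_mem_sup hz h2
    rwa [mul_inv_cancel_left] at this
  refine commutator_le.2 fun w hw s _ => mem_subgroupOf.2 ?_
  obtain ⟨z, hz, t, ht, e⟩ := mem_sup_normal (mem_subgroupOf.1 (h1 hw))
  show ⁅(w : G), (s : G)⁆ ∈ tt p G
  refine (QuotientGroup.eq_one_iff _).1 (?_ : q _ = 1)
  rw [map_commutatorElement, e, map_mul, show q t = 1 from (QuotientGroup.eq_one_iff _).2 ht, mul_one,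
    ← map_commutatorElement, commutatorElement_eq_one_iff_mul_comm.2 (comm_cS hz s.2).symm, map_one]

theorem power_le (hsep : Sep p S f) (hp5 : 5 ≤ p) :
    Cfsg.powerClosure p 1 (⊤ : Subgroup ↥S) ≤ (tt p G).subgroupOf S := by
  refine (closure_le _).2 ?_
  rintro _ ⟨s, -, rfl⟩
  refine mem_subgroupOf.2 ?_
  obtain ⟨a, ha, hap, x, hx, e⟩ := h.split_S s.2
  rw [Subgroup.coe_pow, pow_one, e]
  set q := QuotientGroup.mk' (tt p G)
  refine (QuotientGroup.eq_one_iff _).1 (?_ : q _ = 1)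
  obtain ⟨u, hu, t, ht, e1⟩ := mem_sup_normal (h.quad_big hsep hp5 hx ha hap)
  have hc : ⁅q x, q a⁆ = (q u)⁻¹ := by
    rw [← map_commutatorElement, ← commutatorElement_inv, e1, map_inv, map_mul,
      show q t = 1 from (QuotientGroup.eq_one_iff _).2 ht, mul_one]
  have hua : Commute (q u) (q a) := (show Commute u a from h.hA.2.1 u hu.1 a ha).map q
  have hux : Commute (q u) (q x) := by
    rw [← commutatorElement_eq_one_iff_commute, ← map_commutatorElement]
    exact (QuotientGroup.eq_one_iff _).2 (h.comm_QQ hsep hu.2 hx)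
  rw [map_pow, map_mul, mul_pow_class_two (hc ▸ hua.inv_left) (hc ▸ hux.inv_left), ← map_pow, hap, map_one,
    one_mul, ← map_pow, show q (x ^ p) = 1 from (QuotientGroup.eq_one_iff _).2 (h.pow_Q hsep hx), one_mul, hc,
    inv_pow, inv_eq_one]
  obtain ⟨c, hc'⟩ : p ∣ p.choose 2 := hp.out.dvd_choose_self (by norm_num) (by omega)
  rw [hc', pow_mul, ← map_pow, show q (u ^ p) = 1 from (QuotientGroup.eq_one_iff _).2 (h.pow_Q hsep hu.2),
    one_pow]

/-- The characteristic subgroup lies in the kernel. -/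
theorem s0_le (hsep : Sep p S f) : s0Sub p ↥S ≤ (tt p G).subgroupOf S := by
  rw [s0Sub]
  split_ifs with h2 h3
  · exact sup_le (h.phi_comm hsep (by omega)) (h.frattini_frattini hsep)
  · exact sup_le (h.phi_comm_comm hsep) (h.frattini_frattini hsep)
  · refine sup_le (h.phi_comm hsep h3) (h.power_le hsep ?_)
    have := hp.out.two_le
    rcases Nat.lt_or_ge p 5 with h5 | h5
    · interval_cases p <;> first | omega | exact absurd hp.out (by decide)
    · exact h5

end Frame2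

end Cfsg.Agent.GenA.GN
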