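import Cfsg.Agent.GenA.GN.Claim

/-!
When every nontrivial central element is missed by some kernel, the members generate the core and
`[M, O_p(G)]`, the derived subgroup and the `p`-th powers of the core lie in the kernel.
-/

set_option autoImplicit false
set_option linter.unusedSectionVars false
set_option linter.style.haveILetI false

namespace Cfsg.Agent.GenA.GN

open Subgroup Cfsg.Agent.Classical.GL2 Cfsg.Agent.CharP Cfsg.Agent.CharP.PushOne
open scoped MatrixGroups commutatorElement Pointwise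

variable {G : Type*} [Group G] [Finite G] {p : ℕ} [hp : Fact p.Prime]

/-- Every nontrivial central element is missed by some kernel. -/
def Sep (p : ℕ) (S : Subgroup G) (f : ℕ) : Prop :=
  ∀ z ∈ cS S S, z ≠ 1 → ∃ T Qs Vs, Ker p S f T Qs Vs ∧ z ∉ T

/-- A product to a power, modulo a normalised subgroup containing the commutator. -/
theorem mul_pow_mem {D : Subgroup G} {a b : G} (ha : a ∈ normalizer (D : Set G))
    (hb : b ∈ normalizer (D : Set G)) (hc : ⁅a, b⁆ ∈ D) (n : ℕ) : (a ^ n * b ^ n)⁻¹ * (a * b) ^ n ∈ D := by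
  set W := normalizer (D : Set G)
  let aW : W := ⟨a, ha⟩
  let bW : W := ⟨b, hb⟩
  set q := QuotientGroup.mk' (D.subgroupOf W)
  have hcm : Commute (q aW) (q bW) := by
    rw [← commutatorElement_eq_one_iff_commute, ← map_commutatorElement]
    exact (QuotientGroup.eq_one_iff _).2 (mem_subgroupOf.2 hc)
  have h1 : q ((aW ^ n * bW ^ n)⁻¹ * (aW * bW) ^ n) = 1 := by
    rw [map_mul, map_inv, map_mul, map_pow, map_pow, map_pow, map_mul, hcm.mul_pow, inv_mul_cancel]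
  exact mem_subgroupOf.1 ((QuotientGroup.eq_one_iff _).1 h1)

/-- A supremum of conjugates indexed by a set closed under translation is invariant. -/
theorem cj_iSup_le {ι : Type*} (X : ι → Subgroup G) (e : G) (σ : ι → ι) (h : ∀ i, cj e (X i) = X (σ i)) :
    cj e (⨆ i, X i) ≤ ⨆ i, X i := by
  unfold cj at h ⊢
  rw [Subgroup.map_iSup]
  exact iSup_le fun i => (h i).le.trans (le_iSup X (σ i))

variable {F : Type} [Field F] [Fintype F] {S : Subgroup G} {φ : G →* PSL(2, F)} {f : ℕ}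

/-- A nontrivial commutator set escapes some kernel. -/
theorem Base.exists_ker_not (h : Base p F S φ f) (hsep : Sep p S f) {X Y : Subgroup G} (hX : X ≤ S)
    (hY : Y ≤ S) (hne : ¬ ∀ x ∈ X, ∀ y ∈ Y, ⁅x, y⁆ = 1) :
    ∃ T Qs Vs, Ker p S f T Qs Vs ∧ ∃ x ∈ X, ∃ y ∈ Y, ⁅x, y⁆ ∉ T := by
  by_contra hno
  push Not at hno hne
  obtain ⟨x0, hx0, y0, hy0, hxy⟩ := hne
  set N := closure {c | ∃ s ∈ S, ∃ x ∈ X, ∃ y ∈ Y, s * ⁅x, y⁆ * s⁻¹ = c}
  have hNS : N ≤ S := (closure_le _).2 (by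
    rintro _ ⟨s, hs, x, hx, y, hy, rfl⟩
    rw [commutatorElement_def]
    exact S.mul_mem (S.mul_mem hs (S.mul_mem (S.mul_mem (S.mul_mem (hX hx) (hY hy)) (S.inv_mem (hX hx)))
      (S.inv_mem (hY hy)))) (S.inv_mem hs))
  have hNn : S ≤ normalizer (N : Set G) := by
    intro t ht
    refine mem_normalizer_fintype fun c hc => ?_
    induction hc using closure_induction with
    | mem c hc =>
      obtain ⟨s, hs, x, hx, y, hy, rfl⟩ := hc
      exact subset_closure ⟨t * s, mul_mem ht hs, x, hx, y, hy, by group⟩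
    | one => simp
    | mul a b _ _ ha hb => simpa [mul_assoc] using mul_mem ha hb
    | inv a _ ha => simpa [mul_assoc] using inv_mem ha
  obtain ⟨z, hz, hz1, hzS, -⟩ := exists_fixed (p := p) (R := S) (N := ⊥) (K := N)
    (h.pgroup (sup_le le_rfl hNS)) hNn (by rw [normalizer_eq_top]; exact le_top)
    (by rw [normalizer_eq_top]; exact le_top) bot_le
    (fun hle => hxy (mem_bot.1 (hle (subset_closure ⟨1, one_mem _, x0, hx0, y0, hy0, by group⟩))))
  have hzZ : z ∈ cS S S := mem_cS.2 ⟨hNS hz, fun r hr =>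
    (commutatorElement_eq_one_iff_mul_comm.1 (mem_bot.1 (hzS r hr))).symm⟩
  obtain ⟨T, Qs, Vs, hk, hzT⟩ := hsep z hzZ (fun e => hz1 (mem_bot.2 e))
  refine hzT ((closure_le _).2 ?_ hz)
  rintro _ ⟨s, hs, x, hx, y, hy, rfl⟩
  exact (mem_normalizer_iff.1 (hk.norm hs) _).1 (hno T Qs Vs hk x hx y hy)

namespace Frame2

variable {A : Subgroup G} {g : G} (h : Frame2 p F S φ f A g)
include h

theorem E_cj {X : Subgroup G} (hX : X ≤ mm p A g) {e : G} (he : e ∈ ee A g) : cj e X ≤ mm p A g := by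
  rintro _ ⟨x, hx, rfl⟩
  exact (mem_normalizer_iff.1 (h.norm_M he) x).1 (hX hx)

theorem mem_cj_M {X : Subgroup G} (hX : Mem S f X) (h1 : zm p A g ≤ X) (h2 : X ≤ mm p A g) (e : G) :
    Mem S f (cj e X) :=
  (h.base.mem_cj_core hX (h2.trans h.M_le) (((le_inf le_sup_right
    ((cj_normal g (vG p G)).ge.trans (cj_mono le_sup_right)) : vG p G ≤ zm p A g)).trans h1) e).1

theorem cj_zm_E {e : G} (he : e ∈ ee A g) : cj e (zm p A g) = zm p A g := by
  refine Subgroup.eq_of_le_of_card_ge ?_ (card_cj e _).ge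
  rintro _ ⟨x, hx, rfl⟩
  exact (mem_normalizer_iff.1 (h.norm_zm (mem_sup_left he)) x).1 hx

/-- The data at a cover over the centre in the exchanged member. -/
theorem atom {P : Subgroup G} (hc : Cover S f (zm p A g) P) (hP : P ≤ bb p A) :
    P ⊓ cj g P = zm p A g ∧ Cover S f P (P ⊔ cj g P) ∧ P ≤ mm p A g ∧ cj g P ≤ mm p A g := by
  obtain ⟨hzm, hPm, hlt, hmax⟩ := id hc
  have hPM : P ≤ mm p A g := hP.trans le_sup_left
  have hPM' : cj g P ≤ mm p A g := h.E_cj hPM h.g_mem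
  have hinf : P ⊓ cj g P = zm p A g :=
    le_antisymm (inf_le_inf hP (cj_mono hP)) (le_inf hlt.le (h.cj_zm.ge.trans (cj_mono hlt.le)))
  have hP'm := h.mem_cj_M hPm hlt.le hPM g
  refine ⟨hinf, ⟨hPm, hPm.sup h.hb hP'm, lt_of_le_of_ne le_sup_left fun e => ?_, fun X hX h1 h2 => ?_⟩,
    hPM, hPM'⟩
  · have e1 : P ⊓ cj g P = cj g P := inf_eq_right.2 (le_sup_right.trans e.ge)
    rw [hinf] at e1
    refine hlt.ne (Subgroup.eq_of_le_of_card_ge hlt.le ?_)
    rw [e1, card_cj]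
  · have h3 : X = P ⊔ X ⊓ cj g P := by
      rw [← hPm.modular h.hb hP'm h1, inf_eq_left.2 h2]
    have hY := hX.inf h.hb hP'm
    have hzY : zm p A g ≤ X ⊓ cj g P := le_inf (hlt.le.trans h1) (hinf.ge.trans inf_le_right)
    rcases hmax _ (h.mem_cj_M hY hzY (inf_le_right.trans hPM') g⁻¹)
      (by
        refine le_trans ?_ (cj_mono hzY)
        conv_rhs => rw [← h.cj_zm, cj_cj, inv_mul_cancel, cj_one])
      ((cj_mono inf_le_right).trans (by rw [cj_cj, inv_mul_cancel, cj_one])) with e | e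
    · left
      have e' := congrArg (cj g) e
      rw [cj_cj, mul_inv_cancel, cj_one, h.cj_zm] at e'
      rw [h3, e', sup_eq_left.2 hlt.le]
    · right
      have e' := congrArg (cj g) e
      rw [cj_cj, mul_inv_cancel, cj_one] at e'
      rw [h3, e']

/-- The common escaping commutator of an atom and its conjugate. -/
theorem escape (hsep : Sep p S f) {P : Subgroup G} (hc : Cover S f (zm p A g) P) (hP : P ≤ bb p A) :
    ∃ T Qs Vs, Ker p S f T Qs Vs ∧ (P ⊓ Qs ≤ zm p A g ∨ P ≤ zm p A g ⊔ Vs) ∧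
      (∃ a ∈ cS S P, ∃ x ∈ P ⊔ cj g P, ⁅x, a⁆ ∉ T) ∧
      ((P ⊔ cj g P) ⊓ Qs ≤ P ∨ P ⊔ cj g P ≤ P ⊔ Vs) := by
  obtain ⟨hinf, hc2, hPM, hPM'⟩ := h.atom hc hP
  have hne : ¬ ∀ x ∈ P, ∀ y ∈ mm p A g, ⁅x, y⁆ = 1 := fun hall => hc.2.2.1.not_ge fun x hx => by
    rw [← h.cS_M]
    exact mem_cS.2 ⟨hc.2.1.1 hx, fun y hy => (commutatorElement_eq_one_iff_mul_comm.1 (hall x hx y hy)).symm⟩
  obtain ⟨T, Qs, Vs, hk, x, hx, y, hy, hxy⟩ := h.base.exists_ker_not hsep hc.2.1.1 h.M_mem.1 hne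
  have hd := h.derived_le_dd x (hPM hx) y hy
  have hxy' : ⁅g * x * g⁻¹, g * y * g⁻¹⁆ ∉ T := by
    rwa [show ⁅g * x * g⁻¹, g * y * g⁻¹⁆ = g * ⁅x, y⁆ * g⁻¹ by simp only [commutatorElement_def]; group,
      h.dd_fix hd]
  have hsup : cS S P ⊔ cS S (cj g P) = mm p A g := by
    rw [← hc.2.1.cS_inf h.hb (h.mem_cj_M hc.2.1 hc.2.2.1.le hPM g), hinf, h.cS_zm]
  have hy' : g * y * g⁻¹ ∈ cS S P ⊔ cS S (cj g P) :=
    hsup.ge ((mem_normalizer_iff.1 (h.norm_M h.g_mem) y).1 hy)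
  obtain ⟨a, ha, b, hb, e⟩ := (hc.2.1.cS h.hb).1.exists_mul h.hb
    ((h.mem_cj_M hc.2.1 hc.2.2.1.le hPM g).cS h.hb).1 hy'
  have hxa : ⁅g * x * g⁻¹, a⁆ ∉ T := by
    intro ha'
    refine hxy' ?_
    rw [e, show ⁅g * x * g⁻¹, a * b⁆ = ⁅g * x * g⁻¹, a⁆ * (a * ⁅g * x * g⁻¹, b⁆ * a⁻¹) by
        simp only [commutatorElement_def]; group,
      show ⁅g * x * g⁻¹, b⁆ = 1 from commutatorElement_eq_one_iff_mul_comm.2 (comm_cS hb (conj_mem_cj hx)),
      mul_one, mul_inv_cancel, mul_one]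
    exact ha'
  refine ⟨T, Qs, Vs, hk, ?_, ⟨a, ha, g * x * g⁻¹, mem_sup_right (conj_mem_cj hx), hxa⟩, ?_⟩
  · rcases hk.alt _ _ hc with e1 | e1 | e1
    · exact Or.inl e1
    · exact Or.inr e1
    · exact absurd (e1 x hx y (h.cS_zm.ge hy)) hxy
  · rcases hk.alt _ _ hc2 with e1 | e1 | e1
    · exact Or.inl e1
    · exact Or.inr e1
    · exact absurd (e1 _ (mem_sup_right (conj_mem_cj hx)) a ha) hxa

theorem exists_atom {X : Subgroup G} (hX : Mem S f X) (hzX : zm p A g < X) (hXM : X ≤ mm p A g)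
    (hXn : A ≤ normalizer (X : Set G)) : ∃ P, Cover S f (zm p A g) P ∧ P ≤ X ∧ P ≤ bb p A := by
  obtain ⟨x, hx, hxz, hxA, -⟩ := exists_fixed (p := p) (h.base.pgroup (sup_le h.hA.1 hX.1)) hXn
    ((le_sup_left.trans le_sup_left).trans h.norm_zm) ((hXM.trans le_sup_right).trans h.norm_zm)
    hzX.le hzX.not_ge
  have hlt : zm p A g < X ⊓ bb p A := lt_of_le_of_ne (le_inf hzX.le inf_le_left) fun e =>
    hxz (e.ge ⟨hx, h.mem_bb (hXM hx) hxA⟩)
  obtain ⟨P, hP, hle⟩ := exists_cover h.zm_mem (hX.inf h.hb (h.famB.mem h.hb).1) hlt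
  exact ⟨P, hP, hle.trans inf_le_left, hle.trans inf_le_right⟩

/-- No invariant member between the centre and `mm` centralises itself. -/
theorem star (hsep : Sep p S f) {K : Subgroup G} (hK : Mem S f K) (hzK : zm p A g ≤ K) (hKM : K ≤ mm p A g)
    (hab : K ≤ cS S K) (hKn : ee A g ≤ normalizer (K : Set G)) : K = zm p A g := by
  by_contra hne
  obtain ⟨P, hc, hPK, hPB⟩ := h.exists_atom hK (lt_of_le_of_ne hzK (Ne.symm hne)) hKM
    (le_sup_left.trans hKn)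
  obtain ⟨T, Qs, Vs, hk, h1, ⟨a, ha, x, hx, hxa⟩, h2⟩ := h.escape hsep hc hPB
  obtain ⟨-, hc2, -, -⟩ := h.atom hc hPB
  have hP'K : cj g P ≤ K := by
    rintro _ ⟨y, hy, rfl⟩
    exact (mem_normalizer_iff.1 (hKn h.g_mem) y).1 (hPK hy)
  have hR0 : P ⊔ cj g P ≤ cS S (P ⊔ cj g P) :=
    ((sup_le hPK hP'K).trans hab).trans (cS_anti (sup_le hPK hP'K))
  have hc3 := hc2.cS h.hb
  have h3 : cS S P ⊓ Qs ≤ cS S (P ⊔ cj g P) ∨ cS S P ≤ cS S (P ⊔ cj g P) ⊔ Vs := by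
    rcases hk.alt _ _ hc3 with e1 | e1 | e1
    · exact Or.inl e1
    · exact Or.inr e1
    · refine absurd ?_ hxa
      have := inv_mem (e1 a ha x ((hc2.2.1.cS h.hb).2.ge hx))
      rwa [commutatorElement_inv] at this
  have hP2 : P ≤ cS S (P ⊔ cj g P) := le_sup_left.trans hR0
  rcases h1 with t1 | b1 <;> rcases h2 with t2 | b2
  · exact hk.top_unique h.hb hc hc2 le_rfl t1 t2
  · rcases h3 with t3 | b3
    · exact hk.top_unique h.hb hc hc3 hP2 t1 t3
    · exact hk.bottom_unique h.hb hc2 hc3 hR0 b2 b3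
  · rcases h3 with t3 | b3
    · exact hk.top_unique h.hb hc2 hc3 hR0 t2 t3
    · exact hk.bottom_unique h.hb hc hc3 hP2 b1 b3
  · exact hk.bottom_unique h.hb hc hc2 le_rfl b1 b2

theorem M_norm_dd : mm p A g ≤ normalizer (dd p A g : Set G) := le_sup_right.trans h.dd_norm

/-- `mm` has `p`-th powers in the common part. -/
theorem pow_mem_dd (hsep : Sep p S f) {x : G} (hx : x ∈ mm p A g) : x ^ p ∈ dd p A g := by
  let Pw : Subgroup G :=
    { carrier := {x | x ∈ mm p A g ∧ x ^ p ∈ dd p A g}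
      one_mem' := ⟨one_mem _, by simp⟩
      mul_mem' := fun {a b} ha hb => ⟨mul_mem ha.1 hb.1, by
        have h1 := mul_pow_mem (h.M_norm_dd ha.1) (h.M_norm_dd hb.1) (h.derived_le_dd a ha.1 b hb.1) p
        have h2 := (dd p A g).mul_mem ((dd p A g).mul_mem ha.2 hb.2) h1
        rwa [mul_inv_cancel_left] at h2⟩
      inv_mem' := fun {a} ha => ⟨inv_mem ha.1, by rw [inv_pow]; exact inv_mem ha.2⟩ }
  have hzPw : zm p A g ≤ Pw := fun z hz => ⟨h.zm_le_M hz, by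
    obtain ⟨d, hd, v, hv, rfl⟩ := mem_sup_normal (h.zm_eq ▸ hz)
    rw [(show Commute d v from h.base.commV hv hd.1.2).mul_pow, hv.2.2, mul_one]
    exact pow_mem hd p⟩
  have hatom : ∀ P, Cover S f (zm p A g) P → P ≤ bb p A → P ≤ Pw := by
    intro P hc hP x hx
    obtain ⟨T, Qs, Vs, hk, h1, -, h2⟩ := h.escape hsep hc hP
    obtain ⟨-, hc2, hPM, hPM'⟩ := h.atom hc hP
    have hVs : Mem S f Vs := hk.dual ▸ (hk.qmem.cS h.hb).1
    refine ⟨hPM hx, ?_⟩
    rcases h1 with t1 | b1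
    · rcases h2 with t2 | b2
      · exact (hk.top_unique h.hb hc hc2 le_rfl t1 t2).elim
      obtain ⟨u, hu, v, hv, e⟩ := hc.2.1.exists_mul h.hb hVs (b2 (mem_sup_right (conj_mem_cj (g := g) hx)))
      set x' := g * x * g⁻¹
      have hx'M : x' ∈ mm p A g := hPM' (conj_mem_cj hx)
      have hu' : u⁻¹ ∈ mm p A g := inv_mem (hPM hu)
      have h3 := mul_pow_mem (h.M_norm_dd hu') (h.M_norm_dd hx'M) (h.derived_le_dd _ hu' _ hx'M) p
      rw [show u⁻¹ * x' = v by rw [e]; group, hk.vexp v hv, mul_one] at h3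
      have h4 : x' ^ p ∈ uu p A := by
        obtain ⟨u1, hu1, v1, hv1, e1⟩ := mem_sup_normal (hP hu)
        have h5 : u ^ p ∈ uu p A := by
          rw [e1, (show Commute u1 v1 from h.base.commV hv1 hu1.2).mul_pow, hv1.2.2, mul_one]
          exact pow_mem hu1 p
        have h6 : u⁻¹ ^ p * x' ^ p ∈ uu p A := (inv_mem_iff.1 h3).1
        have := (uu p A).mul_mem h5 h6
        rwa [inv_pow, mul_inv_cancel_left] at this
      have h7 : x ^ p ∈ uu p A := by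
        obtain ⟨u1, hu1, v1, hv1, rfl⟩ := mem_sup_normal (hP hx)
        rw [(show Commute u1 v1 from h.base.commV hv1 hu1.2).mul_pow, hv1.2.2, mul_one]
        exact pow_mem hu1 p
      have h8 : x' ^ p ∈ dd p A g := ⟨h4, by
        rw [show x' ^ p = g * x ^ p * g⁻¹ from conj_pow]; exact conj_mem_cj h7⟩
      have h9 : x' ^ p ∈ cj g (dd p A g) := h.cj_dd.ge h8
      rw [mem_cj, show x' ^ p = g * x ^ p * g⁻¹ from conj_pow] at h9
      simpa [mul_assoc] using h9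
    · obtain ⟨z, hz, v, hv, rfl⟩ := h.zm_mem.exists_mul h.hb hVs (b1 hx)
      rw [(show Commute z v from ?_).mul_pow, hk.vexp v hv, mul_one]
      · exact (hzPw hz).2
      · have hvP : v ∈ P := by simpa using mul_mem (inv_mem (hc.2.2.1.le hz)) hx
        exact h.famB.2.1 z hz.1 v (hP hvP)
  set ι := ↥(ee A g) × {P : Subgroup G // P = zm p A g ∨ Cover S f (zm p A g) P ∧ P ≤ bb p A}
  haveI : Nonempty ι := ⟨(1, ⟨_, Or.inl rfl⟩)⟩
  have hP0 : ∀ i : ι, zm p A g ≤ i.2.1 ∧ Mem S f i.2.1 ∧ i.2.1 ≤ Pw := by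
    rintro ⟨e, P, rfl | ⟨hc, hP⟩⟩
    · exact ⟨le_rfl, h.zm_mem, hzPw⟩
    · exact ⟨hc.2.2.1.le, hc.2.1, hatom P hc hP⟩
  have hPwM : Pw ≤ mm p A g := fun x hx => hx.1
  set SP := ⨆ i : ι, cj (i.1 : G) i.2.1
  have hSPm : Mem S f SP := mem_iSup h.hb fun i => h.mem_cj_M (hP0 i).2.1 (hP0 i).1 ((hP0 i).2.2.trans hPwM) _
  have hSPPw : SP ≤ Pw := iSup_le fun i => by
    rintro _ ⟨y, hy, rfl⟩
    refine ⟨(mem_normalizer_iff.1 (h.norm_M i.1.2) y).1 ((hP0 i).2.2 hy).1, ?_⟩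
    show ((i.1 : G) * y * (i.1 : G)⁻¹) ^ p ∈ dd p A g
    rw [conj_pow]
    exact (mem_normalizer_iff.1 (h.dd_norm (mem_sup_left i.1.2)) _).1 ((hP0 i).2.2 hy).2
  have hzSP : zm p A g ≤ SP := le_iSup_of_le ((1, ⟨_, Or.inl rfl⟩) : ι) (cj_one _).ge
  have hSPn : ee A g ≤ normalizer (SP : Set G) := fun e he => mem_normalizer_fintype fun y hy => by
    have hle : cj e SP ≤ SP := cj_iSup_le (fun i : ι => cj (i.1 : G) i.2.1) e
      (fun i => (⟨e, he⟩ * i.1, i.2)) fun i => by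
        simp only [cj_cj, Subgroup.coe_mul]
    exact hle (conj_mem_cj hy)
  have hC := hSPm.cS h.hb
  have hCM : cS S SP ≤ mm p A g := h.cS_zm ▸ cS_anti hzSP
  have hzC : zm p A g ≤ cS S SP := h.cS_M ▸ cS_anti (hSPPw.trans hPwM)
  have hCn : ee A g ≤ normalizer (cS S SP : Set G) := fun e he => mem_normalizer_fintype fun c hc => by
    refine mem_cS.2 ⟨h.M_mem.1 ((mem_normalizer_iff.1 (h.norm_M he) c).1 (hCM hc)), fun r hr => ?_⟩
    have h1 : e⁻¹ * r * e ∈ SP := by simpa using (mem_normalizer_iff.1 (inv_mem (hSPn he)) r).1 hr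
    calc r * (e * c * e⁻¹) = e * ((e⁻¹ * r * e) * c) * e⁻¹ := by group
      _ = e * (c * (e⁻¹ * r * e)) * e⁻¹ := by rw [comm_cS hc h1]
      _ = _ := by group
  suffices hM : mm p A g ≤ SP from (hSPPw (hM hx)).2
  rcases eq_or_lt_of_le hzC with e | e
  · rw [← hC.2, ← e, h.cS_zm]
  exfalso
  obtain ⟨P, hc, hPC, hPB⟩ := h.exists_atom hC.1 e hCM (le_sup_left.trans hCn)
  have hPSP : P ≤ SP := le_iSup_of_le ((1, ⟨P, Or.inr ⟨hc, hPB⟩⟩) : ι) (cj_one _).ge
  have e2 := h.star hsep (hC.1.inf h.hb hSPm) (le_inf hzC hzSP) (inf_le_left.trans hCM)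
    (fun y hy => mem_cS.2 ⟨hC.1.1 hy.1, fun r hr => comm_cS hy.1 hr.2⟩)
    (fun a ha => mem_normalizer_fintype fun y hy =>
      ⟨(mem_normalizer_iff.1 (hCn ha) y).1 hy.1, (mem_normalizer_iff.1 (hSPn ha) y).1 hy.2⟩)
  exact hc.2.2.1.not_ge ((le_inf hPC hPSP).trans e2.le)

end Frame2

/-- The members inside the core generate it. -/
theorem Base.members_gen (h : Base p F S φ f) {A : Subgroup G} {g : G} (h2 : Frame2 p F S φ f A g)
    (H : Subgroup G) (hH : ∀ B, Fam S f B → B ≤ Cfsg.pCore p G → B ≤ H) : Cfsg.pCore p G ≤ H := by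
  set Q := Cfsg.pCore p G
  haveI : Nonempty {B : Subgroup G // Fam S f B ∧ B ≤ Q} := ⟨⟨_, h2.famB, h2.bb_le⟩⟩
  set Js := ⨆ B : {B : Subgroup G // Fam S f B ∧ B ≤ Q}, B.1
  have hJm : Mem S f Js := mem_iSup h.res.bound fun B => (B.2.1.mem h.res.bound).1
  have hJQ : Js ≤ Q := iSup_le fun B => B.2.2
  have hmem : ∀ {B}, Fam S f B → B ≤ Q → B ≤ Js := fun hB hBQ =>
    le_iSup (fun B : {B : Subgroup G // Fam S f B ∧ B ≤ Q} => B.1) ⟨_, hB, hBQ⟩
  have hKz : cS S Js ≤ zm p A g := by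
    rw [← h2.cS_M]
    exact cS_anti (sup_le (hmem h2.famB h2.bb_le) (hmem h2.famB' h2.cjB_le))
  have hV : vG p G ≤ cS S Js := h.cS_Q ▸ cS_anti hJQ
  have hd0 : ∀ d ∈ dd p A g, d ∈ cS S Js → d ∈ v0 p G := by
    intro d hd hdK
    have hdT := h2.dd_le_tt hd
    have hdS : d ∈ S := hdK.1
    refine h2.tt_inf_Z (mem_cS.2 ⟨hdS, fun r hr => ?_⟩) hdT
    suffices hs : S ≤ centralizer ({d} : Set G) from mem_centralizer_singleton_iff.1 (hs hr)
    refine h.res.gen _ fun A1 hA1 x hx => mem_centralizer_singleton_iff.2 ?_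
    by_cases hA1Q : A1 ≤ Q
    · exact comm_cS hdK (hmem hA1 hA1Q hx)
    have hB1 := h.exchange hA1 hA1Q
    have hB1Q : (A1 ⊓ Q) ⊔ vG p G ≤ Q := sup_le inf_le_right fun v hv => hv.1
    have hdB : d ∈ (A1 ⊓ Q) ⊔ vG p G :=
      (hB1.mem h.res.bound).2.le (cS_anti (hmem hB1 hB1Q) hdK)
    obtain ⟨u1, hu1, v, hv, rfl⟩ := mem_sup_normal hdB
    obtain ⟨a1, ha1, ha1Q⟩ := Set.not_subset.1 hA1Q
    have hvZ : v ∈ cS S S := by
      refine h.nat_comm h2.opp hv (hA1.1 ha1) ha1Q (h2.tt_inf_Z ?_ ?_)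
      · have := inv_mem (h.comm_V hv (hA1.1 ha1))
        rwa [commutatorElement_inv] at this
      · have e : ⁅a1, v⁆ = ⁅a1, u1 * v⁆ := by
          have h1 : ⁅a1, u1⁆ = 1 := commutatorElement_eq_one_iff_mul_comm.2 (hA1.2.1 a1 ha1 u1 hu1.1)
          rw [show ⁅a1, u1 * v⁆ = ⁅a1, u1⁆ * (u1 * ⁅a1, v⁆ * u1⁻¹) by
            simp only [commutatorElement_def]; group, h1, one_mul]
          have h2 : ⁅a1, v⁆ ∈ vG p G := by
            rw [commutatorElement_def]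
            exact mul_mem ((inferInstance : (vG p G).Normal).conj_mem v hv a1) (inv_mem hv)
          rw [h.commV h2 hu1.2, mul_inv_cancel_right]
        rw [e, commutatorElement_def]
        exact mul_mem ((inferInstance : (tt p G).Normal).conj_mem _ hdT a1) (inv_mem hdT)
    exact hA1.2.1 x hx _ (mul_mem hu1.1 (h.center_le (hA1.mem h.res.bound).1 hvZ))
  have hKV : cS S Js = vG p G := by
    refine le_antisymm (fun x hx => ?_) hV
    obtain ⟨d, hd, v, hv, rfl⟩ := mem_sup_normal (h2.zm_eq ▸ hKz hx)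
    refine mul_mem (mem_v0.1 (hd0 d hd ?_)).1 hv
    simpa using mul_mem hx (inv_mem (hV hv))
  calc Q = Js := by rw [← (hJm.cS h.res.bound).2, hKV, h.V_spec.2]
    _ ≤ H := iSup_le fun B => hH _ B.2.1 B.2.2

namespace Frame2

variable {A : Subgroup G} {g : G} (h : Frame2 p F S φ f A g)
include h

/-- `[M, O_p(G)]` lies in the kernel. -/
theorem comm_MQ (hsep : Sep p S f) {m x : G} (hm : m ∈ mm p A g) (hx : x ∈ Cfsg.pCore p G) :
    ⁅m, x⁆ ∈ tt p G := by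
  set M := mm p A g
  set Q := Cfsg.pCore p G
  have hTn : ∀ y : G, ∀ c ∈ tt p G, y * c * y⁻¹ ∈ tt p G := fun y c hc =>
    (inferInstance : (tt p G).Normal).conj_mem c hc y
  let H : Subgroup G :=
    { carrier := {x | x ∈ Q ∧ ∀ m ∈ M, ⁅m, x⁆ ∈ tt p G}
      one_mem' := ⟨one_mem _, fun m _ => by simp⟩
      mul_mem' := fun {a b} ha hb => ⟨mul_mem ha.1 hb.1, fun m hm => by
        rw [show ⁅m, a * b⁆ = ⁅m, a⁆ * (a * ⁅m, b⁆ * a⁻¹) by simp only [commutatorElement_def]; group]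
        exact mul_mem (ha.2 m hm) (hTn a _ (hb.2 m hm))⟩
      inv_mem' := fun {a} ha => ⟨inv_mem ha.1, fun m hm => by
        rw [show ⁅m, a⁻¹⁆ = a⁻¹ * ⁅m, a⁆⁻¹ * a⁻¹⁻¹ by simp only [commutatorElement_def]; group]
        exact hTn _ _ (inv_mem (ha.2 m hm))⟩ }
  suffices hQ : Q ≤ H from (hQ hx).2 m hm
  refine h.base.members_gen h H fun B1 hB1 hB1Q b hb => ⟨hB1Q hb, ?_⟩
  have hBm := hB1.mem h.hb
  have hN1 := h.M_mem.sup h.hb hBm.1
  have hN1n := h.E_norm hN1 le_sup_left (sup_le h.M_le hB1Q)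
  let Kf : Subgroup G :=
    { carrier := {m | m ∈ M ∧ ∀ c ∈ B1, ⁅m, c⁆ ∈ tt p G}
      one_mem' := ⟨one_mem _, fun c _ => by simp⟩
      mul_mem' := fun {a b} ha hb => ⟨mul_mem ha.1 hb.1, fun c hc => by
        rw [commutatorElement_mul_left_eq_conj_mul]
        exact mul_mem (hTn a _ (hb.2 c hc)) (ha.2 c hc)⟩
      inv_mem' := fun {a} ha => ⟨inv_mem ha.1, fun c hc => by
        rw [show ⁅a⁻¹, c⁆ = a⁻¹ * ⁅a, c⁆⁻¹ * a⁻¹⁻¹ by simp only [commutatorElement_def]; group]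
        exact hTn _ _ (inv_mem (ha.2 c hc))⟩ }
  suffices hM : M ≤ Kf from fun m hm => (hM hm).2 b hb
  have hKfn : ∀ e ∈ ee A g, ∀ m ∈ Kf, e * m * e⁻¹ ∈ Kf := by
    intro e he m hm
    refine ⟨(mem_normalizer_iff.1 (h.norm_M he) m).1 hm.1, fun c hc => ?_⟩
    have h1 : e⁻¹ * c * e ∈ M ⊔ B1 := by
      simpa using (mem_normalizer_iff.1 (inv_mem (hN1n he)) c).1 (mem_sup_right hc)
    obtain ⟨m1, hm1, b1, hb1, e1⟩ := h.M_mem.exists_mul h.hb hBm.1 h1
    rw [show ⁅e * m * e⁻¹, c⁆ = e * ⁅m, e⁻¹ * c * e⁆ * e⁻¹ by simp only [commutatorElement_def]; group,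
      e1, show ⁅m, m1 * b1⁆ = ⁅m, m1⁆ * (m1 * ⁅m, b1⁆ * m1⁻¹) by simp only [commutatorElement_def]; group]
    exact hTn e _ (mul_mem (h.derived_le_tt hm.1 hm1) (hTn _ _ (hm.2 b1 hb1)))
  set Y1 := B1 ⊓ M ⊔ zm p A g
  have hY1 : Mem S f Y1 := (hBm.1.inf h.hb h.M_mem).sup h.hb h.zm_mem
  have hY1M : Y1 ≤ M := sup_le inf_le_right h.zm_le_M
  have hY1c : cS S Y1 = Y1 := by
    rw [cS_sup, hBm.1.cS_inf h.hb h.M_mem, hBm.2, h.cS_M, h.cS_zm, inf_comm,
      hBm.1.modular' h.hb h.zm_mem h.zm_le_M, inf_comm]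
  have hY1K : Y1 ≤ Kf := by
    refine sup_le (fun y hy => ⟨hy.2, fun c hc => ?_⟩) fun z hz => ⟨h.zm_le_M hz, fun c hc => ?_⟩
    · rw [commutatorElement_eq_one_iff_mul_comm.2 (hB1.2.1 y hy.1 c hc)]; exact one_mem _
    · have := inv_mem (h.comm_zm_tt (hB1Q hc) hz)
      rwa [commutatorElement_inv] at this
  set K := ⨆ e : ↥(ee A g), cj (e : G) Y1
  have hKm : Mem S f K := mem_iSup h.hb fun e => h.mem_cj_M hY1 le_sup_right hY1M _
  have hKKf : K ≤ Kf := iSup_le fun e => by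
    rintro _ ⟨y, hy, rfl⟩
    exact hKfn e e.2 y (hY1K hy)
  have hY1le : Y1 ≤ K := le_iSup_of_le (1 : ↥(ee A g)) (cj_one _).ge
  have hKn : ee A g ≤ normalizer (K : Set G) := fun e he => mem_normalizer_fintype fun y hy => by
    have hle : cj e K ≤ K := cj_iSup_le (fun i : ↥(ee A g) => cj (i : G) Y1) e
      (fun i => ⟨e, he⟩ * i) fun i => by
        simp only [cj_cj, Subgroup.coe_mul]
    exact hle (conj_mem_cj hy)
  have hCY : cS S K ≤ Y1 := (cS_anti hY1le).trans hY1c.le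
  have hC := hKm.cS h.hb
  have hKM : K ≤ M := fun y hy => (hKKf hy).1
  have e2 := h.star hsep hC.1 (h.cS_M.ge.trans (cS_anti hKM)) (hCY.trans hY1M)
    ((hCY.trans hY1le).trans hC.2.ge)
    (fun e he => mem_normalizer_fintype fun c hc => by
      refine mem_cS.2 ⟨h.M_mem.1 ((mem_normalizer_iff.1 (h.norm_M he) c).1 (hY1M (hCY hc))), fun r hr => ?_⟩
      have h1 : e⁻¹ * r * e ∈ K := by simpa using (mem_normalizer_iff.1 (inv_mem (hKn he)) r).1 hr
      calc r * (e * c * e⁻¹) = e * ((e⁻¹ * r * e) * c) * e⁻¹ := by group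
        _ = e * (c * (e⁻¹ * r * e)) * e⁻¹ := by rw [comm_cS hc h1]
        _ = _ := by group)
  calc M = K := by rw [← hC.2, e2, h.cS_zm]
    _ ≤ Kf := hKKf

theorem mem_tt_of_comm {c : G} (hc : c ∈ Cfsg.pCore p G)
    (hl : ∀ l ∈ Cfsg.pResidual p G, ⁅l, c⁆ ∈ tt p G) : c ∈ tt p G := by
  refine ⟨hc, ?_⟩
  suffices hs : Cfsg.pResidual p G ≤ centralizer ({c} : Set G) by
    exact fun l hl' => mem_centralizer_singleton_iff.1 (hs hl')
  refine (closure_le _).2 fun l hl' => mem_centralizer_singleton_iff.2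
    (commutatorElement_eq_one_iff_mul_comm.1 ?_)
  have hlL := Transfer.NormalPComplement.mem_pResidual_of_coprime (p := p) hl'
  refine mem_bot.1 (stability (p := p) (N := ⊥) (by rw [normalizer_eq_top]; exact mem_top _)
    (by rw [normalizer_eq_top]; exact mem_top _) hl' ?_ ?_)
  · exact h.base.exists_pow (h.base.hQS (hl l hlL).1)
  · rw [mem_bot, commutatorElement_eq_one_iff_mul_comm]
    exact (mem_tt.1 (hl l hlL)).2 l hlL

theorem exists_conj_eq {x l : G} (hx : x ∈ Cfsg.pCore p G) (hl : l ∈ Cfsg.pResidual p G) :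
    ∃ m ∈ mm p A g, l * x * l⁻¹ = m * x :=
  ⟨⁅l, x⁆, by simpa only [commutatorElement_inv] using inv_mem (h.comm_QL hx hl),
    by rw [commutatorElement_def]; group⟩

/-- The derived subgroup of the core lies in the kernel. -/
theorem comm_QQ (hsep : Sep p S f) {x y : G} (hx : x ∈ Cfsg.pCore p G) (hy : y ∈ Cfsg.pCore p G) :
    ⁅x, y⁆ ∈ tt p G := by
  have hcQ : ⁅x, y⁆ ∈ Cfsg.pCore p G := by
    rw [commutatorElement_def]; exact mul_mem (mul_mem (mul_mem hx hy) (inv_mem hx)) (inv_mem hy)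
  refine h.mem_tt_of_comm hcQ fun l hl => ?_
  obtain ⟨m, hm, e⟩ := h.exists_conj_eq hx hl
  obtain ⟨m', hm', e'⟩ := h.exists_conj_eq hy hl
  have key : l * ⁅x, y⁆ * l⁻¹ = ⁅m * x, m' * y⁆ := by
    rw [← e, ← e']; simp only [commutatorElement_def]; group
  set q := QuotientGroup.mk' (tt p G)
  have hcm : ∀ {a b : G}, a ∈ mm p A g → b ∈ Cfsg.pCore p G → Commute (q a) (q b) := fun ha hb => by
    rw [← commutatorElement_eq_one_iff_commute, ← map_commutatorElement]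
    exact (QuotientGroup.eq_one_iff _).2 (h.comm_MQ hsep ha hb)
  refine (QuotientGroup.eq_one_iff _).1 (?_ : q ⁅l, ⁅x, y⁆⁆ = 1)
  rw [show ⁅l, ⁅x, y⁆⁆ = l * ⁅x, y⁆ * l⁻¹ * ⁅x, y⁆⁻¹ from rfl, key, map_mul, map_inv, mul_inv_eq_one,
    map_commutatorElement, map_commutatorElement, map_mul, map_mul]
  have hMQ := h.M_le
  calc ⁅q m * q x, q m' * q y⁆ = q m * ⁅q x, q m' * q y⁆ * (q m)⁻¹ * ⁅q m, q m' * q y⁆ :=
        commutatorElement_mul_left_eq_conj_mul _ _ _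
    _ = ⁅q x, q y⁆ := by
      rw [commutatorElement_eq_one_iff_commute.2 ((hcm hm (hMQ hm')).mul_right (hcm hm hy)), mul_one,
        show ⁅q x, q m' * q y⁆ = ⁅q x, q m'⁆ * (q m' * ⁅q x, q y⁆ * (q m')⁻¹) by
          simp only [commutatorElement_def]; group,
        commutatorElement_eq_one_iff_commute.2 (hcm hm' hx).symm, one_mul,
        show q m' * ⁅q x, q y⁆ * (q m')⁻¹ = ⁅q x, q y⁆ by
          rw [← map_commutatorElement, (hcm hm' hcQ).eq, mul_inv_cancel_right],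
        ← map_commutatorElement, (hcm hm hcQ).eq, mul_inv_cancel_right]

/-- The `p`-th powers of the core lie in the kernel. -/
theorem pow_Q (hsep : Sep p S f) {x : G} (hx : x ∈ Cfsg.pCore p G) : x ^ p ∈ tt p G := by
  refine h.mem_tt_of_comm (pow_mem hx p) fun l hl => ?_
  obtain ⟨m, hm, e⟩ := h.exists_conj_eq hx hl
  rw [commutatorElement_def, ← conj_pow, e]
  set q := QuotientGroup.mk' (tt p G)
  refine (QuotientGroup.eq_one_iff _).1 (?_ : q ((m * x) ^ p * (x ^ p)⁻¹) = 1)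
  have hcm : Commute (q m) (q x) := by
    rw [← commutatorElement_eq_one_iff_commute, ← map_commutatorElement]
    exact (QuotientGroup.eq_one_iff _).2 (h.comm_MQ hsep hm hx)
  have hm' : q m ^ p = 1 := by
    rw [← map_pow]
    exact (QuotientGroup.eq_one_iff _).2 (h.dd_le_tt (h.pow_mem_dd hsep hm))
  rw [map_mul, map_inv, map_pow, map_pow, map_mul, hcm.mul_pow, hm', one_mul, mul_inv_cancel]

end Frame2

end Cfsg.Agent.GenA.GN
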