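import Cfsg.Agent.GenA.GN.SZero

/-!
Invariance of the characteristic subgroups used under isomorphisms.
-/

set_option autoImplicit false
set_option linter.unusedSectionVars false

namespace Cfsg.Agent.GenA.GN

open Subgroup Cfsg.Agent.CharP
open scoped commutatorElement

variable {S T : Type*} [Group S] [Group T] [Finite S] [Finite T] {p : ℕ} [hp : Fact p.Prime]

/-- The image of a subgroup under an isomorphism. -/
abbrev mapE (e : S ≃* T) (X : Subgroup S) : Subgroup T := X.map e.toMonoidHom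

theorem mapE_symm (e : S ≃* T) (X : Subgroup T) : mapE e (mapE e.symm X) = X := by
  ext x
  simp [mapE, Subgroup.map_map]

theorem card_mapE (e : S ≃* T) (X : Subgroup S) : Nat.card ↥(mapE e X) = Nat.card X :=
  card_map_of_injective e.injective

theorem map_isMulCommutative {A : Subgroup S} (h : IsMulCommutative ↥A) (τ : S →* T) :
    IsMulCommutative ↥(A.map τ) := ⟨⟨by
  rintro ⟨_, a, ha, rfl⟩ ⟨_, b, hb, rfl⟩
  refine Subtype.ext ?_
  show τ a * τ b = τ b * τ a
  rw [← map_mul, ← map_mul]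
  exact congrArg τ (congrArg Subtype.val (h.is_comm.comm ⟨a, ha⟩ ⟨b, hb⟩))⟩⟩

theorem maxAbelian_mapE (e : S ≃* T) {A : Subgroup S} (hA : A ∈ Cfsg.maxAbelianSubgroups S) :
    mapE e A ∈ Cfsg.maxAbelianSubgroups T := by
  refine ⟨map_isMulCommutative hA.1 _, fun B hB => ?_⟩
  rw [card_mapE, ← card_mapE e.symm B]
  exact hA.2 _ (map_isMulCommutative hB _)

theorem map_thompsonA (e : S ≃* T) : mapE e (Cfsg.thompsonSubgroupA S) = Cfsg.thompsonSubgroupA T := by
  refine le_antisymm (map_le_iff_le_comap.2 (sSup_le fun A hA => map_le_iff_le_comap.1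
    (le_sSup (maxAbelian_mapE e hA)))) ?_
  conv_lhs => rw [← mapE_symm e (Cfsg.thompsonSubgroupA T)]
  exact Subgroup.map_mono (map_le_iff_le_comap.2 (sSup_le fun A hA => map_le_iff_le_comap.1
    (le_sSup (maxAbelian_mapE e.symm hA))))

theorem map_centralizer' (e : S ≃* T) (X : Subgroup S) :
    mapE e (centralizer (X : Set S)) = centralizer (mapE e X : Set T) := by
  ext y
  constructor
  · rintro ⟨x, hx, rfl⟩ _ ⟨a, ha, rfl⟩
    rw [← map_mul, ← map_mul, hx a ha]
  · intro hy
    refine ⟨e.symm y, fun a ha => e.injective ?_, e.apply_symm_apply y⟩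
    rw [map_mul, map_mul, e.apply_symm_apply]
    exact hy _ ⟨a, ha, rfl⟩

theorem maxCentralProduct_le_of_equiv (e : S ≃* T) :
    Cfsg.maxCentralProduct S ≤ Cfsg.maxCentralProduct T := by
  refine csSup_le ⟨_, ⊥, rfl⟩ ?_
  rintro k ⟨R, rfl⟩
  have h := card_mul_center_le (mapE e R)
  rwa [card_mapE, ← Nat.card_congr (Subgroup.centerCongr (R.equivMapOfInjective e.toMonoidHom e.injective)).toEquiv]
    at h

theorem maxCentralProduct_congr (e : S ≃* T) : Cfsg.maxCentralProduct S = Cfsg.maxCentralProduct T :=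
  le_antisymm (maxCentralProduct_le_of_equiv e) (maxCentralProduct_le_of_equiv e.symm)

theorem centrallyLarge_mapE (e : S ≃* T) {R : Subgroup S} (hR : Cfsg.IsCentrallyLarge R) :
    Cfsg.IsCentrallyLarge (mapE e R) := by
  unfold Cfsg.IsCentrallyLarge at hR ⊢
  rw [card_mapE, ← maxCentralProduct_congr e,
    ← Nat.card_congr (Subgroup.centerCongr (R.equivMapOfInjective e.toMonoidHom e.injective)).toEquiv]
  exact hR

theorem minimalCL_mapE (e : S ≃* T) {R : Subgroup S} (hR : Cfsg.IsMinimalCentrallyLarge R) :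
    Cfsg.IsMinimalCentrallyLarge (mapE e R) := by
  refine ⟨centrallyLarge_mapE e hR.1, fun R' hle hR' => ?_⟩
  have h1 : mapE e.symm R' ≤ R := by
    refine (Subgroup.map_mono hle).trans (le_of_eq ?_)
    exact mapE_symm e.symm R
  rw [← mapE_symm e R', hR.2 _ h1 (centrallyLarge_mapE e.symm hR')]

theorem map_mclJoin_le (e : S ≃* T) :
    mapE e (Cfsg.minimalCentrallyLargeJoin S) ≤ Cfsg.minimalCentrallyLargeJoin T :=
  map_le_iff_le_comap.2 (sSup_le fun _ hR => map_le_iff_le_comap.1 (le_sSup (minimalCL_mapE e hR)))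

theorem map_mclJoin (e : S ≃* T) :
    mapE e (Cfsg.minimalCentrallyLargeJoin S) = Cfsg.minimalCentrallyLargeJoin T := by
  refine le_antisymm (map_mclJoin_le e) ?_
  conv_lhs => rw [← mapE_symm e (Cfsg.minimalCentrallyLargeJoin T)]
  exact Subgroup.map_mono (map_mclJoin_le e.symm)

theorem maxOmega_le_of_equiv (e : S ≃* T) :
    Cfsg.maxOmegaCenterOfMinimalCL p S ≤ Cfsg.maxOmegaCenterOfMinimalCL p T := by
  obtain ⟨Q, hQ, hk⟩ := PushingUpMCL.exists_maxOmega S p
  have h := PushingUpMCL.omega_le_max (p := p) (minimalCL_mapE e hQ)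
  rwa [← PushingUpMCL.map_omegaOneCenter e.injective, card_map_of_injective e.injective, hk] at h

theorem map_frattiniMCL_le (e : S ≃* T) :
    mapE e (Cfsg.frattiniOfMinimalCLJoin p S) ≤ Cfsg.frattiniOfMinimalCLJoin p T := by
  rw [mapE, Cfsg.frattiniOfMinimalCLJoin, Subgroup.map_iSup]
  refine iSup_le fun Q => ?_
  rw [PushingUpMCL.frattini_map_eq e.injective]
  refine le_iSup (fun R : {R : Subgroup T // Cfsg.IsMinimalCentrallyLarge R ∧
    Nat.card ↥(Cfsg.omegaOneCenter p R) = Cfsg.maxOmegaCenterOfMinimalCL p T} =>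
      (frattini ↥R.1).map R.1.subtype) ⟨_, minimalCL_mapE e Q.2.1, ?_⟩
  rw [← PushingUpMCL.map_omegaOneCenter e.injective, card_map_of_injective e.injective, Q.2.2]
  exact le_antisymm (maxOmega_le_of_equiv e) (maxOmega_le_of_equiv e.symm)

theorem map_frattiniMCL (e : S ≃* T) :
    mapE e (Cfsg.frattiniOfMinimalCLJoin p S) = Cfsg.frattiniOfMinimalCLJoin p T := by
  refine le_antisymm (map_frattiniMCL_le e) ?_
  conv_lhs => rw [← mapE_symm e (Cfsg.frattiniOfMinimalCLJoin p T)]
  exact Subgroup.map_mono (map_frattiniMCL_le e.symm)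

theorem map_frattini (e : S ≃* T) : mapE e (frattini S) = frattini T := by
  refine le_antisymm (map_le_iff_le_comap.2 (frattini_le_comap_frattini_of_surjective e.surjective)) ?_
  intro y hy
  refine ⟨e.symm y, ?_, e.apply_symm_apply y⟩
  exact frattini_le_comap_frattini_of_surjective (φ := e.symm.toMonoidHom) e.symm.surjective hy

theorem map_powerClosure_top (e : S ≃* T) :
    mapE e (Cfsg.powerClosure p 1 (⊤ : Subgroup S)) = Cfsg.powerClosure p 1 (⊤ : Subgroup T) := by
  rw [mapE, Cfsg.powerClosure, Cfsg.powerClosure, MonoidHom.map_closure]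
  congr 1
  ext y
  constructor
  · rintro ⟨_, ⟨x, -, rfl⟩, rfl⟩
    exact ⟨e x, mem_top _, by simp⟩
  · rintro ⟨x, -, rfl⟩
    exact ⟨e.symm x ^ p ^ 1, ⟨_, mem_top _, rfl⟩, by simp⟩

theorem map_s0Sub (e : S ≃* T) : mapE e (s0Sub p S) = s0Sub p T := by
  have h1 := map_frattini e
  have h2 : mapE e ((frattini ↥(frattini S)).map (frattini S).subtype) =
      (frattini ↥(frattini T)).map (frattini T).subtype := by
    rw [mapE, PushingUpMCL.frattini_map_eq e.injective]
    exact congrArg (fun Y : Subgroup T => (frattini ↥Y).map Y.subtype) h1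
  have h3 : mapE e (⊤ : Subgroup S) = ⊤ := Subgroup.map_top_of_surjective _ e.surjective
  simp only [s0Sub]
  split_ifs
  · rw [mapE, Subgroup.map_sup, Subgroup.map_commutator]
    exact congrArg₂ (· ⊔ ·) (by rw [← h1, ← h3]) h2
  · rw [mapE, Subgroup.map_sup, Subgroup.map_commutator, Subgroup.map_commutator]
    exact congrArg₂ (· ⊔ ·) (by rw [← h1, ← h3]) h2
  · rw [mapE, Subgroup.map_sup, Subgroup.map_commutator]
    exact congrArg₂ (· ⊔ ·) (by rw [← h1, ← h3]) (map_powerClosure_top e)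

theorem om_map (τ : S →* T) (hτ : Function.Injective τ) (A : Subgroup S) : om p (A.map τ) = om p A := by
  refine (Nat.card_congr (Equiv.ofBijective
    (fun x : {x : S // x ∈ A ∧ x ^ p = 1} =>
      (⟨τ x, mem_map_of_mem τ x.2.1, by rw [← map_pow, x.2.2, map_one]⟩ : {y : T // y ∈ A.map τ ∧ y ^ p = 1}))
    ⟨fun x y hxy => Subtype.ext (hτ (congrArg Subtype.val hxy)), ?_⟩)).symm
  rintro ⟨_, ⟨x, hx, rfl⟩, hp⟩
  exact ⟨⟨x, hx, hτ (by rw [map_pow, hp, map_one])⟩, rfl⟩

end Cfsg.Agent.GenA.GN
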